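import Groth.Agent.Lib.ProEtS.Topology
import Groth.Agent.Lib.Olivier.Main
import Mathlib.FieldTheory.IsSepClosed

/-!
# Geometric points lift to pro-étale coverings
-/

set_option autoImplicit false
set_option backward.isDefEq.respectTransparency.types false

universe u

open CategoryTheory CategoryTheory.Limits AlgebraicGeometry Opposite

namespace GrothLib.ProEtS

theorem bijective_algebraMap_of_weaklyEtale {k L : Type u} [Field k] [IsSepClosed k] [CommRing L]
    [Algebra k L] [Algebra.WeaklyEtale k L] [IsLocalRing L] :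
    Function.Bijective (algebraMap k L) := by
  have hreg := Olivier.regular_of_weaklyEtale_field k L
  have hL : IsField L := ⟨⟨0, 1, zero_ne_one⟩, mul_comm, fun {a} ha => by
    obtain ⟨x, hx⟩ := hreg a
    have he : IsIdempotentElem (a * x) := by
      show a * x * (a * x) = a * x
      linear_combination x * hx
    rcases IsLocalRing.isUnit_or_isUnit_one_sub_self (a * x) with h | h
    · exact ⟨x, h.mul_left_cancel (he.trans (mul_one _).symm)⟩
    · refine absurd ?_ ha
      refine h.mul_left_cancel ?_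
      linear_combination -hx⟩
  letI := hL.toField
  haveI : Algebra.IsSeparable k L := WeakEtale.isSeparable_of_weaklyEtale
  exact ⟨RingHom.injective _, IsSepClosed.algebraMap_surjective k L⟩

theorem exists_section_of_isSepClosed {k : Type u} [Field k] [IsSepClosed k] {W : Scheme.{u}}
    (p : W ⟶ Spec (CommRingCat.of k)) [WeaklyEtale p] (w : W) :
    ∃ s : Spec (CommRingCat.of k) ⟶ W, s ≫ p = 𝟙 _ := by
  obtain ⟨φ, hφ⟩ := Spec.map_surjective (W.fromSpecStalk w ≫ p)
  letI := φ.hom.toAlgebra
  haveI : Algebra.WeaklyEtale k (W.presheaf.stalk w) :=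
    (WeakEtale.weaklyEtale_specMap_iff φ).1 (hφ ▸ inferInstance)
  have hb := bijective_algebraMap_of_weaklyEtale (k := k) (L := W.presheaf.stalk w)
  haveI : IsIso φ := (ConcreteCategory.isIso_iff_bijective φ).2 hb
  exact ⟨Spec.map (inv φ) ≫ W.fromSpecStalk w, by
    rw [Category.assoc, ← hφ, ← Spec.map_comp, IsIso.hom_inv_id, Spec.map_id]⟩

theorem exists_geomPoint_lift {X : Scheme.{u}} (U : X.ProEt) (R : Sieve U)
    (hR : R ∈ Scheme.ProEt.topology X U) {k : Type u} [Field k] [IsSepClosed k]
    (ξ : Spec (CommRingCat.of k) ⟶ U.left) :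
    ∃ (V : X.ProEt) (g : V ⟶ U) (ξ' : Spec (CommRingCat.of k) ⟶ V.left), R g ∧ ξ' ≫ g.left = ξ := by
  obtain ⟨ι, V, f, hf, hmem⟩ := exists_family hR
  haveI : Nonempty ↥(Spec (CommRingCat.of k)) :=
    inferInstanceAs (Nonempty (PrimeSpectrum k))
  let z : ↥(Spec (CommRingCat.of k)) := Classical.arbitrary _
  have h2 : Presieve.ofArrows (fun i => (V i).left) (fun i => (f i).left) ∈
      Scheme.precoverage @WeaklyEtale U.left := hmem.2
  obtain ⟨i, y, hy⟩ := ((Scheme.ofArrows_mem_precoverage_iff _).1 h2).1 (ξ z)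
  obtain ⟨w, -, -⟩ := Scheme.Pullback.exists_preimage_pullback (f := (f i).left) (g := ξ) y z hy
  haveI := weaklyEtale_left (f i)
  obtain ⟨s, hs⟩ := exists_section_of_isSepClosed (pullback.snd (f i).left ξ) w
  exact ⟨V i, f i, s ≫ pullback.fst _ _, hf i, by
    rw [Category.assoc, pullback.condition, reassoc_of% hs]⟩

end GrothLib.ProEtS
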