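import Groth.Agent.Lib.ProEtS.WC

/-!
# Coverings by weakly contractible objects
-/

set_option autoImplicit false
set_option backward.isDefEq.respectTransparency.types false

universe u

open CategoryTheory CategoryTheory.Limits AlgebraicGeometry Opposite

namespace GrothLib.ProEtS

variable {X : Scheme.{u}}

theorem isWC_of_isWContractible {U : X.ProEt} [IsAffine U.left]
    (h : EtPBC.IsWContractible ↥Γ(U.left, ⊤)) : ProEtS.IsWC U :=
  (wContractible_tfae (U := U)).1.1 h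

theorem exists_family_of_opens' (U : X.ProEt) {ι : Type u} (O' : ι → U.left.Opens)
    (hO : ∀ i, IsAffineOpen (O' i)) (hcov : ∀ x : U.left, ∃ i, x ∈ O' i) :
    ∃ (V : ι → X.ProEt) (g : ∀ i, V i ⟶ U),
      Sieve.generate (Presieve.ofArrows V g) ∈ Scheme.ProEt.topology X U ∧
        (∀ i, IsAffine (V i).left ∧ EtPBC.IsWContractible ↥Γ((V i).left, ⊤)) ∧
        ∀ i, ∃ l : (V i).left ⟶ ↑(O' i), l ≫ (O' i).ι = (g i).left := by
  haveI : ∀ i : ι, IsAffine (O' i) := hO
  have hw : ∀ i : ι, ∃ (V : Scheme.{u}) (g : V ⟶ ↑(O' i)), IsAffine V ∧ WeaklyEtale g ∧ Surjective g ∧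
      EtPBC.IsWContractible Γ(V, ⊤) := fun i => exists_affine_wContractible_cover _
  choose V g hV hg hs hC using hw
  haveI := fun i => hg i
  let W : ι → X.ProEt := fun i => Scheme.ProEt.mk ((g i ≫ (O' i).ι) ≫ U.hom)
  let f : ∀ i, W i ⟶ U := fun i => MorphismProperty.Over.homMk (g i ≫ (O' i).ι)
  refine ⟨W, f, ?_, fun i => ⟨hV i, hC i⟩, fun i => ⟨g i, rfl⟩⟩
  let O : ι → X.ProEt := fun i => Scheme.ProEt.mk ((O' i).ι ≫ U.hom)
  let o : ∀ i, O i ⟶ U := fun i => MorphismProperty.Over.homMk (O' i).ι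
  refine GrothendieckTopology.transitive _ (ofArrows_mem_of_isOpenMap O o
    (fun i => (O' i).ι.isOpenEmbedding.isOpenMap) fun x => ?_) _ ?_
  · obtain ⟨i, hi⟩ := hcov x
    exact ⟨i, ⟨x, hi⟩, rfl⟩
  · rintro Y h ⟨_, a, _, ⟨i⟩, rfl⟩
    rw [Sieve.pullback_comp]
    refine GrothendieckTopology.pullback_stable _ a ?_
    let q : W i ⟶ O i := MorphismProperty.Over.homMk (g i) (Category.assoc _ _ _).symm trivial
    haveI : Surjective q.left := hs i
    haveI : IsAffine (W i).left := hV i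
    haveI : IsAffine (O i).left := hO i
    refine GrothendieckTopology.superset_covering _ ?_ (generate_singleton_mem q)
    rw [Sieve.generate_le_iff]
    rintro _ _ ⟨⟩
    exact ⟨_, 𝟙 _, f i, ⟨i⟩, (Category.id_comp _).trans (MorphismProperty.Over.Hom.ext rfl)⟩

theorem exists_family_of_opens (U : X.ProEt) {ι : Type u} (O' : ι → U.left.Opens)
    (hO : ∀ i, IsAffineOpen (O' i)) (hcov : ∀ x : U.left, ∃ i, x ∈ O' i) :
    ∃ (V : ι → X.ProEt) (g : ∀ i, V i ⟶ U),
      Sieve.generate (Presieve.ofArrows V g) ∈ Scheme.ProEt.topology X U ∧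
        ∀ i, IsAffine (V i).left ∧ EtPBC.IsWContractible ↥Γ((V i).left, ⊤) :=
  (exists_family_of_opens' U O' hO hcov).imp fun _ => Exists.imp fun _ h => ⟨h.1, h.2.1⟩

theorem exists_family_wContractible (U : X.ProEt) :
    ∃ (ι : Type u) (V : ι → X.ProEt) (g : ∀ i, V i ⟶ U),
      Sieve.generate (Presieve.ofArrows V g) ∈ Scheme.ProEt.topology X U ∧
        ∀ i, IsAffine (V i).left ∧ EtPBC.IsWContractible ↥Γ((V i).left, ⊤) :=
  ⟨{W : U.left.Opens // IsAffineOpen W}, exists_family_of_opens U Subtype.val (fun i => i.2) fun x => by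
    obtain ⟨_, ⟨Z, hZ, rfl⟩, hx, -⟩ :=
      U.left.isBasis_affineOpens.exists_subset_of_mem_open (Set.mem_univ x) isOpen_univ
    exact ⟨⟨Z, hZ⟩, hx⟩⟩

theorem exists_sigma_cover (U : X.ProEt) {ι : Type u} (W : ι → X.ProEt) (f : ∀ i, W i ⟶ U)
    (hcov : Sieve.generate (Presieve.ofArrows W f) ∈ Scheme.ProEt.topology X U)
    (hW : ∀ i, ProEtS.IsWC (W i)) :
    ∃ (V : X.ProEt) (g : V ⟶ U), Sieve.generate (Presieve.singleton g) ∈ Scheme.ProEt.topology X U ∧
      ProEtS.IsWC V ∧ Nonempty (V.left ≅ ∐ fun i => (W i).left) := by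
  let G : (∐ fun i => (W i).left) ⟶ U.left := Sigma.desc fun i => (f i).left
  haveI : WeaklyEtale G := IsZariskiLocalAtSource.sigmaDesc fun i => weaklyEtale_left (f i)
  let V : X.ProEt := Scheme.ProEt.mk (G ≫ U.hom)
  let g : V ⟶ U := MorphismProperty.Over.homMk G
  let j : ∀ i, W i ⟶ V := fun i => MorphismProperty.Over.homMk (Sigma.ι (fun i => (W i).left) i)
    (by
      show Sigma.ι (fun i => (W i).left) i ≫ G ≫ U.hom = (W i).hom
      rw [← Category.assoc, Sigma.ι_desc, MorphismProperty.Over.w]) trivial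
  refine ⟨V, g, GrothendieckTopology.superset_covering _ ?_ hcov, ?_, ⟨Iso.refl _⟩⟩
  · rw [Sieve.generate_le_iff]
    rintro _ _ ⟨i⟩
    exact ⟨V, j i, g, ⟨⟩, MorphismProperty.Over.Hom.ext (Sigma.ι_desc _ _)⟩
  · haveI : ∀ i, IsOpenImmersion (j i).left := fun i =>
      inferInstanceAs (IsOpenImmersion (Sigma.ι (fun i => (W i).left) i))
    refine isWC_of_disjoint W j (fun k l hkl => Set.disjoint_left.2 fun z hz hz' => ?_)
      (fun z => (sigmaOpenCover (fun i => (W i).left)).exists_eq z)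
      hW
    exact ((disjoint_opensRange_sigmaι (fun i => (W i).left) k l hkl).le_bot
      (show z ∈ _ ⊓ _ from ⟨hz, hz'⟩))

theorem exists_cover_isWC (U : X.ProEt) :
    ∃ (V : X.ProEt) (g : V ⟶ U),
      Sieve.generate (Presieve.singleton g) ∈ Scheme.ProEt.topology X U ∧ ProEtS.IsWC V := by
  obtain ⟨ι, W, f, hcov, hW⟩ := exists_family_wContractible U
  obtain ⟨V, g, h1, h2, -⟩ := exists_sigma_cover U W f hcov fun i =>
    haveI := (hW i).1; isWC_of_isWContractible (hW i).2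
  exact ⟨V, g, h1, h2⟩

theorem exists_cover_affine_isWC (U : X.ProEt) [CompactSpace ↥U.left] :
    ∃ (V : X.ProEt) (g : V ⟶ U),
      Sieve.generate (Presieve.singleton g) ∈ Scheme.ProEt.topology X U ∧ IsAffine V.left ∧
        ProEtS.IsWC V := by
  obtain ⟨t, ht⟩ := isCompact_univ.elim_finite_subcover (fun W : {W : U.left.Opens // IsAffineOpen W} => (W.1 : Set U.left))
    (fun W => W.1.2) fun x _ => by
      obtain ⟨_, ⟨Z, hZ, rfl⟩, hx, -⟩ :=
        U.left.isBasis_affineOpens.exists_subset_of_mem_open (Set.mem_univ x) isOpen_univ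
      exact Set.mem_iUnion.2 ⟨⟨Z, hZ⟩, hx⟩
  obtain ⟨W, f, hcov, hW⟩ := exists_family_of_opens U (fun i : t => i.1.1) (fun i => i.1.2) fun x => by
    obtain ⟨i, hi, hx⟩ := Set.mem_iUnion₂.1 (ht (Set.mem_univ x))
    exact ⟨⟨i, hi⟩, hx⟩
  haveI := fun i => (hW i).1
  obtain ⟨V, g, h1, h2, ⟨e⟩⟩ := exists_sigma_cover U W f hcov fun i => isWC_of_isWContractible (hW i).2
  exact ⟨V, g, h1, IsAffine.of_isIso e.hom, h2⟩

end GrothLib.ProEtS
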