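import Mathlib.RingTheory.AdicCompletion.Basic
import Mathlib.RingTheory.Ideal.Operations
import Mathlib.Algebra.Module.LinearMap.End

/-!
# Completeness of extensions for a principal ideal
-/

set_option autoImplicit false
set_option linter.style.haveILetI false

namespace GrothLib.AdicCompleteExt

universe u v

variable {R : Type u} [CommRing R] {M : Type v} [AddCommGroup M] [Module R M]

theorem mem_span_pow_smul {a : R} {n : ℕ} {x : M} :
    x ∈ Ideal.span {a} ^ n • (⊤ : Submodule R M) ↔ ∃ y : M, a ^ n • y = x := by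
  rw [Ideal.span_singleton_pow, Submodule.ideal_span_singleton_smul, Submodule.mem_smul_pointwise_iff_exists]
  exact ⟨fun ⟨y, _, h⟩ => ⟨y, h⟩, fun ⟨y, h⟩ => ⟨y, trivial, h⟩⟩

variable {M' M'' : Type v} [AddCommGroup M'] [Module R M'] [AddCommGroup M''] [Module R M'']

/-- An extension of complete modules is complete when the torsion of the quotient is bounded. -/
theorem isAdicComplete_of_extension (a : R) (f : M' →ₗ[R] M) (g : M →ₗ[R] M'') (hf : Function.Injective f)
    (hg : Function.Surjective g) (hex : LinearMap.ker g = LinearMap.range f)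
    [IsAdicComplete (Ideal.span {a}) M'] [IsAdicComplete (Ideal.span {a}) M''] (N : ℕ)
    (hN : ∀ (k : ℕ) (x : M''), a ^ k • x = 0 → a ^ N • x = 0) : IsAdicComplete (Ideal.span {a}) M := by
  classical
  have key : ∀ (n : ℕ) (x' : M') (y : M), a ^ (n + N) • y = f x' → ∃ y' : M', a ^ n • y' = x' := by
    intro n x' y hy
    have h0 : g (f x') = 0 := by
      rw [← LinearMap.mem_ker, hex]
      exact ⟨x', rfl⟩
    have h1 : a ^ N • g y = 0 := hN (n + N) _ (by rw [← map_smul, hy, h0])
    have h2 : a ^ N • y ∈ LinearMap.range f := by rw [← hex, LinearMap.mem_ker, map_smul, h1]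
    obtain ⟨y', hy'⟩ := h2
    exact ⟨y', hf (by rw [map_smul, hy', smul_smul, ← pow_add, hy])⟩
  haveI : IsHausdorff (Ideal.span {a}) M := ⟨fun x hx => by
    have hy : ∀ n, ∃ y : M, a ^ n • y = x := fun n => by
      have := SModEq.sub_mem.1 (hx n)
      rw [sub_zero, mem_span_pow_smul] at this
      exact this
    have hgx : g x = 0 := IsHausdorff.haus' (I := Ideal.span {a}) _ fun n => by
      obtain ⟨y, rfl⟩ := hy n
      rw [SModEq.sub_mem, sub_zero, mem_span_pow_smul]
      exact ⟨g y, (map_smul g _ _).symm⟩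
    rw [← LinearMap.mem_ker, hex] at hgx
    obtain ⟨x', rfl⟩ := hgx
    have hx' : x' = 0 := IsHausdorff.haus' (I := Ideal.span {a}) _ fun n => by
      obtain ⟨y, hy⟩ := hy (n + N)
      rw [SModEq.sub_mem, sub_zero, mem_span_pow_smul]
      exact key n x' y hy
    rw [hx', map_zero]⟩
  haveI : IsPrecomplete (Ideal.span {a}) M := ⟨fun s hs => by
    have hu : ∀ n, ∃ u : M, s (n + 1) - s n = a ^ n • u := fun n => by
      obtain ⟨u, hu⟩ := mem_span_pow_smul.1 (SModEq.sub_mem.1 (hs (Nat.le_succ n)))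
      exact ⟨-u, by rw [smul_neg, hu, neg_sub]⟩
    choose u hu using hu
    obtain ⟨z'', hz''⟩ := IsPrecomplete.prec' (I := Ideal.span {a}) (fun n => g (s n)) (fun {m n} h => by
      obtain ⟨y, hy⟩ := mem_span_pow_smul.1 (SModEq.sub_mem.1 (hs h))
      rw [SModEq.sub_mem, mem_span_pow_smul]
      exact ⟨g y, by rw [← map_smul, hy, map_sub]⟩)
    obtain ⟨z, rfl⟩ := hg z''
    have hw : ∀ n, ∃ (w : M) (m : M'), s n - z - a ^ n • w = f m := fun n => by
      obtain ⟨w'', hw⟩ := mem_span_pow_smul.1 (SModEq.sub_mem.1 (hz'' n))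
      obtain ⟨w, rfl⟩ := hg w''
      have : s n - z - a ^ n • w ∈ LinearMap.range f := by
        rw [← hex, LinearMap.mem_ker, map_sub, map_sub, map_smul, hw, sub_self]
      obtain ⟨m, hm⟩ := this
      exact ⟨w, m, hm.symm⟩
    choose w m hm using hw
    have hd : ∀ k, ∃ e : M', m (k + N + 1) - m (k + N) = a ^ k • e := fun k => by
      obtain ⟨e, he⟩ := key k (m (k + N + 1) - m (k + N)) (u (k + N) - a • w (k + N + 1) + w (k + N)) (by
        rw [map_sub, ← hm, ← hm, smul_add, smul_sub, smul_smul, ← pow_succ, ← hu]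
        abel)
      exact ⟨e, he.symm⟩
    choose e he using hd
    have hstep : ∀ {p q : ℕ}, p ≤ q → ∃ y : M', a ^ p • y = m (p + N) - m (q + N) := by
      intro p q h
      induction q, h using Nat.le_induction with
      | base => exact ⟨0, by simp⟩
      | succ q hq ih =>
        obtain ⟨y, hy⟩ := ih
        refine ⟨y - a ^ (q - p) • e q, ?_⟩
        rw [smul_sub, hy, smul_smul, ← pow_add, Nat.add_sub_cancel' hq, ← he,
          show q + 1 + N = q + N + 1 by omega]
        abel
    obtain ⟨l, hl⟩ := IsPrecomplete.prec' (I := Ideal.span {a}) (fun k => m (k + N)) (fun {p q} h => by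
      rw [SModEq.sub_mem, mem_span_pow_smul]
      exact hstep h)
    refine ⟨z + f l, fun k => ?_⟩
    obtain ⟨y, hy⟩ := mem_span_pow_smul.1 (SModEq.sub_mem.1 (hl k))
    obtain ⟨v, hv⟩ := mem_span_pow_smul.1 (SModEq.sub_mem.1 (hs (Nat.le_add_right k N)))
    rw [SModEq.sub_mem, mem_span_pow_smul]
    refine ⟨v + a ^ N • w (k + N) + f y, ?_⟩
    rw [smul_add, smul_add, hv, smul_smul, ← pow_add, ← map_smul, hy, map_sub, ← hm (k + N)]
    abel⟩
  exact {}

end GrothLib.AdicCompleteExt
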