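import Groth.Agent.Lib.ARSys.AdicCat
import Groth.Agent.Lib.AdicLim.System
import Mathlib.Algebra.Category.ModuleCat.Abelian
import Mathlib.Algebra.Category.ModuleCat.Limits
import Mathlib.CategoryTheory.Linear.FunctorCategory
import Mathlib.CategoryTheory.Limits.Types.Limits

/-!
# Adic systems of modules and their limits
-/

set_option autoImplicit false
set_option linter.style.haveILetI false

universe w

open CategoryTheory CategoryTheory.Limits Opposite

noncomputable section

namespace GrothLib.AdicModule

open _root_.ARSys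

variable {A : Type w} [CommRing A]

theorem smul_eq_zero_of_killedBy {I : Ideal A} {M : ModuleCat.{w} A} (h : KilledBy I M) {a : A} (ha : a ∈ I) (x : M) :
    a • x = 0 := by
  have := congrArg (fun φ : M ⟶ M => φ x) (h a ha)
  simpa using this

theorem killedBy_of_smul {I : Ideal A} {M : ModuleCat.{w} A} (h : ∀ a ∈ I, ∀ x : M, a • x = 0) : KilledBy I M :=
  fun a ha => ModuleCat.hom_ext (LinearMap.ext fun x => by simpa using h a ha x)

/-- Quotient maps modulo an ideal of modules. -/
theorem isQuot_iff {I : Ideal A} {M Q : ModuleCat.{w} A} (p : M ⟶ Q) :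
    IsQuot I p ↔ Function.Surjective p.hom ∧ LinearMap.ker p.hom = I • (⊤ : Submodule A M) := by
  have hle : KilledBy I Q → I • (⊤ : Submodule A M) ≤ LinearMap.ker p.hom := fun h => by
    rw [Submodule.smul_le]
    intro a ha x _
    rw [LinearMap.mem_ker, map_smul]
    exact smul_eq_zero_of_killedBy h ha _
  constructor
  · intro h
    haveI := GrothLib.ARSys.IsQuot.epi h
    refine ⟨(ModuleCat.epi_iff_surjective p).1 inferInstance, le_antisymm ?_ (hle h.1)⟩
    let q : M ⟶ ModuleCat.of A (M ⧸ I • (⊤ : Submodule A M)) := ModuleCat.ofHom (Submodule.mkQ _)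
    have hq : HomKilledBy I q := fun a ha => ModuleCat.hom_ext (LinearMap.ext fun x => by
      show a • Submodule.Quotient.mk x = (0 : M ⧸ I • (⊤ : Submodule A M))
      rw [← Submodule.Quotient.mk_smul, Submodule.Quotient.mk_eq_zero]
      exact Submodule.smul_mem_smul ha trivial)
    obtain ⟨ψ, hψ, -⟩ := h.2 _ q hq
    intro x hx
    have h1 : Submodule.Quotient.mk (p := I • (⊤ : Submodule A M)) x = ψ (p x) :=
      (ConcreteCategory.congr_hom hψ x).symm
    rw [show p x = 0 from hx, map_zero] at h1
    exact (Submodule.Quotient.mk_eq_zero _).1 h1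
  · rintro ⟨hs, hk⟩
    haveI : Epi p := (ModuleCat.epi_iff_surjective p).2 hs
    refine ⟨killedBy_of_smul fun a ha y => ?_, fun Y φ hφ => ?_⟩
    · obtain ⟨x, rfl⟩ := hs y
      rw [← map_smul, ← LinearMap.mem_ker, hk]
      exact Submodule.smul_mem_smul ha trivial
    · have hker : LinearMap.ker p.hom ≤ LinearMap.ker φ.hom := by
        rw [hk, Submodule.smul_le]
        intro a ha x _
        rw [LinearMap.mem_ker, map_smul]
        simpa using congrArg (fun t : M ⟶ Y => t x) (hφ a ha)
      refine ⟨ModuleCat.ofHom (((LinearMap.ker p.hom).liftQ φ.hom hker).comp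
        (p.hom.quotKerEquivOfSurjective hs).symm.toLinearMap), ?_, fun y hy => ?_⟩
      · refine ModuleCat.hom_ext (LinearMap.ext fun x => ?_)
        show (LinearMap.ker p.hom).liftQ φ.hom hker ((p.hom.quotKerEquivOfSurjective hs).symm (p x)) = φ x
        rw [show (p.hom.quotKerEquivOfSurjective hs).symm (p x) = Submodule.Quotient.mk x from
          (LinearEquiv.symm_apply_eq _).2 rfl]
        rfl
      · rw [← cancel_epi p, hy]
        refine ModuleCat.hom_ext (LinearMap.ext fun x => ?_)
        show φ x = (LinearMap.ker p.hom).liftQ φ.hom hker ((p.hom.quotKerEquivOfSurjective hs).symm (p x))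
        rw [show (p.hom.quotKerEquivOfSurjective hs).symm (p x) = Submodule.Quotient.mk x from
          (LinearEquiv.symm_apply_eq _).2 rfl]
        rfl

/-- The transition map as a linear map. -/
abbrev step (M : PS (ModuleCat.{w} A)) (n : ℕ) : M.obj (op (n + 1)) →ₗ[A] M.obj (op n) :=
  (tr M (Nat.le_succ n)).hom

/-- A compatible family gives an element of a limit. -/
theorem exists_of_isLimit {M : PS (ModuleCat.{w} A)} {c : Cone M} (hc : IsLimit c)
    (y : ∀ n : ℕ, M.obj (op n)) (hy : ∀ n, step M n (y (n + 1)) = y n) :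
    ∃ x : c.pt, ∀ n, c.π.app (op n) x = y n := by
  have hle : ∀ {m n : ℕ} (h : n ≤ m), tr M h (y m) = y n := by
    intro m n h
    induction m, h using Nat.le_induction with
    | base => exact ConcreteCategory.congr_hom (GrothLib.ARSys.tr_self (X := M) le_rfl) _
    | succ m hm ih =>
      refine (ConcreteCategory.congr_hom (GrothLib.ARSys.tr_tr (X := M) hm (Nat.le_succ m)) (y (m + 1))).symm.trans ?_
      exact (congrArg (tr M hm) (hy m)).trans ih
  have hl := isLimitOfPreserves (forget (ModuleCat.{w} A)) hc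
  let t := (Types.isLimitEquivSections hl).symm ⟨fun n => y n.unop, fun {a b} f => hle f.unop.le⟩
  exact ⟨t, fun n => Types.isLimitEquivSections_symm_apply hl _ (op n)⟩

theorem eq_zero_of_isLimit {M : PS (ModuleCat.{w} A)} {c : Cone M} (hc : IsLimit c) {x : c.pt}
    (h : ∀ n, c.π.app (op n) x = 0) : x = 0 :=
  Concrete.isLimit_ext M hc x 0 fun j => (h j.unop).trans (map_zero (c.π.app j).hom).symm

/-- A projection of a cone as a linear map. -/
abbrev proj {M : PS (ModuleCat.{w} A)} (c : Cone M) (n : ℕ) : c.pt →ₗ[A] M.obj (op n) := (c.π.app (op n)).hom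

/-- The limit of an adic system of modules. -/
theorem isLimitSystem_of_isAdic {I : Ideal A} {M : PS (ModuleCat.{w} A)} (hM : IsAdic I M) {c : Cone M}
    (hc : IsLimit c) :
    GrothLib.AdicLim.IsLimitSystem I (M := fun n => M.obj (op n)) (step M) (proj c) where
  surj n := ((isQuot_iff _).1 (hM.2 n (n + 1) (Nat.le_succ n))).1
  ker n := ((isQuot_iff _).1 (hM.2 n (n + 1) (Nat.le_succ n))).2
  comm n := by
    ext x
    exact ConcreteCategory.congr_hom (c.w (homOfLE (Nat.le_succ n)).op) x
  inj x h := eq_zero_of_isLimit hc h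
  lift y hy := exists_of_isLimit hc y hy

theorem isQuot_π {I : Ideal A} (hI : I.FG) {M : PS (ModuleCat.{w} A)} (hM : IsAdic I M) {c : Cone M}
    (hc : IsLimit c) (n : ℕ) : IsQuot (I ^ (n + 1)) (c.π.app (op n)) :=
  (isQuot_iff _).2 ⟨(isLimitSystem_of_isAdic hM hc).proj_surjective n,
    (isLimitSystem_of_isAdic hM hc).ker_eq_of_fg hI n⟩

end GrothLib.AdicModule
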