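import Groth.Agent.Lib.ProEtS.EpsModExact
import Groth.Agent.Lib.DerCat.DimShiftRD
import Groth.Agent.Lib.TrivMod.Et

/-!
# The essential image of `ε⁻¹` on sheaves of modules
-/

set_option autoImplicit false
set_option linter.style.haveILetI false
set_option linter.unusedSectionVars false
set_option backward.isDefEq.respectTransparency.types false

universe u

open CategoryTheory CategoryTheory.Limits AlgebraicGeometry Opposite

noncomputable section

namespace GrothLib.ProEtS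

variable {X : Scheme.{u}} {Λ : Type (u + 1)} [CommRing Λ] [ProEtS.EpsCont X]

theorem isIso_unit : IsIso (epsAdjMod Λ X).unit :=
  haveI := fun G => isIso_epsAdjMod_unit (X := X) (Λ := Λ) G
  NatIso.isIso_of_isIso_app _

theorem full_faithful_epsPullMod : (EtModW.epsPullMod Λ X).Full ∧ (EtModW.epsPullMod Λ X).Faithful :=
  haveI := isIso_unit (X := X) (Λ := Λ)
  ⟨(epsAdjMod Λ X).fullyFaithfulLOfIsIsoUnit.full, (epsAdjMod Λ X).fullyFaithfulLOfIsIsoUnit.faithful⟩

theorem isIso_counit {F : EtModW.ModP Λ X} {G : EtModW.Mod Λ X}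
    (e : (EtModW.epsPullMod Λ X).obj G ≅ F) : IsIso ((epsAdjMod Λ X).counit.app F) := by
  haveI := isIso_epsAdjMod_unit (X := X) G
  haveI : IsIso ((epsAdjMod Λ X).counit.app ((EtModW.epsPullMod Λ X).obj G)) :=
    IsIso.of_isIso_fac_left ((epsAdjMod Λ X).left_triangle_components G)
  exact (NatTrans.isIso_app_iff_of_iso (epsAdjMod Λ X).counit e).1 ‹_›

theorem exists_kernel_cokernel_iso {F F' : EtModW.ModP Λ X} (f : F ⟶ F') {G G' : EtModW.Mod Λ X}
    (e : (EtModW.epsPullMod Λ X).obj G ≅ F) (e' : (EtModW.epsPullMod Λ X).obj G' ≅ F') :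
    ∃ g : G ⟶ G', Nonempty ((EtModW.epsPullMod Λ X).obj (kernel g) ≅ kernel f) ∧
      Nonempty ((EtModW.epsPullMod Λ X).obj (cokernel g) ≅ cokernel f) := by
  haveI := (full_faithful_epsPullMod (X := X) (Λ := Λ)).1
  haveI := (full_faithful_epsPullMod (X := X) (Λ := Λ)).2
  haveI := preservesFiniteLimits_epsPullMod (X := X) (Λ := Λ)
  haveI := preservesFiniteColimits_epsPullMod X Λ
  exact ⟨(EtModW.epsPullMod Λ X).preimage (e.hom ≫ f ≫ e'.inv),
    ⟨PreservesKernel.iso _ _ ≪≫ kernel.mapIso _ _ e e' (by simp)⟩,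
    ⟨PreservesCokernel.iso _ _ ≪≫ cokernel.mapIso _ _ e e' (by simp)⟩⟩

theorem isZero_RepsPush_fgtP {F : EtModW.ModP Λ X} {G : EtModW.Mod Λ X}
    (e : (EtModW.epsPullMod Λ X).obj G ≅ F) (q : ℕ) :
    IsZero ((ProEtS.RepsPush X (q + 1)).obj ((fgtP Λ X).obj F)) := by
  obtain ⟨i⟩ := nonempty_fgtP_iso G
  exact (isZero_RepsPush_epsPull q ((fgtE Λ X).obj G)).of_iso
    ((ProEtS.RepsPush X (q + 1)).mapIso (((fgtP Λ X).mapIso e).symm ≪≫ i))

omit [ProEtS.EpsCont X] in
instance additive_fgtP : (fgtP Λ X).Additive where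
  map_add := by intros; rfl

theorem shortExact_map_fgtP {T : ShortComplex (EtModW.ModP Λ X)} (hT : T.ShortExact) :
    (T.map (fgtP Λ X)).ShortExact := by
  haveI := hasSheafCompose_moduleCat Λ X
  haveI : PreservesFiniteLimits (fgtP Λ X) := ⟨fun J _ _ => by
    haveI : PreservesLimitsOfShape J (fgtP Λ X ⋙ sheafToPresheaf _ _) :=
      inferInstanceAs (PreservesLimitsOfShape J (sheafToPresheaf _ _ ⋙
        (Functor.whiskeringRight _ _ _).obj (forget₂ (ModuleCat.{u + 1} Λ) AddCommGrpCat.{u + 1})))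
    exact preservesLimitsOfShape_of_reflects_of_preserves (fgtP Λ X) (sheafToPresheaf _ _)⟩
  haveI := hT.mono_f
  haveI := hT.epi_g
  have hs : Sheaf.IsLocallySurjective T.g := (Sheaf.isLocallySurjective_iff_epi' _ T.g).2 hT.epi_g
  haveI : Epi (T.map (fgtP Λ X)).g := by
    refine (Sheaf.isLocallySurjective_iff_epi' _ _).1 ⟨fun {U} s => ?_⟩
    exact (Scheme.ProEt.topology X).superset_covering (fun W k hk => hk) (hs.imageSieve_mem (U := U) s)
  haveI : Mono (T.map (fgtP Λ X)).f := inferInstanceAs (Mono ((fgtP Λ X).map T.f))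
  exact ShortComplex.ShortExact.mk' (hT.exact.map_of_mono_of_preservesKernel (fgtP Λ X) hT.mono_f inferInstance)
    inferInstance inferInstance

theorem shortExact_epsPushMod {T : ShortComplex (EtModW.ModP Λ X)} (hT : T.ShortExact) {A : EtModW.Mod Λ X}
    (a : (EtModW.epsPullMod Λ X).obj A ≅ T.X₁) : (T.map (epsPushMod Λ X)).ShortExact := by
  have hR : ((T.map (fgtP Λ X)).map (ProEtS.epsPush X)).ShortExact :=
    GrothLib.HomGamma.shortExact_map_of_isZero (ProEtS.epsPush X) (shortExact_map_fgtP hT)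
      (isZero_RepsPush_fgtP a 0)
  haveI := hR.epi_g
  haveI := hT.mono_f
  haveI : PreservesFiniteLimits (epsPushMod Λ X) :=
    haveI := (epsAdjMod Λ X).rightAdjoint_preservesLimits.{0, 0}
    inferInstance
  have hs : Sheaf.IsLocallySurjective ((T.map (fgtP Λ X)).map (ProEtS.epsPush X)).g :=
    (Sheaf.isLocallySurjective_iff_epi' _ _).2 hR.epi_g
  haveI : Epi (T.map (epsPushMod Λ X)).g := by
    haveI := GrothLib.TrivEt.hasSheafCompose_et Λ X
    refine (Sheaf.isLocallySurjective_iff_epi' _ _).1 ⟨fun {U} s => ?_⟩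
    exact X.smallEtaleTopology.superset_covering (fun W k hk => hk) (hs.imageSieve_mem (U := U) s)
  haveI : Mono (T.map (epsPushMod Λ X)).f := inferInstanceAs (Mono ((epsPushMod Λ X).map T.f))
  exact ShortComplex.ShortExact.mk' (hT.exact.map_of_mono_of_preservesKernel (epsPushMod Λ X) hT.mono_f inferInstance)
    inferInstance inferInstance

/-- An extension of objects of the essential image. -/
theorem extension_epsPullMod {T : ShortComplex (EtModW.ModP Λ X)} (hT : T.ShortExact) {A B : EtModW.Mod Λ X}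
    (a : (EtModW.epsPullMod Λ X).obj A ≅ T.X₁) (b : (EtModW.epsPullMod Λ X).obj B ≅ T.X₃) :
    (T.map (epsPushMod Λ X)).ShortExact ∧
      Nonempty (A ≅ (epsPushMod Λ X).obj T.X₁) ∧ Nonempty (B ≅ (epsPushMod Λ X).obj T.X₃) ∧
      Nonempty ((EtModW.epsPullMod Λ X).obj ((epsPushMod Λ X).obj T.X₂) ≅ T.X₂) := by
  have hR := shortExact_epsPushMod hT a
  haveI := preservesFiniteLimits_epsPullMod (X := X) (Λ := Λ)
  haveI := preservesFiniteColimits_epsPullMod X Λ
  have hLR := hR.map_of_exact (EtModW.epsPullMod Λ X)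
  haveI := isIso_epsAdjMod_unit (X := X) A
  haveI := isIso_epsAdjMod_unit (X := X) B
  let φ : (T.map (epsPushMod Λ X)).map (EtModW.epsPullMod Λ X) ⟶ T :=
    { τ₁ := (epsAdjMod Λ X).counit.app T.X₁
      τ₂ := (epsAdjMod Λ X).counit.app T.X₂
      τ₃ := (epsAdjMod Λ X).counit.app T.X₃
      comm₁₂ := ((epsAdjMod Λ X).counit.naturality T.f).symm
      comm₂₃ := ((epsAdjMod Λ X).counit.naturality T.g).symm }
  haveI : IsIso φ.τ₁ := isIso_counit a
  haveI : IsIso φ.τ₃ := isIso_counit b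
  have h2 : IsIso φ.τ₂ := ShortComplex.isIso₂_of_shortExact_of_isIso₁₃ φ hLR hT
  exact ⟨hR, ⟨asIso ((epsAdjMod Λ X).unit.app A) ≪≫ (epsPushMod Λ X).mapIso a⟩,
    ⟨asIso ((epsAdjMod Λ X).unit.app B) ≪≫ (epsPushMod Λ X).mapIso b⟩, ⟨@asIso _ _ _ _ φ.τ₂ h2⟩⟩

end GrothLib.ProEtS
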