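import Groth.Agent.Lib.ProEtS.WCMod
import Groth.Agent.Lib.ProEtS.EpsModSerre
import Groth.Agent.Lib.ModConstr.Zero

/-!
# Adic pro-étale sheaves and adic systems of étale sheaves
-/

set_option autoImplicit false
set_option linter.style.haveILetI false
set_option linter.unusedSectionVars false
set_option backward.isDefEq.respectTransparency.types false

universe u w v v' u₁ u₂

open CategoryTheory CategoryTheory.Limits AlgebraicGeometry Opposite

noncomputable section

namespace GrothLib.AdicP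

open _root_.ARSys

section General

variable {C : Type u₁} [Category.{v} C] [Abelian C] {D : Type u₂} [Category.{v'} D] [Abelian D]
  {A : Type w} [CommRing A] [Linear A C] [Linear A D]

/-- The targets of a tower of quotient maps form an adic system. -/
theorem isAdic_of_tower {I : Ideal A} {Y : C} {Q : PS C} (p : (Functor.const ℕᵒᵖ).obj Y ⟶ Q)
    (hQ : ∀ n : ℕ, IsQuot (I ^ (n + 1)) (p.app (op n))) : IsAdic I Q := by
  refine ⟨fun n => (hQ n).1, fun n m h => ⟨(hQ n).1, fun Z φ hφ => ?_⟩⟩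
  haveI : Epi (p.app (op m)) := GrothLib.ARSys.IsQuot.epi (hQ m)
  have e : p.app (op m) ≫ tr Q h = p.app (op n) := by
    have := p.naturality (homOfLE h).op
    simpa using this.symm
  obtain ⟨ψ, hψ, huniq⟩ := (hQ n).2 Z (p.app (op m) ≫ φ) (GrothLib.ARSys.homKilledBy_precomp hφ _)
  refine ⟨ψ, ?_, fun y hy => huniq y ?_⟩
  · show tr Q h ≫ ψ = φ
    rw [← cancel_epi (p.app (op m)), reassoc_of% e, hψ]
  · show p.app (op n) ≫ y = p.app (op m) ≫ φ
    rw [← e, Category.assoc, hy]

variable (G : C ⥤ D) [G.Additive] [G.Linear A] [G.Full] [G.Faithful]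

theorem isQuot_of_map {I : Ideal A} {X Q : C} {p : X ⟶ Q} (h : IsQuot I (G.map p)) : IsQuot I p := by
  refine ⟨fun a ha => G.map_injective ?_, fun Y φ hφ => ?_⟩
  · rw [Functor.map_smul, G.map_id, Functor.map_zero]
    exact h.1 a ha
  · obtain ⟨ψ, hψ, huniq⟩ := h.2 (G.obj Y) (G.map φ) fun a ha => by
      rw [← Functor.map_smul, hφ a ha, Functor.map_zero]
    refine ⟨G.preimage ψ, G.map_injective (by rw [G.map_comp, G.map_preimage, hψ]), fun y hy => ?_⟩
    refine G.map_injective ?_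
    rw [G.map_preimage]
    exact huniq _ ((G.map_comp _ _).symm.trans (congrArg G.map hy))

theorem isAdic_of_map {I : Ideal A} {X : PS C} (h : IsAdic I (X ⋙ G)) : IsAdic I X :=
  ⟨fun n a ha => G.map_injective (by
      rw [Functor.map_smul, G.map_id, Functor.map_zero]; exact h.1 n a ha),
    fun n m hnm => isQuot_of_map G (h.2 n m hnm)⟩

theorem isQuot_of_iso_src {I : Ideal A} {X X' Q : C} (e : X' ≅ X) {p : X ⟶ Q} (h : IsQuot I p) :
    IsQuot I (e.hom ≫ p) := by
  refine ⟨h.1, fun Y φ hφ => ?_⟩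
  obtain ⟨ψ, hψ, huniq⟩ := h.2 Y (e.inv ≫ φ) (GrothLib.ARSys.homKilledBy_precomp hφ _)
  exact ⟨ψ, by simp only [Category.assoc, hψ, Iso.hom_inv_id_assoc],
    fun y hy => huniq y (show p ≫ y = e.inv ≫ φ by rw [← hy]; simp)⟩

theorem isQuot_of_iso_tgt {I : Ideal A} {X Q Q' : C} (e : Q ≅ Q') {p : X ⟶ Q} (h : IsQuot I p) :
    IsQuot I (p ≫ e.hom) := by
  refine ⟨fun a ha => ?_, fun Y φ hφ => ?_⟩
  · rw [← cancel_epi e.hom, Linear.comp_smul, Category.comp_id, comp_zero]
    exact GrothLib.ARSys.homKilledBy_of_src h.1 e.hom a ha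
  · obtain ⟨ψ, hψ, huniq⟩ := h.2 Y φ hφ
    refine ⟨e.inv ≫ ψ, by simp [hψ], fun y hy => ?_⟩
    rw [← huniq (e.hom ≫ y) ((Category.assoc _ _ _).symm.trans hy), Iso.inv_hom_id_assoc]

theorem isAdic_of_iso {I : Ideal A} {X Y : PS C} (e : X ≅ Y) (h : IsAdic I X) : IsAdic I Y := by
  refine ⟨fun n => ?_, fun n m hnm => ?_⟩
  · exact GrothLib.ARSys.killedBy_of_epi (e.hom.app (op n)) (h.1 n)
  · have := isQuot_of_iso_src (e.app (op m)).symm (isQuot_of_iso_tgt (e.app (op n)) (h.2 n m hnm))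
    convert this using 1
    simp

/-- An isomorphism up to translation induces an isomorphism of limits. -/
theorem isIso_limMap_of_arIso {P P' : PS D} [HasLimit P] [HasLimit P'] {u : P ⟶ P'} (hu : IsARIso u) :
    IsIso (limMap u) := by
  obtain ⟨i⟩ := GrothLib.ARSys.exists_arInv hu
  have hw : ∀ {Y : PS D} [HasLimit Y] {a b : ℕ} (h : a ≤ b), limit.π Y (op b) ≫ tr Y h = limit.π Y (op a) :=
    fun {Y} _ {a b} h => limit.w Y (homOfLE h).op
  let g : limit P' ⟶ limit P := limit.lift P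
    { pt := limit P'
      π :=
        { app := fun a => limit.π P' (op (a.unop + i.r)) ≫ i.v (le_refl (a.unop + i.r))
          naturality := fun a a' f => by
            have hle : a'.unop ≤ a.unop := f.unop.le
            simp only [Functor.const_obj_obj, Functor.const_obj_map, Category.id_comp, Category.assoc]
            rw [show P.map f = tr P hle from rfl, i.v_tr, ← hw (Nat.add_le_add_right hle i.r), Category.assoc,
              i.tr_v] } }
  have hg : ∀ a : ℕ, g ≫ limit.π P (op a) = limit.π P' (op (a + i.r)) ≫ i.v (le_refl (a + i.r)) :=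
    fun a => limit.lift_π _ _
  refine ⟨g, limit.hom_ext fun a => ?_, limit.hom_ext fun a => ?_⟩
  · induction a using Opposite.rec with
    | op a =>
      rw [Category.assoc, hg, limMap_π_assoc, i.u_v, hw, Category.id_comp]
  · induction a using Opposite.rec with
    | op a =>
      rw [Category.assoc, limMap_π, reassoc_of% (hg a), i.v_u, hw, Category.id_comp]

end General

section Et

variable {X : Scheme.{u}} {Λ : Type (u + 1)} [CommRing Λ] [ProEtS.EpsCont X]

/-- The pro-étale sheaf `lim ε⁻¹ G`. -/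
abbrev limEps (G : PS (EtModW.Mod Λ X)) : EtModW.ModP Λ X := limit (G ⋙ EtModW.epsPullMod Λ X)

/-- A system in the essential image of `ε⁻¹` comes from the étale site. -/
theorem exists_system (P : EtModW.Mod Λ X → Prop) (Q : PS (EtModW.ModP Λ X))
    (hQ : ∀ n : ℕ, ∃ E : EtModW.Mod Λ X, P E ∧ Nonempty ((EtModW.epsPullMod Λ X).obj E ≅ Q.obj (op n))) :
    ∃ G : PS (EtModW.Mod Λ X), (∀ n : ℕ, P (G.obj (op n))) ∧ Nonempty (G ⋙ EtModW.epsPullMod Λ X ≅ Q) := by
  haveI := (GrothLib.ProEtS.full_faithful_epsPullMod (X := X) (Λ := Λ)).1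
  haveI := (GrothLib.ProEtS.full_faithful_epsPullMod (X := X) (Λ := Λ)).2
  choose E hE e using hQ
  let L := EtModW.epsPullMod Λ X
  let ee : ∀ n : ℕᵒᵖ, L.obj (E n.unop) ≅ Q.obj n := fun n => (e n.unop).some
  refine ⟨{ obj := fun n => E n.unop
            map := fun {a b} f => L.preimage ((ee a).hom ≫ Q.map f ≫ (ee b).inv)
            map_id := fun a => L.map_injective (by rw [Functor.map_preimage, Q.map_id, L.map_id]; simp)
            map_comp := fun {a b c} f f' => L.map_injective (by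
              simp only [Functor.map_preimage, L.map_comp, Q.map_comp, Category.assoc, Iso.inv_hom_id_assoc]) },
    fun n => hE n, ⟨NatIso.ofComponents ee fun {a b} f => ?_⟩⟩
  show L.map (L.preimage _) ≫ _ = _
  rw [Functor.map_preimage]
  simp

theorem isAdicP_iff {I : Ideal Λ} (hI : I.FG) (F : EtModW.ModP Λ X) :
    (∃ (Q : ℕᵒᵖ ⥤ EtModW.ModP Λ X) (p : (Functor.const ℕᵒᵖ).obj F ⟶ Q),
        (∀ n : ℕ, IsQuot (I ^ (n + 1)) (p.app (op n))) ∧
        (∀ n : ℕ, ∃ E : EtModW.Mod Λ X, EtModW.IsConstructible Λ E ∧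
          Nonempty ((EtModW.epsPullMod Λ X).obj E ≅ Q.obj (op n))) ∧
        IsIso (limit.lift Q (Cone.mk F p))) ↔
      ∃ G : PS (EtModW.Mod Λ X), IsAdic I G ∧
        (∀ n : ℕ, EtModW.IsConstructible Λ (G.obj (op n))) ∧
        Nonempty (limit (G ⋙ EtModW.epsPullMod Λ X) ≅ F) := by
  haveI := GrothLib.ProEtS.preservesFiniteColimits_epsPullMod X Λ
  haveI := (GrothLib.ProEtS.full_faithful_epsPullMod (X := X) (Λ := Λ)).1
  haveI := (GrothLib.ProEtS.full_faithful_epsPullMod (X := X) (Λ := Λ)).2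
  constructor
  · rintro ⟨Q, p, hp, hE, hiso⟩
    obtain ⟨G, hG, ⟨e⟩⟩ := exists_system _ Q hE
    exact ⟨G, isAdic_of_map _ (isAdic_of_iso e.symm (isAdic_of_tower p hp)), hG,
      ⟨HasLimit.isoOfNatIso e ≪≫ (@asIso _ _ _ _ _ hiso).symm⟩⟩
  · rintro ⟨G, hG, hc, ⟨e⟩⟩
    let Q := G ⋙ EtModW.epsPullMod Λ X
    let p : (Functor.const ℕᵒᵖ).obj F ⟶ Q := (Functor.const ℕᵒᵖ).map e.inv ≫ (limit.cone Q).π
    refine ⟨Q, p, fun n => ?_, fun n => ⟨_, hc n, ⟨Iso.refl _⟩⟩, ?_⟩
    · exact isQuot_of_iso_src e.symm (GrothLib.ProEtS.isQuot_limit_π hI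
        (GrothLib.ModConstr.isAdic_map (EtModW.epsPullMod Λ X) hI hG) (limit.isLimit Q) n)
    · rw [show limit.lift Q (Cone.mk F p) = e.inv from limit.hom_ext fun j => by
        rw [limit.lift_π]; rfl]
      infer_instance

theorem full_faithful_limEps {I : Ideal Λ} (hI : I.FG) {G G' : PS (EtModW.Mod Λ X)} (hG : IsAdic I G)
    (hG' : TermKilled I G') :
    Function.Bijective fun u : G ⟶ G' => (limMap (Functor.whiskerRight u (EtModW.epsPullMod Λ X)) :
      limEps G ⟶ limEps G') := by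
  haveI := GrothLib.ProEtS.preservesFiniteColimits_epsPullMod X Λ
  haveI := (GrothLib.ProEtS.full_faithful_epsPullMod (X := X) (Λ := Λ)).1
  haveI := (GrothLib.ProEtS.full_faithful_epsPullMod (X := X) (Λ := Λ)).2
  have hπ := fun n => GrothLib.ProEtS.isQuot_limit_π hI
    (GrothLib.ModConstr.isAdic_map (EtModW.epsPullMod Λ X) hI hG) (limit.isLimit (G ⋙ EtModW.epsPullMod Λ X)) n
  refine ⟨fun u u' h => GrothLib.ARSys.hom_ext' fun n => (EtModW.epsPullMod Λ X).map_injective ?_, fun φ => ?_⟩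
  · haveI := GrothLib.ARSys.IsQuot.epi (hπ n)
    refine (cancel_epi ((limit.cone (G ⋙ EtModW.epsPullMod Λ X)).π.app (op n))).1 ?_
    have := congrArg (fun t : limEps G ⟶ limEps G' => t ≫ limit.π (G' ⋙ EtModW.epsPullMod Λ X) (op n)) h
    simpa only [limMap_π, Functor.whiskerRight_app, limit.cone_π] using this
  · have hk : ∀ n : ℕ, HomKilledBy (I ^ (n + 1)) (φ ≫ limit.π (G' ⋙ EtModW.epsPullMod Λ X) (op n)) := fun n =>
      GrothLib.ARSys.homKilledBy_of_tgt (GrothLib.ModConstr.killedBy_map (EtModW.epsPullMod Λ X) (hG' n)) _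
    choose ψ hψ _huniq using fun n => (hπ n).2 _ _ (hk n)
    have hψ' : ∀ n : ℕ, limit.π (G ⋙ EtModW.epsPullMod Λ X) (op n) ≫ ψ n = φ ≫ limit.π _ (op n) := hψ
    refine ⟨GrothLib.ARSys.mkHom (fun n => (EtModW.epsPullMod Λ X).preimage (ψ n))
      (fun a b hab => (EtModW.epsPullMod Λ X).map_injective ?_), limit.hom_ext fun j => ?_⟩
    · haveI := GrothLib.ARSys.IsQuot.epi (hπ b)
      simp only [Functor.map_comp, Functor.map_preimage]
      refine (cancel_epi ((limit.cone (G ⋙ EtModW.epsPullMod Λ X)).π.app (op b))).1 ?_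
      simp only [limit.cone_π]
      show limit.π _ (op b) ≫ (G ⋙ EtModW.epsPullMod Λ X).map (homOfLE hab).op ≫ ψ a =
        limit.π _ (op b) ≫ ψ b ≫ (G' ⋙ EtModW.epsPullMod Λ X).map (homOfLE hab).op
      rw [limit.w_assoc, hψ', reassoc_of% (hψ' b), limit.w]
    · induction j using Opposite.rec with
      | op n =>
        rw [limMap_π, Functor.whiskerRight_app, GrothLib.ARSys.mkHom_app, Functor.map_preimage, hψ']

/-- An isomorphism up to translation gives the same pro-étale sheaf. -/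
theorem isIso_limEps_of_arIso {G G' : PS (EtModW.Mod Λ X)} {u : G ⟶ G'} (hu : IsARIso u) :
    IsIso (limMap (Functor.whiskerRight u (EtModW.epsPullMod Λ X)) : limEps G ⟶ limEps G') :=
  isIso_limMap_of_arIso (GrothLib.ModConstr.arIso_map (EtModW.epsPullMod Λ X) hu)

end Et

end GrothLib.AdicP
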