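import Groth.Agent.Lib.ProEtS.AdicPExact
import Groth.Agent.Lib.ModConstr.Adic

/-!
# Adic pro-étale sheaves on a Noetherian scheme: kernels, cokernels and chains of subobjects
-/

set_option autoImplicit false
set_option linter.style.haveILetI false
set_option linter.unusedSectionVars false
set_option backward.isDefEq.respectTransparency.types false

universe u

open CategoryTheory CategoryTheory.Limits AlgebraicGeometry Opposite

noncomputable section

namespace GrothLib.AdicP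

open _root_.ARSys

variable {X : Scheme.{u}} {Λ : Type (u + 1)} [CommRing Λ] [IsNoetherianRing Λ] {I : Ideal Λ}
  [IsNoetherian X]

/-- Kernels and cokernels of morphisms of constructible adic systems, up to translation. -/
theorem exists_adic_ker_coker {F G : PS (EtModW.Mod Λ X)} (hF : IsAdic I F) (hG : IsAdic I G)
    (hFc : ∀ n : ℕ, EtModW.IsConstructible Λ (F.obj (op n)))
    (hGc : ∀ n : ℕ, EtModW.IsConstructible Λ (G.obj (op n))) (w : F ⟶ G) :
    (∃ (Y : PS (EtModW.Mod Λ X)) (v : Y ⟶ kernel w), IsAdic I Y ∧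
        (∀ n : ℕ, EtModW.IsConstructible Λ (Y.obj (op n))) ∧ IsARIso v) ∧
      ∃ (Y : PS (EtModW.Mod Λ X)) (v : Y ⟶ cokernel w), IsAdic I Y ∧
        (∀ n : ℕ, EtModW.IsConstructible Λ (Y.obj (op n))) ∧ IsARIso v := by
  obtain ⟨hker, hcok⟩ := GrothLib.ARSys.arAdicNoeth_ker_coker (IsNoetherian.noetherian I) w
    (GrothLib.ARSys.arAdicNoeth_of_adicNoeth (GrothLib.ModConstr.adicNoeth_of_constr hF hFc))
    (GrothLib.ARSys.arAdicNoeth_of_adicNoeth (GrothLib.ModConstr.adicNoeth_of_constr hG hGc))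
  obtain ⟨⟨-, Yk, vk, hYk, hvk⟩, -⟩ := hker
  obtain ⟨⟨-, Yc, vc, hYc, hvc⟩, -⟩ := hcok
  have hk : ∀ n : ℕ, EtModW.IsConstructible Λ ((kernel w).obj (op n)) := fun n => by
    haveI : Mono ((kernel.ι w).app (op n)) := inferInstance
    exact GrothLib.ModConstr.isConstructible_sub ((kernel.ι w).app (op n)) (hFc n)
  have hc : ∀ n : ℕ, EtModW.IsConstructible Λ ((cokernel w).obj (op n)) := fun n => by
    haveI : Epi ((cokernel.π w).app (op n)) := inferInstance
    exact GrothLib.ModConstr.isConstructible_quot ((cokernel.π w).app (op n)) (hGc n)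
  exact ⟨⟨Yk, vk, hYk, GrothLib.ModConstr.constr_of_arIso hvk (GrothLib.ARSys.isStrict_of_isAdic hYk) hk, hvk⟩,
    ⟨Yc, vc, hYc, GrothLib.ModConstr.constr_of_arIso hvc (GrothLib.ARSys.isStrict_of_isAdic hYc) hc, hvc⟩⟩

variable [ProEtS.EpsCont X]

/-- An adic pro-étale sheaf: the limit of a constructible adic system. -/
def IsAdicP (I : Ideal Λ) (F : EtModW.ModP Λ X) : Prop :=
  ∃ G : PS (EtModW.Mod Λ X), IsAdic I G ∧
    (∀ n : ℕ, EtModW.IsConstructible Λ (G.obj (op n))) ∧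
    Nonempty (limit (G ⋙ EtModW.epsPullMod Λ X) ≅ F)

theorem isAdicP_iff' (F : EtModW.ModP Λ X) :
    (∃ (Q : ℕᵒᵖ ⥤ EtModW.ModP Λ X) (p : (Functor.const ℕᵒᵖ).obj F ⟶ Q),
        (∀ n : ℕ, IsQuot (I ^ (n + 1)) (p.app (op n))) ∧
        (∀ n : ℕ, ∃ E : EtModW.Mod Λ X, EtModW.IsConstructible Λ E ∧
          Nonempty ((EtModW.epsPullMod Λ X).obj E ≅ Q.obj (op n))) ∧
        IsIso (limit.lift Q (Cone.mk F p))) ↔ IsAdicP I F :=
  isAdicP_iff (IsNoetherian.noetherian I) F

theorem exists_preimage {GF GG : PS (EtModW.Mod Λ X)} (hF : IsAdic I GF) (hG : IsAdic I GG)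
    (φ : (limEpsF Λ X).obj GF ⟶ (limEpsF Λ X).obj GG) : ∃ u : GF ⟶ GG, (limEpsF Λ X).map u = φ :=
  (full_faithful_limEps (IsNoetherian.noetherian I) hF hG.1).2 φ

theorem null_of_isZero_limEps {Y : PS (EtModW.Mod Λ X)} (hY : IsAdic I Y)
    (h : IsZero ((limEpsF Λ X).obj Y)) (n : ℕ) : IsZero (Y.obj (op n)) := by
  haveI := GrothLib.ProEtS.preservesFiniteColimits_epsPullMod X Λ
  haveI := (GrothLib.ProEtS.full_faithful_epsPullMod (X := X) (Λ := Λ)).2
  haveI := GrothLib.ARSys.IsQuot.epi (GrothLib.ProEtS.isQuot_limit_π (IsNoetherian.noetherian I)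
    (GrothLib.ModConstr.isAdic_map (EtModW.epsPullMod Λ X) (IsNoetherian.noetherian I) hY)
    (limit.isLimit (Y ⋙ EtModW.epsPullMod Λ X)) n)
  have h1 : IsZero ((EtModW.epsPullMod Λ X).obj (Y.obj (op n))) :=
    IsZero.of_epi ((limit.cone (Y ⋙ EtModW.epsPullMod Λ X)).π.app (op n)) h
  rw [IsZero.iff_id_eq_zero]
  refine (EtModW.epsPullMod Λ X).map_injective ?_
  exact h1.eq_of_src _ _

/-- The kernel and cokernel of a morphism of adic pro-étale sheaves. -/
theorem isAdicP_kernel_cokernel {F G : EtModW.ModP Λ X} (hF : IsAdicP I F) (hG : IsAdicP I G) (w : F ⟶ G) :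
    IsAdicP I (kernel w) ∧ IsAdicP I (cokernel w) := by
  obtain ⟨GF, hGF, hGFc, ⟨eF⟩⟩ := hF
  obtain ⟨GG, hGG, hGGc, ⟨eG⟩⟩ := hG
  obtain ⟨u, hu⟩ := exists_preimage hGF hGG (eF.hom ≫ w ≫ eG.inv)
  obtain ⟨⟨Yk, vk, hYk, hYkc, hvk⟩, ⟨Yc, vc, hYc, hYcc, hvc⟩⟩ := exists_adic_ker_coker hGF hGG hGFc hGGc u
  haveI := preservesFiniteLimits_limEpsF (X := X) (Λ := Λ)
  have hw : (limEpsF Λ X).map u ≫ eG.hom = eF.hom ≫ w := by rw [hu]; simp
  haveI := isIso_limEps_of_arIso hvk
  haveI := isIso_limEps_of_arIso hvc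
  refine ⟨⟨Yk, hYk, hYkc, ⟨asIso (limMap (Functor.whiskerRight vk (EtModW.epsPullMod Λ X))) ≪≫
    PreservesKernel.iso (limEpsF Λ X) u ≪≫ kernel.mapIso _ _ eF eG hw⟩⟩, ⟨Yc, hYc, hYcc, ?_⟩⟩
  -- cokernel
  let S₁ : ShortComplex (PS (EtModW.Mod Λ X)) := ShortComplex.mk (kernel.ι u) (Abelian.factorThruImage u)
    (by rw [← cancel_mono (Abelian.image.ι u), Category.assoc, Abelian.image.fac, kernel.condition, zero_comp])
  have hS₁ : S₁.ShortExact := ShortComplex.ShortExact.mk' (ShortComplex.exact_of_f_is_kernel _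
    (isKernelOfComp (Abelian.image.ι u) u (kernelIsKernel u) (by exact S₁.zero) (Abelian.image.fac u)))
    inferInstance inferInstance
  let S₂ : ShortComplex (PS (EtModW.Mod Λ X)) := ShortComplex.mk (Abelian.image.ι u) (cokernel.π u)
    (kernel.condition _)
  have hS₂ : S₂.ShortExact := ShortComplex.ShortExact.mk' (ShortComplex.exact_of_f_is_kernel _
    (kernelIsKernel (cokernel.π u))) inferInstance inferInstance
  haveI he₁ : Epi ((limEpsF Λ X).map (Abelian.factorThruImage u)) := epi_limEps_map hS₁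
    (GrothLib.ARSys.isMLAR_of_arIso hvk (GrothLib.ARSys.isMLAR_of_strict (GrothLib.ARSys.isStrict_of_isAdic hYk)))
  haveI he₂ : Epi ((limEpsF Λ X).map (cokernel.π u)) := epi_limEps_map hS₂
    (GrothLib.ARSys.isMLAR_of_strict (GrothLib.ARSys.isStrict_of_epi (Abelian.factorThruImage u)
      (GrothLib.ARSys.isStrict_of_isAdic hGF)))
  haveI := hS₂.mono_f
  have hSE : (S₂.map (limEpsF Λ X)).ShortExact := ShortComplex.ShortExact.mk'
    (hS₂.exact.map_of_mono_of_preservesKernel (limEpsF Λ X) hS₂.mono_f inferInstance)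
    (inferInstanceAs (Mono ((limEpsF Λ X).map S₂.f))) he₂
  have hc : cokernel ((limEpsF Λ X).map u) ≅ (limEpsF Λ X).obj (cokernel u) :=
    cokernelIsoOfEq (((limEpsF Λ X).map_comp _ _).symm.trans (congrArg (limEpsF Λ X).map (Abelian.image.fac u))).symm ≪≫
      cokernelEpiComp _ _ ≪≫ (cokernelIsCokernel _).coconePointUniqueUpToIso hSE.gIsCokernel
  exact ⟨asIso (limMap (Functor.whiskerRight vc (EtModW.epsPullMod Λ X))) ≪≫ hc.symm ≪≫
    cokernel.mapIso _ _ eF eG hw⟩

/-- Chains of adic subobjects of an adic pro-étale sheaf are stationary. -/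
theorem chain_stationary {F : EtModW.ModP Λ X} (hF : IsAdicP I F) (Z : ℕ →o Subobject F)
    (hZ : ∀ k, IsAdicP I (Z k : EtModW.ModP Λ X)) :
    ∃ k₀ : ℕ, ∀ k : ℕ, k₀ ≤ k → Z k = Z k₀ := by
  obtain ⟨GF, hGF, hGFc, ⟨eF⟩⟩ := hF
  choose G hG hGc e using hZ
  let E : ∀ k, (limEpsF Λ X).obj (G k) ≅ (Z k : EtModW.ModP Λ X) := fun k => (e k).some
  choose v hv using fun k => exists_preimage (hG k) hGF ((E k).hom ≫ (Z k).arrow ≫ eF.inv)
  haveI := preservesFiniteLimits_limEpsF (X := X) (Λ := Λ)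
  let S : ℕ → Subobject GF := fun k => imageSubobject (v k)
  have hmono : Monotone S := fun i j hij => by
    obtain ⟨l, hl⟩ := exists_preimage (hG i) (hG j) ((E i).hom ≫ Subobject.ofLE _ _ (Z.monotone hij) ≫ (E j).inv)
    have hi : v i = l ≫ v j := (full_faithful_limEps (IsNoetherian.noetherian I) (hG i) hGF.1).1 (by
      show (limEpsF Λ X).map (v i) = (limEpsF Λ X).map (l ≫ v j)
      rw [(limEpsF Λ X).map_comp, hv, hv, hl]
      simp)
    show imageSubobject _ ≤ imageSubobject _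
    rw [hi]
    exact imageSubobject_comp_le _ _
  obtain ⟨k₀, hk₀⟩ := GrothLib.ARSys.strict_subobjects_stationary (IsNoetherian.noetherian I) hGF
    (GrothLib.ModConstr.isNoetherianObject _ (hGFc 0)) ⟨S, hmono⟩
    fun k => GrothLib.ARSys.isStrict_of_epi (factorThruImageSubobject (v k)) (GrothLib.ARSys.isStrict_of_isAdic (hG k))
  haveI : ∀ k, IsIso ((limEpsF Λ X).map (factorThruImageSubobject (v k))) := fun k => by
    haveI hm : Mono ((limEpsF Λ X).map (v k)) := by
      haveI : Mono ((E k).hom ≫ (Z k).arrow ≫ eF.inv) := mono_comp _ _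
      exact (hv k).symm ▸ this
    obtain ⟨⟨Y, y, hY, -, hy⟩, -⟩ := exists_adic_ker_coker (hG k) hGF (hGc k) hGFc (v k)
    haveI := isIso_limEps_of_arIso hy
    have hz : IsZero ((limEpsF Λ X).obj Y) := ((isZero_kernel_of_mono _).of_iso
      (asIso (limMap (Functor.whiskerRight y (EtModW.epsPullMod Λ X))) ≪≫
        PreservesKernel.iso (limEpsF Λ X) (v k)))
    have hnull : IsARNull (kernel (v k)) := GrothLib.ARSys.null_of_arIso_left hy
      ⟨0, fun n => (null_of_isZero_limEps hY hz n).eq_of_tgt _ _⟩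
    refine isIso_limEps_of_arIso (GrothLib.ARSys.arIso_of_epi _ ?_)
    have h0 : kernel.ι (factorThruImageSubobject (v k)) ≫ v k = 0 := by
      refine (congrArg (kernel.ι (factorThruImageSubobject (v k)) ≫ ·) (imageSubobject_arrow_comp (v k))).symm.trans ?_
      rw [kernel.condition_assoc, zero_comp]
    haveI : Mono (kernel.lift _ _ h0) := mono_of_mono_fac (kernel.lift_ι _ _ h0)
    exact GrothLib.ARSys.null_of_mono (kernel.lift _ _ h0) hnull
  have hZeq : ∀ k, Z k = Subobject.mk ((limEpsF Λ X).map (S k).arrow ≫ eF.hom) := fun k => by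
    refine Subobject.eq_mk_of_comm _ ((E k).symm ≪≫ asIso ((limEpsF Λ X).map (factorThruImageSubobject (v k)))) ?_
    rw [Iso.trans_hom, Category.assoc, asIso_hom, ← (limEpsF Λ X).map_comp_assoc, imageSubobject_arrow_comp, hv]
    simp
  refine ⟨k₀, fun k hk => ?_⟩
  have h := hk₀ k hk
  rw [hZeq k, hZeq k₀]
  exact congrArg (fun T : Subobject GF => Subobject.mk ((limEpsF Λ X).map T.arrow ≫ eF.hom)) h

end GrothLib.AdicP
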