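import Groth.Agent.Lib.ProEtS.AdicP
import Groth.Agent.Lib.ARSys.Strict

/-!
# Exactness of `lim ε⁻¹` on systems satisfying the uniform Mittag-Leffler condition
-/

set_option autoImplicit false
set_option linter.style.haveILetI false
set_option linter.unusedSectionVars false
set_option backward.isDefEq.respectTransparency.types false

universe u w v u₁

open CategoryTheory CategoryTheory.Limits AlgebraicGeometry Opposite

noncomputable section

namespace GrothLib.AdicP

open _root_.ARSys

section Module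

variable {C : Type u₁} [Category.{v} C] [Abelian C] {R : Type w} [CommRing R]
  (G : C ⥤ ModuleCat.{w} R) [G.PreservesEpimorphisms]

theorem range_map_eq_image {A B : C} (f : A ⟶ B) :
    LinearMap.range (G.map f).hom = LinearMap.range (G.map (imageSubobject f).arrow).hom := by
  haveI : Epi (G.map (factorThruImageSubobject f)) := inferInstance
  conv_lhs => rw [← imageSubobject_arrow_comp f, G.map_comp, ModuleCat.hom_comp]
  exact LinearMap.range_comp_of_range_eq_top _
    (LinearMap.range_eq_top.2 ((ModuleCat.epi_iff_surjective _).1 inferInstance))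

theorem range_map_eq_of_imageSubobject_eq {A A' B : C} {f : A ⟶ B} {g : A' ⟶ B}
    (h : imageSubobject f = imageSubobject g) :
    LinearMap.range (G.map f).hom = LinearMap.range (G.map g).hom := by
  rw [range_map_eq_image, range_map_eq_image G g, h]

/-- Transition maps with stable images and termwise surjectivity give surjectivity on limits. -/
theorem surjective_lim_of_ML (r : ℕ) {MA MB MC : PS (ModuleCat.{w} R)} (f : MA ⟶ MB) (g : MB ⟶ MC)
    (hex : ∀ n : ℕ, LinearMap.ker (g.app (op n)).hom = LinearMap.range (f.app (op n)).hom)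
    (hsurj : ∀ n : ℕ, Function.Surjective (g.app (op n)).hom)
    (hML : ∀ n : ℕ, LinearMap.range (tr MA (Nat.le_add_right n (r + 1))).hom =
      LinearMap.range (tr MA (Nat.le_add_right n r)).hom)
    (z : ∀ n : ℕ, MC.obj (op n)) (hz : ∀ n, GrothLib.AdicModule.step MC n (z (n + 1)) = z n) :
    ∃ y : ∀ n : ℕ, MB.obj (op n), (∀ n, GrothLib.AdicModule.step MB n (y (n + 1)) = y n) ∧
      ∀ n, g.app (op n) (y n) = z n := by
  have hzle : ∀ {m n : ℕ} (h : n ≤ m), tr MC h (z m) = z n := by
    intro m n h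
    induction m, h using Nat.le_induction with
    | base => exact ConcreteCategory.congr_hom (GrothLib.ARSys.tr_self (X := MC) le_rfl) _
    | succ m hm ih =>
      refine (ConcreteCategory.congr_hom (GrothLib.ARSys.tr_tr (X := MC) hm (Nat.le_succ m)) (z (m + 1))).symm.trans ?_
      exact (congrArg (tr MC hm) (hz m)).trans ih
  choose b hb using fun n => hsurj n (z n)
  let b' : ∀ n, MB.obj (op n) := fun n => tr MB (Nat.le_add_right n r) (b (n + r))
  have hgb : ∀ n, g.app (op n) (b' n) = z n := fun n =>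
    (NatTrans.naturality_apply g (homOfLE (Nat.le_add_right n r)).op (b (n + r))).trans
      ((congrArg (tr MC (Nat.le_add_right n r)) (hb (n + r))).trans (hzle _))
  have he : ∀ n, ∃ e ∈ LinearMap.range (tr MA (Nat.le_add_right n r)).hom,
      f.app (op n) e = GrothLib.AdicModule.step MB n (b' (n + 1)) - b' n := fun n => by
    have h1 : (tr MB (Nat.le_add_right (n + 1) r) ≫ tr MB (Nat.le_succ n)) =
        tr MB (show n + r ≤ n + 1 + r by omega) ≫ tr MB (Nat.le_add_right n r) := by
      rw [GrothLib.ARSys.tr_tr, GrothLib.ARSys.tr_tr]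
    have hmem : tr MB (show n + r ≤ n + 1 + r by omega) (b (n + 1 + r)) - b (n + r) ∈
        LinearMap.ker (g.app (op (n + r))).hom := by
      rw [LinearMap.mem_ker, map_sub, sub_eq_zero, hb]
      refine (NatTrans.naturality_apply g (homOfLE (show n + r ≤ n + 1 + r by omega)).op _).trans ?_
      exact (congrArg (tr MC _) (hb _)).trans (hzle _)
    rw [hex] at hmem
    obtain ⟨a, ha⟩ := hmem
    refine ⟨tr MA (Nat.le_add_right n r) a, ⟨a, rfl⟩, ?_⟩
    refine (NatTrans.naturality_apply f (homOfLE (Nat.le_add_right n r)).op a).trans ?_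
    refine (congrArg (tr MB (Nat.le_add_right n r)) ha).trans ?_
    refine (map_sub (tr MB (Nat.le_add_right n r)).hom _ _).trans ?_
    exact congrArg (· - b' n) (ConcreteCategory.congr_hom h1 _).symm
  choose e he1 he2 using he
  have hstep : ∀ n, ∀ x ∈ LinearMap.range (tr MA (Nat.le_add_right n r)).hom,
      ∃ x' ∈ LinearMap.range (tr MA (Nat.le_add_right (n + 1) r)).hom, GrothLib.AdicModule.step MA n x' = x :=
    fun n x hx => by
    rw [← hML] at hx
    obtain ⟨a, rfl⟩ := hx
    refine ⟨tr MA (show n + 1 ≤ n + 1 + r by omega) (tr MA (show n + 1 + r ≤ n + (r + 1) by omega) a),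
      ⟨_, rfl⟩, ?_⟩
    have h2 : tr MA (show n + 1 + r ≤ n + (r + 1) by omega) ≫ tr MA (show n + 1 ≤ n + 1 + r by omega) ≫
        tr MA (Nat.le_succ n) = tr MA (Nat.le_add_right n (r + 1)) := by
      rw [GrothLib.ARSys.tr_tr, GrothLib.ARSys.tr_tr]
    exact ConcreteCategory.congr_hom h2 a
  choose next hnext1 hnext2 using hstep
  let a : ∀ n, {x // x ∈ LinearMap.range (tr MA (Nat.le_add_right n r)).hom} := fun n => Nat.rec
    ⟨0, zero_mem _⟩ (fun n an => ⟨next n (an.1 - e n) (sub_mem an.2 (he1 n)), hnext1 n _ _⟩) n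
  have ha : ∀ n, GrothLib.AdicModule.step MA n (a (n + 1)).1 = (a n).1 - e n := fun n => hnext2 n _ _
  refine ⟨fun n => b' n + f.app (op n) (a n).1, fun n => ?_, fun n => ?_⟩
  · rw [map_add]
    have h3 : GrothLib.AdicModule.step MB n (f.app (op (n + 1)) (a (n + 1)).1) =
        f.app (op n) ((a n).1 - e n) := by
      rw [← ha]
      exact (NatTrans.naturality_apply f (homOfLE (Nat.le_succ n)).op _).symm
    rw [h3, map_sub, he2]
    abel_nf
  · have h0 : g.app (op n) (f.app (op n) (a n).1) = 0 := by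
      have hm : f.app (op n) (a n).1 ∈ LinearMap.ker (g.app (op n)).hom := by
        rw [hex]; exact ⟨_, rfl⟩
      exact hm
    rw [map_add, hgb, h0, add_zero]

end Module

section Et

variable {X : Scheme.{u}} {Λ : Type (u + 1)} [CommRing Λ] [ProEtS.EpsCont X]

/-- `lim ε⁻¹` as a functor. -/
abbrev limEpsF (Λ : Type (u + 1)) [CommRing Λ] (X : Scheme.{u}) [ProEtS.EpsCont X] :
    PS (EtModW.Mod Λ X) ⥤ EtModW.ModP Λ X :=
  (Functor.whiskeringRight ℕᵒᵖ (EtModW.Mod Λ X) (EtModW.ModP Λ X)).obj (EtModW.epsPullMod Λ X) ⋙ lim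

instance additive_limEpsF : (limEpsF Λ X).Additive where
  map_add {A B f g} := limit.hom_ext fun j => by
    simp

theorem preservesFiniteLimits_limEpsF : PreservesFiniteLimits (limEpsF Λ X) := by
  haveI := GrothLib.ProEtS.preservesFiniteLimits_epsPullMod (X := X) (Λ := Λ)
  haveI : PreservesFiniteLimits ((Functor.whiskeringRight ℕᵒᵖ (EtModW.Mod Λ X) (EtModW.ModP Λ X)).obj
      (EtModW.epsPullMod Λ X)) := ⟨fun J _ _ => inferInstance⟩
  haveI : PreservesFiniteLimits (lim : PS (EtModW.ModP Λ X) ⥤ EtModW.ModP Λ X) :=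
    haveI := (constLimAdj (J := ℕᵒᵖ) (C := EtModW.ModP Λ X)).rightAdjoint_preservesLimits.{0, 0}
    inferInstance
  exact comp_preservesFiniteLimits _ _

theorem epi_limEps_map {S : ShortComplex (PS (EtModW.Mod Λ X))} (hS : S.ShortExact) (hA : IsMLAR S.X₁) :
    Epi (limMap (Functor.whiskerRight S.g (EtModW.epsPullMod Λ X))) := by
  haveI := GrothLib.ProEtS.preservesFiniteLimits_epsPullMod (X := X) (Λ := Λ)
  haveI := GrothLib.ProEtS.preservesFiniteColimits_epsPullMod X Λ
  refine GrothLib.ProEtS.epi_of_wc _ fun U hU t => ?_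
  haveI := GrothLib.ProEtS.preservesFiniteColimits_evalP (Λ := Λ) hU
  let E := EtModW.epsPullMod Λ X ⋙ GrothLib.ProEtS.evalP Λ U
  haveI : PreservesFiniteColimits E := comp_preservesFiniteColimits _ _
  haveI : PreservesFiniteLimits E := comp_preservesFiniteLimits _ _
  haveI : E.PreservesEpimorphisms := inferInstance
  obtain ⟨r, hr⟩ := hA
  have hS' : ∀ n : ℕ, ((S.map ((evaluation ℕᵒᵖ (EtModW.Mod Λ X)).obj (op n))).map E).ShortExact := fun n =>
    (GrothLib.ARSys.shortExact_app hS n).map_of_exact E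
  have hlim := isLimitOfPreserves (GrothLib.ProEtS.evalP Λ U) (limit.isLimit (S.X₂ ⋙ EtModW.epsPullMod Λ X))
  have hlim₃ := isLimitOfPreserves (GrothLib.ProEtS.evalP Λ U) (limit.isLimit (S.X₃ ⋙ EtModW.epsPullMod Λ X))
  obtain ⟨y, hy, hy'⟩ := surjective_lim_of_ML r (Functor.whiskerRight S.f E) (Functor.whiskerRight S.g E)
    (fun n => (((ShortComplex.moduleCat_exact_iff_range_eq_ker _).1 (hS' n).exact)).symm)
    (fun n => (hS' n).moduleCat_surjective_g)
    (fun n => range_map_eq_of_imageSubobject_eq E (hr (r + 1) (Nat.le_succ r) n))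
    (fun n => ((GrothLib.ProEtS.evalP Λ U).map (limit.π (S.X₃ ⋙ EtModW.epsPullMod Λ X) (op n))) t)
    (fun n => by
      refine (ConcreteCategory.congr_hom (((GrothLib.ProEtS.evalP Λ U).map_comp _ _).symm.trans
        (congrArg (GrothLib.ProEtS.evalP Λ U).map (limit.w (S.X₃ ⋙ EtModW.epsPullMod Λ X)
          (homOfLE (Nat.le_succ n)).op))) t).trans ?_
      rfl)
  obtain ⟨x, hx⟩ := GrothLib.AdicModule.exists_of_isLimit hlim y hy
  refine ⟨x, Concrete.isLimit_ext _ hlim₃ _ _ fun j => ?_⟩
  induction j using Opposite.rec with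
  | op n =>
    refine (ConcreteCategory.congr_hom (((GrothLib.ProEtS.evalP Λ U).map_comp _ _).symm.trans
      (congrArg (GrothLib.ProEtS.evalP Λ U).map (limMap_π (Functor.whiskerRight S.g (EtModW.epsPullMod Λ X)) (op n)))) x).trans ?_
    refine (ConcreteCategory.congr_hom ((GrothLib.ProEtS.evalP Λ U).map_comp _ _) x).trans ?_
    exact (congrArg ((Functor.whiskerRight S.g E).app (op n)) (hx n)).trans (hy' n)

end Et

end GrothLib.AdicP
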