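import Groth.Agent.Lib.ProEtS.AdicPAbelian
import Groth.Agent.Lib.ProEtS.AdicCompleteExt
import Groth.Agent.S14019
import Mathlib.Algebra.Homology.ShortComplex.SnakeLemma

/-!
# Extensions of adic pro-étale sheaves for a principal ideal
-/

set_option autoImplicit false
set_option linter.style.haveILetI false
set_option linter.unusedSectionVars false
set_option backward.isDefEq.respectTransparency.types false

universe u w v u₁

open CategoryTheory CategoryTheory.Limits AlgebraicGeometry Opposite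

noncomputable section

namespace GrothLib.AdicP

open _root_.ARSys

section General

variable {C : Type u₁} [Category.{v} C] [Abelian C] {A : Type w} [CommRing A] [Linear A C]

theorem isQuot_cokernel (c : A) (F : C) : IsQuot (Ideal.span {c}) (cokernel.π (c • 𝟙 F)) := by
  have h0 : c • cokernel.π (c • 𝟙 F) = 0 := by
    have := cokernel.condition (c • 𝟙 F)
    rwa [Linear.smul_comp, Category.id_comp] at this
  refine ⟨fun r hr => ?_, fun Y φ hφ => ?_⟩
  · obtain ⟨t, rfl⟩ := Ideal.mem_span_singleton'.1 hr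
    rw [← cancel_epi (cokernel.π (c • 𝟙 F)), comp_zero, Linear.comp_smul, Category.comp_id, mul_smul, h0, smul_zero]
  · have hc : (c • 𝟙 F) ≫ φ = 0 := by
      rw [Linear.smul_comp, Category.id_comp]
      exact hφ c (Ideal.mem_span_singleton_self c)
    exact ⟨cokernel.desc _ φ hc, cokernel.π_desc _ _ _,
      fun y hy => (cancel_epi (cokernel.π (c • 𝟙 F))).1 (hy.trans (cokernel.π_desc _ _ _).symm)⟩

theorem nonempty_iso_of_isQuot {I : Ideal A} {F Q Q' : C} {p : F ⟶ Q} {p' : F ⟶ Q'} (h : IsQuot I p)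
    (h' : IsQuot I p') : Nonempty (Q ≅ Q') := by
  haveI := GrothLib.ARSys.IsQuot.epi h
  haveI := GrothLib.ARSys.IsQuot.epi h'
  obtain ⟨α, hα, -⟩ := h.2 Q' p' (GrothLib.ARSys.homKilledBy_of_tgt h'.1 p')
  obtain ⟨β, hβ, -⟩ := h'.2 Q p (GrothLib.ARSys.homKilledBy_of_tgt h.1 p)
  have hα' : p ≫ α = p' := hα
  have hβ' : p' ≫ β = p := hβ
  exact ⟨⟨α, β, (cancel_epi p).1 (by rw [reassoc_of% hα', hβ', Category.comp_id]),
    (cancel_epi p').1 (by rw [reassoc_of% hβ', hα', Category.comp_id])⟩⟩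

theorem nonempty_iso_of_killed {I : Ideal A} {F Q : C} {p : F ⟶ Q} (h : IsQuot I p) (hF : KilledBy I F) :
    Nonempty (Q ≅ F) := by
  refine nonempty_iso_of_isQuot h (p' := 𝟙 F) ⟨hF, fun Y φ _ => ⟨φ, Category.id_comp φ, fun y hy => ?_⟩⟩
  simpa using hy

/-- The middle cokernel of an endomorphism of a short exact sequence. -/
theorem prop_cokernel_of_shortExact (P : ObjectProperty C) [WSerre.IsWeakSerre P] {S : ShortComplex C}
    (hS : S.ShortExact) (c : A) (h₁ : P (cokernel (c • 𝟙 S.X₁))) (h₀ : P (kernel (c • 𝟙 S.X₃)))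
    (h₃ : P (cokernel (c • 𝟙 S.X₃))) : P (cokernel (c • 𝟙 S.X₂)) := by
  let φ : S ⟶ S :=
    { τ₁ := c • 𝟙 _
      τ₂ := c • 𝟙 _
      τ₃ := c • 𝟙 _
      comm₁₂ := by simp
      comm₂₃ := by simp }
  let D : ShortComplex.SnakeInput C :=
    { L₀ := kernel φ, L₁ := S, L₂ := S, L₃ := cokernel φ
      v₀₁ := kernel.ι φ, v₁₂ := φ, v₂₃ := cokernel.π φ
      w₀₂ := kernel.condition φ, w₁₃ := cokernel.condition φ
      h₀ := kernelIsKernel φ, h₃ := cokernelIsCokernel φ
      L₁_exact := hS.exact, epi_L₁_g := hS.epi_g, L₂_exact := hS.exact, mono_L₂_f := hS.mono_f }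
  have hk : P D.L₀.X₃ := P.prop_of_iso (PreservesKernel.iso ShortComplex.π₃ φ).symm h₀
  have hc₁ : P D.L₃.X₁ := P.prop_of_iso (PreservesCokernel.iso ShortComplex.π₁ φ).symm h₁
  have hc₃ : P D.L₃.X₃ := P.prop_of_iso (PreservesCokernel.iso ShortComplex.π₃ φ).symm h₃
  haveI : Epi D.L₂.g := hS.epi_g
  have hM : P (cokernel D.δ) := P.prop_of_isColimit_cokernelCofork (colimit.isColimit (parallelPair D.δ 0)) hk hc₁
  have hw : cokernel.desc D.δ D.L₃.f D.δ_L₃_f ≫ D.L₃.g = 0 := by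
    rw [← cancel_epi (cokernel.π D.δ), cokernel.π_desc_assoc, comp_zero, D.L₃.zero]
  haveI : Epi D.L₃.g := ShortComplex.SnakeInput.epi_L₃_g D
  haveI : Mono (cokernel.desc D.δ D.L₃.f D.δ_L₃_f) := (ShortComplex.exact_iff_mono_cokernel_desc D.L₂').1 D.L₂'_exact
  have hT : (ShortComplex.mk _ _ hw).ShortExact := by
    refine ShortComplex.ShortExact.mk' ?_ inferInstance (inferInstanceAs (Epi D.L₃.g))
    let ψ : D.L₃ ⟶ ShortComplex.mk _ _ hw :=
      { τ₁ := cokernel.π D.δ
        τ₂ := 𝟙 _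
        τ₃ := 𝟙 _
        comm₁₂ := by simp
        comm₂₃ := by simp }
    haveI : Epi ψ.τ₁ := inferInstanceAs (Epi (cokernel.π D.δ))
    haveI : IsIso ψ.τ₂ := inferInstanceAs (IsIso (𝟙 _))
    haveI : Mono ψ.τ₃ := inferInstanceAs (Mono (𝟙 _))
    exact (ShortComplex.exact_iff_of_epi_of_isIso_of_mono ψ).1 D.L₃_exact
  have h₂ : P (ShortComplex.mk _ _ hw).X₂ := ObjectProperty.prop_X₂_of_shortExact (S := ShortComplex.mk _ _ hw) P hT hM hc₃
  exact P.prop_of_iso (PreservesCokernel.iso ShortComplex.π₂ φ) h₂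

end General

section Et

variable {X : Scheme.{u}} {Λ : Type (u + 1)} [CommRing Λ] [IsNoetherianRing Λ] [IsNoetherian X]
  [ProEtS.EpsCont X]

/-- Sections of an adic pro-étale sheaf over a weakly contractible object are complete. -/
theorem isAdicComplete_sections {I : Ideal Λ} {F : EtModW.ModP Λ X} (h : IsAdicP I F) {U : X.ProEt}
    (hU : ProEtS.IsWC U) : IsAdicComplete I ((GrothLib.ProEtS.evalP Λ U).obj F) := by
  obtain ⟨G, hG, -, ⟨e⟩⟩ := h
  have hI : I.FG := IsNoetherian.noetherian I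
  haveI := GrothLib.ProEtS.preservesFiniteColimits_epsPullMod X Λ
  haveI := GrothLib.ProEtS.preservesFiniteColimits_evalP (Λ := Λ) hU
  let Q := G ⋙ EtModW.epsPullMod Λ X
  let c : Cone Q := (limit.cone Q).extend e.inv
  have hc : IsLimit c := IsLimit.extendIso e.inv (limit.isLimit Q)
  have hL := GrothLib.AdicModule.isLimitSystem_of_isAdic
    (GrothLib.ModConstr.isAdic_map (GrothLib.ProEtS.evalP Λ U) hI (GrothLib.ModConstr.isAdic_map _ hI hG))
    (isLimitOfPreserves (GrothLib.ProEtS.evalP Λ U) hc)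
  exact hL.isAdicComplete_of_ker (hL.ker_eq_of_fg hI)

theorem exists_torsion_bound {a : Λ} {H : EtModW.ModP Λ X} (h : IsAdicP (Ideal.span {a}) H) :
    ∃ N : ℕ, ∀ {U : X.ProEt}, ProEtS.IsWC U → ∀ (k : ℕ) (x : (GrothLib.ProEtS.evalP Λ U).obj H),
      a ^ k • x = 0 → a ^ N • x = 0 := by
  have hle : ∀ {i j : ℕ}, i ≤ j → kernelSubobject (a ^ i • 𝟙 H) ≤ kernelSubobject (a ^ j • 𝟙 H) := fun {i j} hij => by
    refine le_kernelSubobject _ _ ?_
    have hk := kernelSubobject_arrow_comp (a ^ i • 𝟙 H)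
    simp only [Linear.comp_smul, Category.comp_id] at hk ⊢
    rw [← Nat.sub_add_cancel hij, pow_add, mul_smul, hk, smul_zero]
  obtain ⟨k₀, hk₀⟩ := chain_stationary h ⟨fun k => kernelSubobject (a ^ k • 𝟙 H), fun i j => hle⟩ fun k => by
    obtain ⟨G, hG, hGc, ⟨e⟩⟩ := (isAdicP_kernel_cokernel h h (a ^ k • 𝟙 H)).1
    exact ⟨G, hG, hGc, ⟨e ≪≫ (kernelSubobjectIso _).symm⟩⟩
  refine ⟨k₀, fun {U} hU k x hx => ?_⟩
  have hle' : kernelSubobject (a ^ k • 𝟙 H) ≤ kernelSubobject (a ^ k₀ • 𝟙 H) :=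
    (hle (le_max_left k k₀)).trans (hk₀ _ (le_max_right k k₀)).le
  have hz : kernel.ι (a ^ k • 𝟙 H) ≫ (a ^ k₀ • 𝟙 H) = 0 := by
    rw [← kernelSubobject_arrow' (a ^ k • 𝟙 H), ← Subobject.ofLE_arrow hle']
    simp only [Category.assoc, kernelSubobject_arrow_comp, comp_zero]
  haveI : PreservesFiniteLimits (GrothLib.ProEtS.evalP Λ U) := inferInstance
  have he : ((ShortComplex.mk (kernel.ι (a ^ k • 𝟙 H)) (a ^ k • 𝟙 H) (kernel.condition _)).map
      (GrothLib.ProEtS.evalP Λ U)).Exact :=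
    (ShortComplex.exact_of_f_is_kernel _ (kernelIsKernel _)).map_of_mono_of_preservesKernel _
      (inferInstanceAs (Mono (kernel.ι (a ^ k • 𝟙 H)))) inferInstance
  obtain ⟨y, rfl⟩ := ((ShortComplex.moduleCat_exact_iff _).1 he) x (by
    show (GrothLib.ProEtS.evalP Λ U).map (a ^ k • 𝟙 H) x = 0
    rw [Functor.map_smul, CategoryTheory.Functor.map_id]
    exact hx)
  have h2 := ConcreteCategory.congr_hom (congrArg (GrothLib.ProEtS.evalP Λ U).map hz) y
  rw [Functor.map_comp, Functor.map_smul, CategoryTheory.Functor.map_id, Functor.map_zero] at h2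
  exact h2

omit [IsNoetherianRing Λ] [AlgebraicGeometry.IsNoetherian X] [ProEtS.EpsCont X] in
/-- The tower of quotients by the powers of an element. -/
theorem exists_tower (a : Λ) (G : EtModW.ModP Λ X) :
    ∃ (Q : PS (EtModW.ModP Λ X)) (p : (Functor.const ℕᵒᵖ).obj G ⟶ Q),
      ∀ n : ℕ, IsQuot (Ideal.span {a} ^ (n + 1)) (p.app (op n)) ∧
        Nonempty (cokernel (a ^ (n + 1) • 𝟙 G) ≅ Q.obj (op n)) := by
  have hsp : ∀ n : ℕ, Ideal.span {a ^ (n + 1)} = Ideal.span {a} ^ (n + 1) := fun n =>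
    (Ideal.span_singleton_pow a (n + 1)).symm
  let Q : PS (EtModW.ModP Λ X) :=
    { obj := fun n => cokernel (a ^ (n.unop + 1) • 𝟙 G)
      map := fun {m n} f => cokernel.desc _ (cokernel.π (a ^ (n.unop + 1) • 𝟙 G)) (by
        have hle : n.unop + 1 ≤ m.unop + 1 := Nat.add_le_add_right f.unop.le 1
        have h0 := cokernel.condition (a ^ (n.unop + 1) • 𝟙 G)
        simp only [Linear.smul_comp, Category.id_comp] at h0 ⊢
        rw [show a ^ (m.unop + 1) = a ^ (m.unop - n.unop) * a ^ (n.unop + 1) by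
          rw [← pow_add]; congr 1; omega, mul_smul, h0, smul_zero])
      map_id := fun m => by
        rw [← cancel_epi (cokernel.π (a ^ (m.unop + 1) • 𝟙 G)), cokernel.π_desc, Category.comp_id]
      map_comp := fun {m n l} f g => by
        rw [← cancel_epi (cokernel.π (a ^ (m.unop + 1) • 𝟙 G)), cokernel.π_desc, cokernel.π_desc_assoc,
          cokernel.π_desc] }
  let p : (Functor.const ℕᵒᵖ).obj G ⟶ Q :=
    { app := fun n => cokernel.π (a ^ (n.unop + 1) • 𝟙 G)
      naturality := fun m n f => by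
        show 𝟙 G ≫ _ = _ ≫ cokernel.desc _ _ _
        rw [cokernel.π_desc, Category.id_comp] }
  have hp : ∀ n : ℕ, IsQuot (Ideal.span {a} ^ (n + 1)) (p.app (op n)) := fun n =>
    hsp n ▸ isQuot_cokernel (a ^ (n + 1)) G
  exact ⟨Q, p, fun n => ⟨hp n, ⟨Iso.refl _⟩⟩⟩

omit [IsNoetherianRing Λ] [AlgebraicGeometry.IsNoetherian X] [ProEtS.EpsCont X] in
/-- A tower of quotients of a sheaf with complete sections on weakly contractible objects. -/
theorem isIso_lift_of_complete {I : Ideal Λ} (hI : I.FG) {G : EtModW.ModP Λ X} {Q : PS (EtModW.ModP Λ X)}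
    (p : (Functor.const ℕᵒᵖ).obj G ⟶ Q) (hp : ∀ n : ℕ, IsQuot (I ^ (n + 1)) (p.app (op n)))
    (hc : ∀ U : X.ProEt, ProEtS.IsWC U → IsAdicComplete I ((GrothLib.ProEtS.evalP Λ U).obj G)) :
    IsIso (limit.lift Q (Cone.mk G p)) := by
  refine GrothLib.ProEtS.isIso_of_wc _ fun U hU => ?_
  haveI := hc U hU
  have hq := fun n => (GrothLib.AdicModule.isQuot_iff _).1 (GrothLib.ProEtS.isQuot_evalP (hI.pow (n := n + 1)) (hp n) hU)
  have hlift : ∀ (n : ℕ) (x : (GrothLib.ProEtS.evalP Λ U).obj G),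
      (GrothLib.ProEtS.evalP Λ U).map (limit.π Q (op n))
        ((GrothLib.ProEtS.evalP Λ U).map (limit.lift Q (Cone.mk G p)) x) =
      (GrothLib.ProEtS.evalP Λ U).map (p.app (op n)) x := fun n x => by
    refine (ConcreteCategory.congr_hom (((GrothLib.ProEtS.evalP Λ U).map_comp _ _).symm.trans
      (congrArg (GrothLib.ProEtS.evalP Λ U).map (limit.lift_π (Cone.mk G p) (op n)))) x).trans rfl
  have hlim := isLimitOfPreserves (GrothLib.ProEtS.evalP Λ U) (limit.isLimit Q)
  refine ⟨(injective_iff_map_eq_zero _).2 fun x hx => IsHausdorff.haus' (I := I) x fun n => ?_, fun y => ?_⟩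
  · cases n with
    | zero => rw [pow_zero, Ideal.one_eq_top, Submodule.top_smul]; exact SModEq.top
    | succ n =>
      have h0 : x ∈ LinearMap.ker ((GrothLib.ProEtS.evalP Λ U).map (p.app (op n))).hom := by
        rw [LinearMap.mem_ker]
        exact (hlift n x).symm.trans ((congrArg _ hx).trans (map_zero _))
      rw [(hq n).2] at h0
      rwa [SModEq.sub_mem, sub_zero]
  · choose x hx using fun n => (hq n).1 ((GrothLib.ProEtS.evalP Λ U).map (limit.π Q (op n)) y)
    let g : ℕ → (GrothLib.ProEtS.evalP Λ U).obj G := fun k => x (k - 1)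
    have hcauchy : ∀ {m n : ℕ}, m ≤ n → g m ≡ g n [SMOD I ^ m •
        (⊤ : Submodule Λ ((GrothLib.ProEtS.evalP Λ U).obj G))] := fun {m n} h => by
      cases m with
      | zero => rw [pow_zero, Ideal.one_eq_top, Submodule.top_smul]; exact SModEq.top
      | succ m =>
        rw [SModEq.sub_mem, ← (hq m).2, LinearMap.mem_ker, map_sub, sub_eq_zero]
        simp only [g]
        have hle : m ≤ n - 1 := by omega
        refine (hx m).trans ?_
        refine Eq.trans ?_ (ConcreteCategory.congr_hom (((GrothLib.ProEtS.evalP Λ U).map_comp _ _).symm.trans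
          (congrArg (GrothLib.ProEtS.evalP Λ U).map
            (show p.app (op (n - 1)) ≫ tr Q hle = p.app (op m) from
              (p.naturality (homOfLE hle).op).symm.trans (Category.id_comp _)))) (x (n - 1)))
        refine Eq.trans ?_ (congrArg ((GrothLib.ProEtS.evalP Λ U).map (tr Q hle)) (hx (n - 1))).symm
        exact (ConcreteCategory.congr_hom (((GrothLib.ProEtS.evalP Λ U).map_comp _ _).symm.trans
          (congrArg (GrothLib.ProEtS.evalP Λ U).map (limit.w Q (homOfLE hle).op))) y).symm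
    obtain ⟨L, hL⟩ := IsPrecomplete.prec' (I := I) g hcauchy
    refine ⟨L, Concrete.isLimit_ext _ hlim _ _ fun j => ?_⟩
    induction j using Opposite.rec with
    | op n =>
      have h1 := SModEq.sub_mem.1 (hL (n + 1))
      rw [← (hq n).2, LinearMap.mem_ker, map_sub, sub_eq_zero] at h1
      exact (hlift n L).trans (h1.symm.trans (hx n))

/-- An extension of adic pro-étale sheaves for a principal ideal. -/
theorem isAdicP_extension {a : Λ} {S : ShortComplex (EtModW.ModP Λ X)} (hS : S.ShortExact)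
    (h₁ : IsAdicP (Ideal.span {a}) S.X₁) (h₃ : IsAdicP (Ideal.span {a}) S.X₃) :
    IsAdicP (Ideal.span {a}) S.X₂ := by
  rw [← isAdicP_iff']
  obtain ⟨N, hN⟩ := exists_torsion_bound h₃
  let P : ObjectProperty (EtModW.ModP Λ X) := fun F =>
    ∃ E : EtModW.Mod Λ X, EtModW.IsConstructible Λ E ∧ Nonempty ((EtModW.epsPullMod Λ X).obj E ≅ F)
  haveI : WSerre.IsWeakSerre P := Groth.Agent.S14019.result Λ X
  have hsp : ∀ n : ℕ, Ideal.span {a ^ (n + 1)} = Ideal.span {a} ^ (n + 1) := fun n =>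
    (Ideal.span_singleton_pow a (n + 1)).symm
  have hP : ∀ {H : EtModW.ModP Λ X}, IsAdicP (Ideal.span {a}) H → ∀ n : ℕ,
      P (cokernel (a ^ (n + 1) • 𝟙 H)) := fun {H} hH n => by
    obtain ⟨Q, p, hp, hE, -⟩ := (isAdicP_iff' H).2 hH
    obtain ⟨e⟩ := nonempty_iso_of_isQuot (hp n) (hsp n ▸ isQuot_cokernel (a ^ (n + 1)) H)
    exact P.prop_of_iso e (hE n)
  have hK : ∀ n : ℕ, P (kernel (a ^ (n + 1) • 𝟙 S.X₃)) := fun n => by
    obtain ⟨Q, p, hp, hE, -⟩ := (isAdicP_iff' _).2 (isAdicP_kernel_cokernel h₃ h₃ (a ^ (n + 1) • 𝟙 S.X₃)).1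
    have hk : KilledBy (Ideal.span {a} ^ (n + 1)) (kernel (a ^ (n + 1) • 𝟙 S.X₃)) := fun r hr => by
      rw [← hsp] at hr
      obtain ⟨t, rfl⟩ := Ideal.mem_span_singleton'.1 hr
      rw [mul_smul, ← cancel_mono (kernel.ι (a ^ (n + 1) • 𝟙 S.X₃)), zero_comp, Linear.smul_comp,
        Linear.smul_comp, Category.id_comp]
      have := kernel.condition (a ^ (n + 1) • 𝟙 S.X₃)
      rw [Linear.comp_smul, Category.comp_id] at this
      rw [this, smul_zero]
    obtain ⟨e⟩ := nonempty_iso_of_killed (hp n) hk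
    exact P.prop_of_iso e (hE n)
  obtain ⟨Q, p, hp⟩ := exists_tower a S.X₂
  refine ⟨Q, p, fun n => (hp n).1, fun n => ?_,
    isIso_lift_of_complete (IsNoetherian.noetherian _) p (fun n => (hp n).1) fun U hU => ?_⟩
  · obtain ⟨e⟩ := (hp n).2
    exact P.prop_of_iso e (prop_cokernel_of_shortExact P hS (a ^ (n + 1)) (hP h₁ n) (hK n) (hP h₃ n))
  haveI := GrothLib.ProEtS.preservesFiniteColimits_evalP (Λ := Λ) hU
  haveI : PreservesFiniteLimits (GrothLib.ProEtS.evalP Λ U) := inferInstance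
  have hse := hS.map_of_exact (GrothLib.ProEtS.evalP Λ U)
  haveI : IsAdicComplete (Ideal.span {a}) (S.map (GrothLib.ProEtS.evalP Λ U)).X₁ := isAdicComplete_sections h₁ hU
  haveI : IsAdicComplete (Ideal.span {a}) (S.map (GrothLib.ProEtS.evalP Λ U)).X₃ := isAdicComplete_sections h₃ hU
  exact
    GrothLib.AdicCompleteExt.isAdicComplete_of_extension a (S.map (GrothLib.ProEtS.evalP Λ U)).f.hom
      (S.map (GrothLib.ProEtS.evalP Λ U)).g.hom hse.moduleCat_injective_f hse.moduleCat_surjective_g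
      ((ShortComplex.moduleCat_exact_iff_range_eq_ker _).1 hse.exact).symm N (hN hU)

end Et

end GrothLib.AdicP
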