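import Groth.Agent.Lib.ProEtS.Topology
import Groth.Agent.Lib.WLocal.WCover
import Mathlib.AlgebraicGeometry.Morphisms.Flat

/-!
# Affine weakly étale morphisms and w-contractible rings
-/

set_option autoImplicit false
set_option backward.isDefEq.respectTransparency.types false

universe u

open CategoryTheory CategoryTheory.Limits AlgebraicGeometry Opposite

namespace GrothLib.ProEtS

theorem algebra_appTop {W U : Scheme.{u}} [IsAffine W] [IsAffine U] (G : W ⟶ U) [WeaklyEtale G]
    [Surjective G] :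
    letI := G.appTop.hom.toAlgebra
    Module.FaithfullyFlat Γ(U, ⊤) Γ(W, ⊤) ∧ Algebra.WeaklyEtale Γ(U, ⊤) Γ(W, ⊤) :=
  ⟨(Flat.flat_and_surjective_iff_faithfullyFlat_of_isAffine G).1 ⟨inferInstance, ‹_›⟩,
    (WeakEtale.weaklyEtale_specMap_iff G.appTop).1
      ((MorphismProperty.arrow_mk_iso_iff @WeaklyEtale (arrowIsoSpecΓOfIsAffine G)).1 ‹_›)⟩

/-- A weakly étale surjection onto a w-contractible affine has a section. -/
theorem exists_section {W U : Scheme.{u}} [IsAffine W] [IsAffine U] (G : W ⟶ U) [WeaklyEtale G]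
    [Surjective G] (h : EtPBC.IsWContractible Γ(U, ⊤)) : ∃ σ : U ⟶ W, σ ≫ G = 𝟙 U := by
  obtain ⟨hff, hwe⟩ := algebra_appTop G
  letI := G.appTop.hom.toAlgebra
  obtain ⟨r⟩ := h Γ(W, ⊤) hff hwe
  have hr : G.appTop ≫ CommRingCat.ofHom r.toRingHom = 𝟙 _ := by
    ext x
    exact r.commutes x
  refine ⟨U.isoSpec.hom ≫ Spec.map (CommRingCat.ofHom r.toRingHom) ≫ W.isoSpec.inv, ?_⟩
  rw [Category.assoc, Category.assoc, ← Scheme.isoSpec_inv_naturality, ← Spec.map_comp_assoc, hr,
    Spec.map_id, Category.id_comp, Iso.hom_inv_id]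

/-- Conversely, sections of all affine weakly étale surjections give w-contractibility. -/
theorem isWContractible_of_exists_section {U : Scheme.{u}} [IsAffine U]
    (h : ∀ (W : Scheme.{u}) (G : W ⟶ U), IsAffine W → WeaklyEtale G → Surjective G →
      ∃ σ : U ⟶ W, σ ≫ G = 𝟙 U) : EtPBC.IsWContractible Γ(U, ⊤) := by
  intro B _ _ hff hwe
  let φ : Γ(U, ⊤) ⟶ CommRingCat.of B := CommRingCat.ofHom (algebraMap Γ(U, ⊤) B)
  haveI : WeaklyEtale (Spec.map φ) := WeakEtale.algebra_iff_specMap.2 hwe
  haveI : Surjective (Spec.map φ) :=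
    ((flat_and_surjective_SpecMap_iff φ).2 (RingHom.faithfullyFlat_algebraMap_iff.2 hff)).2
  obtain ⟨σ, hσ⟩ := h (Spec (CommRingCat.of B)) (Spec.map φ ≫ U.isoSpec.inv) inferInstance
    inferInstance inferInstance
  obtain ⟨r, hr⟩ := Spec.map_surjective (U.isoSpec.inv ≫ σ)
  have hr' : φ ≫ r = 𝟙 _ := by
    apply Spec.map_injective
    rw [Spec.map_comp, hr, Spec.map_id, ← cancel_mono U.isoSpec.inv]
    simp only [Category.assoc, hσ, Category.comp_id, Category.id_comp]
  exact ⟨{ r.hom with commutes' := fun x => congr($(hr').hom x) }⟩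

theorem isWContractible_of_ringEquiv {R R' : Type u} [CommRing R] [CommRing R'] (e : R ≃+* R')
    (h : EtPBC.IsWContractible R) : EtPBC.IsWContractible R' := by
  intro B _ _ hff hwe
  letI : Algebra R B := ((algebraMap R' B).comp e.toRingHom).toAlgebra
  have hff' : Module.FaithfullyFlat R B := RingHom.faithfullyFlat_algebraMap_iff.1
    (RingHom.FaithfullyFlat.stableUnderComposition _ _ (RingHom.FaithfullyFlat.of_bijective (f := e.toRingHom) e.bijective)
      (RingHom.faithfullyFlat_algebraMap_iff.2 hff))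
  have hwe' : Algebra.WeaklyEtale R B := by
    refine WeakEtale.algebra_iff_specMap.1 ?_
    show WeaklyEtale (Spec.map (e.toCommRingCatIso.hom ≫ CommRingCat.ofHom (algebraMap R' B)))
    rw [Spec.map_comp]
    haveI : WeaklyEtale (Spec.map (CommRingCat.ofHom (algebraMap R' B))) :=
      WeakEtale.algebra_iff_specMap.2 hwe
    infer_instance
  obtain ⟨r⟩ := h B hff' hwe'
  exact ⟨{ e.toRingHom.comp r.toRingHom with
    commutes' := fun x => by
      show e (r (algebraMap R' B x)) = x
      have := r.commutes (e.symm x)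
      rw [show algebraMap R B (e.symm x) = algebraMap R' B x from congrArg (algebraMap R' B) (e.apply_symm_apply x)] at this
      rw [this]
      exact e.apply_symm_apply x }⟩

/-- Affine weakly étale covers by w-contractible affines. -/
theorem exists_affine_wContractible_cover
    (U : Scheme.{u}) [IsAffine U] :
    ∃ (V : Scheme.{u}) (g : V ⟶ U), IsAffine V ∧ WeaklyEtale g ∧ Surjective g ∧
      EtPBC.IsWContractible Γ(V, ⊤) := by
  obtain ⟨C, _, _, hff, hie, hC⟩ := WLocal.exists_wContractible_cover Γ(U, ⊤)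
  have hwe : Algebra.WeaklyEtale Γ(U, ⊤) C := IndEt.weaklyEtale hie
  let φ : Γ(U, ⊤) ⟶ CommRingCat.of C := CommRingCat.ofHom (algebraMap Γ(U, ⊤) C)
  haveI : WeaklyEtale (Spec.map φ) := WeakEtale.algebra_iff_specMap.2 hwe
  haveI : Surjective (Spec.map φ) :=
    ((flat_and_surjective_SpecMap_iff φ).2 (RingHom.faithfullyFlat_algebraMap_iff.2 hff)).2
  refine ⟨Spec (CommRingCat.of C), Spec.map φ ≫ U.isoSpec.inv, inferInstance, inferInstance,
    inferInstance, ?_⟩
  exact isWContractible_of_ringEquiv (Scheme.ΓSpecIso (CommRingCat.of C)).symm.commRingCatIsoToRingEquiv hC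

end GrothLib.ProEtS
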