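import Groth.Agent.Lib.ProEtS.Exact
import Mathlib.Topology.Constructible

/-!
# Closed immersions with retrocompact complement
-/

set_option autoImplicit false
set_option backward.isDefEq.respectTransparency.types false

universe u

open CategoryTheory CategoryTheory.Limits AlgebraicGeometry Opposite

namespace GrothLib.ProEtS

/-- A quotient of a w-contractible ring by an ideal cutting out a constructible closed set is
w-contractible. -/
theorem isWContractible_of_surjective {A C : Type u} [CommRing A] [CommRing C] [Algebra A C]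
    (hA : EtPBC.IsWContractible A) (hC : Function.Surjective (algebraMap A C))
    (hqc : IsCompact (Set.range (PrimeSpectrum.comap (algebraMap A C)))ᶜ) :
    EtPBC.IsWContractible C := by
  have hembC := PrimeSpectrum.isClosedEmbedding_comap_of_surjective C (algebraMap A C) hC
  obtain ⟨t, ht⟩ := PrimeSpectrum.isCompact_isOpen_iff.1 ⟨hqc, hembC.isClosed_range.isOpen_compl⟩
  let J : Ideal A := Ideal.span (t : Set A)
  haveI : Algebra.FinitePresentation A (A ⧸ J) := Algebra.FinitePresentation.quotient ⟨t, rfl⟩
  haveI : Module.Finite A C := Module.Finite.of_surjective (Algebra.linearMap A C) hC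
  haveI : Module.Finite A (A ⧸ J) := Module.Finite.of_surjective (Algebra.linearMap A (A ⧸ J)) Ideal.Quotient.mk_surjective
  have hB : EtPBC.IsWContractible (A ⧸ J) := WLocal.isWContractible_of_finite A _ hA
  obtain ⟨-, -, hshA⟩ := WLocal.conditions_of_hasIndEtaleRetractions
    (WLocal.hasIndEtaleRetractions_of_isWContractible hA)
  obtain ⟨h1, h2, -⟩ := WLocal.conditions_of_hasIndEtaleRetractions
    (WLocal.hasIndEtaleRetractions_of_isWContractible hB)
  have hembB := PrimeSpectrum.isClosedEmbedding_comap_of_surjective (A ⧸ J) (Ideal.Quotient.mk J)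
    Ideal.Quotient.mk_surjective
  have hr : Set.range (PrimeSpectrum.comap (algebraMap A C)) =
      Set.range (PrimeSpectrum.comap (Ideal.Quotient.mk J)) := by
    rw [range_comap_of_surjective _ _ Ideal.Quotient.mk_surjective, Ideal.mk_ker,
      PrimeSpectrum.zeroLocus_span]
    exact compl_inj_iff.1 ht.symm
  let h : PrimeSpectrum C ≃ₜ PrimeSpectrum (A ⧸ J) :=
    hembC.isEmbedding.toHomeomorph.trans ((Homeomorph.setCongr hr).trans hembB.isEmbedding.toHomeomorph.symm)
  haveI := h2
  refine WLocal.isWContractible_of_conditions (WLocal.homeomorph_isWLocal h h1)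
    (extremallyDisconnected_of_homeo (WLocal.componentsCongr h).symm) fun n hn => ?_
  haveI : (n.comap (algebraMap A C)).IsMaximal := Ideal.comap_isMaximal_of_surjective _ hC
  exact (WLocal.finite_local_props A C _ (hshA _)).2 n rfl

theorem range_specMap_appTop {V W : Scheme.{u}} [IsAffine V] [IsAffine W] (p : W ⟶ V) :
    Set.range (Spec.map p.appTop) = V.isoSpec.hom '' Set.range p := by
  have hn : W.isoSpec.hom ≫ Spec.map p.appTop = p ≫ V.isoSpec.hom := by
    rw [← cancel_mono V.isoSpec.inv, Category.assoc, Scheme.isoSpec_inv_naturality,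
      Iso.hom_inv_id_assoc, Category.assoc, Iso.hom_inv_id, Category.comp_id]
  ext y
  constructor
  · rintro ⟨x, rfl⟩
    obtain ⟨w, rfl⟩ := W.isoSpec.hom.surjective x
    exact ⟨p w, ⟨w, rfl⟩, by rw [← Scheme.Hom.comp_apply, ← hn, Scheme.Hom.comp_apply]⟩
  · rintro ⟨_, ⟨w, rfl⟩, rfl⟩
    exact ⟨W.isoSpec.hom w, by rw [← Scheme.Hom.comp_apply, hn, Scheme.Hom.comp_apply]⟩

theorem isCompact_compl_image {V W : Scheme.{u}} (e : V ⟶ W) [IsIso e] (S : Set V)
    (h : IsCompact Sᶜ) : IsCompact (e '' S)ᶜ := by
  rw [← Set.image_compl_eq (f := e) e.homeomorph.bijective]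
  exact h.image e.continuous

variable {X Z : Scheme.{u}}

theorem isWC_bcP_closed (i : Z ⟶ X) [IsClosedImmersion i] (hr : IsRetrocompact (Set.range i.base)ᶜ)
    (V : X.ProEt) [IsAffine V.left] (hV : EtPBC.IsWContractible ↥Γ(V.left, ⊤))
    (A : X.Opens) (hA : IsAffineOpen A) (a : V.left ⟶ ↑A) (ha : a ≫ A.ι = V.hom) :
    ProEtS.IsWC ((ProEtS.bcP i).obj V) := by
  let p : ((ProEtS.bcP i).obj V).left ⟶ V.left := pullback.fst V.hom i
  haveI : IsClosedImmersion p := MorphismProperty.pullback_fst V.hom i ‹_›
  haveI : IsAffine ((ProEtS.bcP i).obj V).left := isAffine_of_isAffineHom p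
  letI := p.appTop.hom.toAlgebra
  haveI : IsAffine ↑A := hA
  have hK : IsCompact (V.hom ⁻¹' (Set.range i.base)ᶜ : Set V.left) := by
    have h1 := hr hA.isCompact A.2
    have h2 : IsCompact (A.ι ⁻¹' (Set.range i.base)ᶜ : Set ↑A) := by
      refine A.ι.isOpenEmbedding.isInducing.isCompact_iff.2 ?_
      rw [Set.image_preimage_eq_inter_range, Scheme.Opens.range_ι]
      exact h1
    rw [← ha]
    exact QuasiCompact.isCompact_preimage (A.ι ⁻¹' (Set.range i.base)ᶜ)
      ((i.isClosedEmbedding.isClosed_range.isOpen_compl).preimage A.ι.continuous) h2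
  refine isWC_of_isWContractible (isWContractible_of_surjective hV
    (by exact p.app_surjective ⊤ (isAffineOpen_top _)) ?_)
  have hp : Set.range p = V.hom ⁻¹' Set.range i.base := by
    rw [← Scheme.Pullback.range_fst]
    rfl
  show IsCompact (Set.range (Spec.map p.appTop).base)ᶜ
  rw [range_specMap_appTop p, hp]
  exact isCompact_compl_image V.left.isoSpec.hom _ hK

end GrothLib.ProEtS
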