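import Groth.Agent.Lib.ProEtS.Cover
import Groth.Agent.Lib.IndEt.WeaklyEtaleCover
import Groth.Agent.S0755
import Mathlib.CategoryTheory.Sites.DenseSubsite.Basic

/-!
# Base change to a closed subscheme is cover dense and locally full
-/

set_option autoImplicit false
set_option backward.isDefEq.respectTransparency.types false

universe u

open CategoryTheory CategoryTheory.Limits AlgebraicGeometry Opposite

namespace GrothLib.ProEtS

/-- Lift of weakly étale algebras along a surjection, after a faithfully flat extension. -/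
theorem exists_ring_lift {A R B : Type u} [CommRing A] [CommRing R] [CommRing B] (π : A →+* R)
    (hπ : Function.Surjective π) (β : R →+* B)
    (hβ : @Algebra.WeaklyEtale R B _ _ β.toAlgebra) :
    ∃ (C D : Type u) (_ : CommRing C) (_ : CommRing D) (ac : A →+* C) (cd : C →+* D) (bd : B →+* D),
      @Algebra.WeaklyEtale A C _ _ ac.toAlgebra ∧ @Algebra.WeaklyEtale B D _ _ bd.toAlgebra ∧
      bd.FaithfullyFlat ∧ Function.Surjective cd ∧ RingHom.ker cd = (RingHom.ker π).map ac ∧
      cd.comp ac = bd.comp (β.comp π) := by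
  letI := β.toAlgebra
  let e := RingHom.quotientKerEquivOfSurjective hπ
  letI : Algebra (A ⧸ RingHom.ker π) B := (β.comp e.toRingHom).toAlgebra
  haveI : Algebra.WeaklyEtale (A ⧸ RingHom.ker π) B := by
    refine WeakEtale.algebra_iff_specMap.1 ?_
    show WeaklyEtale (Spec.map (e.toCommRingCatIso.hom ≫ CommRingCat.ofHom β))
    rw [Spec.map_comp]
    haveI : WeaklyEtale (Spec.map (CommRingCat.ofHom (algebraMap R B))) :=
      WeakEtale.algebra_iff_specMap.2 hβ
    exact inferInstanceAs (WeaklyEtale (Spec.map (CommRingCat.ofHom (algebraMap R B)) ≫ Spec.map e.toCommRingCatIso.hom))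
  obtain ⟨D, _, _, _, _, hff, hBD, hD⟩ := IndEt.exists_indEtale_cover (A ⧸ RingHom.ker π) B
  obtain ⟨C, _, _, hC, ⟨f⟩⟩ := Groth.Agent.S0755.result A (RingHom.ker π) D hD
  let cd : C →+* D := f.toRingEquiv.toRingHom.comp (Ideal.Quotient.mk _)
  refine ⟨C, D, inferInstance, inferInstance, algebraMap A C, cd, algebraMap B D, ?_, ?_,
    RingHom.faithfullyFlat_algebraMap_iff.2 hff, f.toRingEquiv.surjective.comp Ideal.Quotient.mk_surjective,
    ?_, ?_⟩
  · exact (WeakEtale.weaklyEtale_specMap_iff (CommRingCat.ofHom (algebraMap A C))).1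
      (WeakEtale.algebra_iff_specMap.2 (IndEt.weaklyEtale hC))
  · exact (WeakEtale.weaklyEtale_specMap_iff (CommRingCat.ofHom (algebraMap B D))).1
      (WeakEtale.algebra_iff_specMap.2 (IndEt.weaklyEtale hBD))
  · ext x
    show f (Ideal.Quotient.mk _ x) = 0 ↔ _
    rw [map_eq_zero_iff f f.injective, Ideal.Quotient.eq_zero_iff_mem]
  · ext a
    show f (Ideal.Quotient.mk _ (algebraMap A C a)) = algebraMap B D (β (π a))
    refine (f.commutes (Ideal.Quotient.mk (RingHom.ker π) a)).trans ?_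
    rw [IsScalarTower.algebraMap_apply (A ⧸ RingHom.ker π) B D]
    rfl

/-- Scheme version. -/
theorem exists_scheme_lift {S T W : Scheme.{u}} [IsAffine T] [IsAffine W] [IsAffine S] (p : S ⟶ T)
    [IsClosedImmersion p] (e : W ⟶ S) [WeaklyEtale e] :
    ∃ (T' D : Scheme.{u}) (q : T' ⟶ T) (cl : D ⟶ T') (w : D ⟶ W),
      IsAffine T' ∧ IsAffine D ∧ WeaklyEtale q ∧ IsClosedImmersion cl ∧ WeaklyEtale w ∧ Surjective w ∧
      cl ≫ q = w ≫ e ≫ p ∧
      ∀ (Y : Scheme.{u}) [IsAffine Y] (a : Y ⟶ T') (b : Y ⟶ S), a ≫ q = b ≫ p → ∃ k, k ≫ cl = a := by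
  have hπ : Function.Surjective p.appTop.hom := p.app_surjective ⊤ (isAffineOpen_top _)
  have hβ : @Algebra.WeaklyEtale Γ(S, ⊤) Γ(W, ⊤) _ _ e.appTop.hom.toAlgebra :=
    (WeakEtale.weaklyEtale_specMap_iff e.appTop).1
      ((MorphismProperty.arrow_mk_iso_iff @WeaklyEtale (arrowIsoSpecΓOfIsAffine e)).1 ‹_›)
  obtain ⟨C, D, _, _, ac, cd, bd, hac, hbd, hff, hcd, hker, hcomm⟩ :=
    exists_ring_lift p.appTop.hom hπ e.appTop.hom hβ
  haveI : WeaklyEtale (Spec.map (CommRingCat.ofHom ac)) :=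
    (WeakEtale.weaklyEtale_specMap_iff (CommRingCat.ofHom ac)).2 hac
  haveI : WeaklyEtale (Spec.map (CommRingCat.ofHom bd)) :=
    (WeakEtale.weaklyEtale_specMap_iff (CommRingCat.ofHom bd)).2 hbd
  haveI : Surjective (Spec.map (CommRingCat.ofHom bd)) :=
    ((flat_and_surjective_SpecMap_iff (CommRingCat.ofHom bd)).2 hff).2
  refine ⟨Spec (CommRingCat.of C), Spec (CommRingCat.of D),
    Spec.map (CommRingCat.ofHom ac) ≫ T.isoSpec.inv, Spec.map (CommRingCat.ofHom cd),
    Spec.map (CommRingCat.ofHom bd) ≫ W.isoSpec.inv, inferInstance, inferInstance, inferInstance,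
    IsClosedImmersion.spec_of_surjective _ hcd, inferInstance, inferInstance, ?_, fun Y _ a b hab => ?_⟩
  · rw [Category.assoc, ← Scheme.isoSpec_inv_naturality_assoc, ← Scheme.isoSpec_inv_naturality,
      ← Category.assoc, ← Category.assoc, ← Category.assoc, ← Spec.map_comp, ← Spec.map_comp, ← Spec.map_comp]
    congr 2
    apply CommRingCat.hom_ext
    exact hcomm
  · obtain ⟨φ, hφ⟩ := Spec.map_surjective (Y.isoSpec.inv ≫ a)
    have hφ' : CommRingCat.ofHom ac ≫ φ = p.appTop ≫ b.appTop := by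
      apply Spec.map_injective
      rw [Spec.map_comp, Spec.map_comp, hφ, ← cancel_mono T.isoSpec.inv, Category.assoc, Category.assoc,
        Category.assoc, hab, Scheme.isoSpec_inv_naturality, Scheme.isoSpec_inv_naturality_assoc]
    have hkill : RingHom.ker cd ≤ RingHom.ker φ.hom := by
      rw [hker, Ideal.map_le_iff_le_comap]
      intro x hx
      show φ.hom (ac x) = 0
      have := congr($(hφ').hom x)
      refine this.trans ?_
      show b.appTop.hom (p.appTop.hom x) = 0
      rw [show p.appTop.hom x = 0 from hx, map_zero]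
    refine ⟨Y.isoSpec.hom ≫ Spec.map (CommRingCat.ofHom (RingHom.liftOfSurjective cd hcd ⟨φ.hom, hkill⟩)), ?_⟩
    rw [Category.assoc, ← Spec.map_comp]
    have : CommRingCat.ofHom cd ≫ CommRingCat.ofHom (RingHom.liftOfSurjective cd hcd ⟨φ.hom, hkill⟩) = φ := by
      apply CommRingCat.hom_ext
      exact RingHom.liftOfRightInverse_comp cd _ _ _
    rw [this, hφ, Iso.hom_inv_id_assoc]

variable {X Z : Scheme.{u}} (i : Z ⟶ X) [IsClosedImmersion i]

/-- Weakly étale affines over the special fibre are covered by special fibres. -/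
theorem exists_affine_lift (T : X.ProEt) [IsAffine T.left] (W : Z.ProEt) [IsAffine W.left]
    (e : W ⟶ (ProEtS.bcP i).obj T) :
    ∃ (T' : X.ProEt) (q : T' ⟶ T) (w : (ProEtS.bcP i).obj T' ⟶ W),
      w ≫ e = (ProEtS.bcP i).map q ∧ Sieve.generate (Presieve.singleton w) ∈ Scheme.ProEt.topology Z W := by
  let p : ((ProEtS.bcP i).obj T).left ⟶ T.left := pullback.fst T.hom i
  haveI : IsClosedImmersion p := MorphismProperty.pullback_fst T.hom i ‹_›
  haveI : IsAffine ((ProEtS.bcP i).obj T).left := isAffine_of_isAffineHom p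
  haveI := weaklyEtale_left e
  obtain ⟨T', D, q, cl, w, hT', hD, hq, hcl, hw, hws, hcomm, hfac⟩ := exists_scheme_lift p e.left
  let T'' : X.ProEt := Scheme.ProEt.mk (q ≫ T.hom)
  let q' : T'' ⟶ T := MorphismProperty.Over.homMk q
  let p' : ((ProEtS.bcP i).obj T'').left ⟶ T' := pullback.fst (q ≫ T.hom) i
  haveI : IsClosedImmersion p' := MorphismProperty.pullback_fst (q ≫ T.hom) i ‹_›
  haveI : IsAffine ((ProEtS.bcP i).obj T'').left := isAffine_of_isAffineHom p'
  have hmap : ((ProEtS.bcP i).map q').left ≫ p = p' ≫ q := pullback.lift_fst _ _ _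
  obtain ⟨k, hk⟩ := hfac _ p' ((ProEtS.bcP i).map q').left hmap.symm
  have hjcond : cl ≫ q ≫ T.hom = (w ≫ e.left ≫ pullback.snd T.hom i) ≫ i := by
    simp only [Category.assoc]
    rw [reassoc_of% hcomm]
    exact congrArg (fun t => w ≫ e.left ≫ t) pullback.condition
  let j : D ⟶ ((ProEtS.bcP i).obj T'').left := pullback.lift cl (w ≫ e.left ≫ pullback.snd T.hom i) hjcond
  have hj : j ≫ p' = cl := pullback.lift_fst _ _ _
  haveI : IsIso k := ⟨j, by rw [← cancel_mono p', Category.assoc, hj, hk, Category.id_comp],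
    by rw [← cancel_mono cl, Category.assoc, hk, hj, Category.id_comp]⟩
  have hkw : (k ≫ w) ≫ e.left = ((ProEtS.bcP i).map q').left := by
    rw [← cancel_mono p, Category.assoc, Category.assoc, hmap, ← hcomm, ← Category.assoc, hk]
  let w' : (ProEtS.bcP i).obj T'' ⟶ W := MorphismProperty.Over.homMk (k ≫ w) (by
    rw [← MorphismProperty.Over.w e, ← Category.assoc, hkw, MorphismProperty.Over.w]) trivial
  refine ⟨T'', q', w', MorphismProperty.Over.Hom.ext hkw, ?_⟩
  haveI : Surjective w'.left := inferInstanceAs (Surjective (k ≫ w))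
  exact generate_singleton_mem w'

theorem lift_map_fst {A B : X.ProEt} (f : A ⟶ B) {W : Scheme.{u}} (l : W ⟶ A.left) (r : W ⟶ Z)
    (h : l ≫ A.hom = r ≫ i) :
    (pullback.lift l r h ≫ ((ProEtS.bcP i).map f).left) ≫ pullback.fst B.hom i = l ≫ f.left :=
  (Category.assoc _ _ _).trans ((congrArg (pullback.lift l r h ≫ ·)
    (show ((ProEtS.bcP i).map f).left ≫ pullback.fst B.hom i = pullback.fst A.hom i ≫ f.left from
      pullback.lift_fst _ _ _)).trans ((Category.assoc _ _ _).symm.trans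
        (congrArg (fun t => t ≫ f.left) (pullback.lift_fst _ _ _))))

theorem lift_map_snd {A B : X.ProEt} (f : A ⟶ B) {W : Scheme.{u}} (l : W ⟶ A.left) (r : W ⟶ Z)
    (h : l ≫ A.hom = r ≫ i) :
    (pullback.lift l r h ≫ ((ProEtS.bcP i).map f).left) ≫ pullback.snd B.hom i = r :=
  (Category.assoc _ _ _).trans ((congrArg (pullback.lift l r h ≫ ·)
    (show ((ProEtS.bcP i).map f).left ≫ pullback.snd B.hom i = pullback.snd A.hom i from
      pullback.lift_snd _ _ _)).trans (pullback.lift_snd _ _ _))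

theorem covering_lifts (P : X.ProEt) (W : Z.ProEt) (e : W ⟶ (ProEtS.bcP i).obj P) {R : Sieve W}
    (hR : ∀ (T : X.ProEt) (q : T ⟶ P) (m : (ProEtS.bcP i).obj T ⟶ W),
      m ≫ e = (ProEtS.bcP i).map q → R m) :
    R ∈ Scheme.ProEt.topology Z W := by
  let pe : W.left ⟶ P.left := e.left ≫ pullback.fst P.hom i
  let ι : Type u := {p : W.left.Opens × P.left.Opens // IsAffineOpen p.1 ∧ IsAffineOpen p.2 ∧ p.1 ≤ pe ⁻¹ᵁ p.2}
  let V : ι → Z.ProEt := fun k => Scheme.ProEt.mk (k.1.1.ι ≫ W.hom)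
  let v : ∀ k, V k ⟶ W := fun k => MorphismProperty.Over.homMk k.1.1.ι
  refine GrothendieckTopology.transitive _ (ofArrows_mem_of_isOpenMap V v
    (fun k => k.1.1.ι.isOpenEmbedding.isOpenMap) fun x => ?_) _ ?_
  · obtain ⟨_, ⟨O, hO, rfl⟩, hxO, -⟩ :=
      P.left.isBasis_affineOpens.exists_subset_of_mem_open (Set.mem_univ (pe x)) isOpen_univ
    obtain ⟨_, ⟨A, hA, rfl⟩, hxA, hle⟩ := W.left.isBasis_affineOpens.exists_subset_of_mem_open
      (a := x) (show x ∈ pe ⁻¹ᵁ O from hxO) (pe ⁻¹ᵁ O).2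
    exact ⟨⟨(A, O), hA, hO, hle⟩, ⟨x, hxA⟩, rfl⟩
  · rintro Y h ⟨_, a, _, ⟨k⟩, rfl⟩
    rw [Sieve.pullback_comp]
    refine GrothendieckTopology.pullback_stable _ a ?_
    let T : X.ProEt := Scheme.ProEt.mk (k.1.2.ι ≫ P.hom)
    let o : T ⟶ P := MorphismProperty.Over.homMk k.1.2.ι
    haveI : IsAffine T.left := k.2.2.1
    haveI : IsAffine (V k).left := k.2.1
    have hle : k.1.1 ≤ pe ⁻¹ᵁ k.1.2 := k.2.2.2
    let l : (V k).left ⟶ T.left := pe.resLE k.1.2 k.1.1 hle
    have hl : l ≫ k.1.2.ι = k.1.1.ι ≫ pe := pe.resLE_comp_ι hle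
    have hw : e.left ≫ pullback.snd P.hom i = W.hom := MorphismProperty.Over.w e
    have hcond : l ≫ k.1.2.ι ≫ P.hom = (k.1.1.ι ≫ W.hom) ≫ i := by
      rw [reassoc_of% hl, ← hw]
      simp only [pe, Category.assoc]
      exact congrArg (fun t => k.1.1.ι ≫ e.left ≫ t) pullback.condition
    let ek : V k ⟶ (ProEtS.bcP i).obj T :=
      MorphismProperty.Over.homMk (pullback.lift l (k.1.1.ι ≫ W.hom) hcond) (pullback.lift_snd _ _ _) trivial
    have hek : ek ≫ (ProEtS.bcP i).map o = v k ≫ e := by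
      refine MorphismProperty.Over.Hom.ext (pullback.hom_ext ?_ ?_)
      · exact (lift_map_fst i o l _ hcond).trans (hl.trans (Category.assoc _ _ _).symm)
      · exact (lift_map_snd i o l _ hcond).trans
          ((congrArg (k.1.1.ι ≫ ·) hw).symm.trans (Category.assoc _ _ _).symm)
    obtain ⟨T', q, w, hw', hcov⟩ := exists_affine_lift i T (V k) ek
    refine GrothendieckTopology.superset_covering _ ?_ hcov
    rw [Sieve.generate_le_iff]
    rintro _ _ ⟨⟩
    refine hR T' (q ≫ o) (w ≫ v k) ?_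
    rw [Category.assoc, ← hek, ← Category.assoc, hw', Functor.map_comp]

theorem isCoverDense_bcP : (ProEtS.bcP i).IsCoverDense (Scheme.ProEt.topology Z) := ⟨fun W => by
  have hc : W.hom ≫ i = (W.hom ≫ i) ≫ 𝟙 X := (Category.comp_id _).symm
  refine covering_lifts i (Scheme.ProEt.mk (𝟙 X)) W
    (MorphismProperty.Over.homMk (pullback.lift (W.hom ≫ i) W.hom hc.symm) (pullback.lift_snd _ _ _) trivial)
    fun T q m _ => Presieve.in_coverByImage _ m⟩

theorem isLocallyFull_bcP : (ProEtS.bcP i).IsLocallyFull (Scheme.ProEt.topology Z) := ⟨fun {V' V} a => by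
  haveI : WeaklyEtale V.hom := V.prop
  let P : X.ProEt := Scheme.ProEt.mk (pullback.fst V'.hom V.hom ≫ V'.hom)
  let p1 : P ⟶ V' := MorphismProperty.Over.homMk (pullback.fst V'.hom V.hom)
  let p2 : P ⟶ V := MorphismProperty.Over.homMk (pullback.snd V'.hom V.hom) pullback.condition.symm trivial
  have ha : a.left ≫ pullback.snd V.hom i = pullback.snd V'.hom i := MorphismProperty.Over.w a
  have hc1 : pullback.fst V'.hom i ≫ V'.hom = (a.left ≫ pullback.fst V.hom i) ≫ V.hom := by
    rw [Category.assoc, pullback.condition]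
    exact ((congrArg (fun t => t ≫ i) ha).symm.trans ((Category.assoc _ _ _).trans
      (congrArg (fun t => a.left ≫ t) pullback.condition.symm)))
  let g := pullback.lift (pullback.fst V'.hom i) (a.left ≫ pullback.fst V.hom i) hc1
  have hc2 : g ≫ pullback.fst V'.hom V.hom ≫ V'.hom = pullback.snd V'.hom i ≫ i := by
    rw [pullback.lift_fst_assoc, pullback.condition]
  let γ : (ProEtS.bcP i).obj V' ⟶ (ProEtS.bcP i).obj P :=
    MorphismProperty.Over.homMk (pullback.lift g (pullback.snd V'.hom i) hc2) (pullback.lift_snd _ _ _) trivial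
  have h1 : γ ≫ (ProEtS.bcP i).map p1 = 𝟙 _ := by
    refine MorphismProperty.Over.Hom.ext (pullback.hom_ext ?_ ?_)
    · exact (lift_map_fst i p1 g _ hc2).trans ((pullback.lift_fst _ _ _).trans (Category.id_comp _).symm)
    · exact (lift_map_snd i p1 g _ hc2).trans (Category.id_comp _).symm
  have h2 : γ ≫ (ProEtS.bcP i).map p2 = a := by
    refine MorphismProperty.Over.Hom.ext (pullback.hom_ext ?_ ?_)
    · exact (lift_map_fst i p2 g _ hc2).trans (pullback.lift_snd _ _ _)
    · exact (lift_map_snd i p2 g _ hc2).trans ha.symm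
  refine covering_lifts i P _ γ fun T q m hm => ?_
  have hm1 : (ProEtS.bcP i).map (q ≫ p1) = m := by
    rw [Functor.map_comp, ← hm, Category.assoc, h1, Category.comp_id]
  refine ⟨T, q ≫ p1, 𝟙 _, ⟨q ≫ p2, ?_⟩, ?_⟩
  · rw [hm1, Functor.map_comp, ← hm, Category.assoc, h2]
  · rw [Category.id_comp, hm1]⟩

theorem fullyFaithful_pushP_closed [ProEtS.PCont i] :
    (ProEtS.pushP i).Full ∧ (ProEtS.pushP i).Faithful := by
  haveI := isCoverDense_bcP i
  haveI := isLocallyFull_bcP i
  exact ⟨inferInstance, inferInstance⟩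

end GrothLib.ProEtS
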