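import Groth.Agent.Lib.ProEtS.EpsDerived
import Groth.Agent.Lib.SheafCoh.Compare
import Groth.Agent.Lib.SheafCoh.Terminal
import Mathlib.CategoryTheory.Sites.ConstantSheaf

/-!
# Ext groups along `ε⁻¹`
-/

set_option autoImplicit false
set_option backward.isDefEq.respectTransparency.types false

universe u

open CategoryTheory CategoryTheory.Limits AlgebraicGeometry Opposite Abelian

noncomputable section

namespace GrothLib.ProEtS

variable {X : Scheme.{u}} [ProEtS.EpsCont X]

/-- `ε⁻¹ I` is acyclic for maps out of the image of `ε⁻¹`. -/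
theorem subsingleton_ext_epsPull (A I : EtCoh.Ab X) [Injective I] (n : ℕ) :
    Subsingleton (Ext.{u + 1} ((ProEtS.epsPull X).obj A) ((ProEtS.epsPull X).obj I) (n + 1)) := by
  refine SheafCoh.subsingleton_of_class _
    (fun G => (presClass X).Acyclic G ∧ Injective ((ProEtS.epsPush X).obj G)) (fun G hG => ?_) _
    ⟨acyclic_epsPull I, ?_⟩ n
  · have hS := SheafCoh.injSES_shortExact G
    haveI := hG.2
    haveI : Epi ((ProEtS.epsPush X).map (cokernel.π (Injective.ι G))) := epi_epsPush_map hS hG.1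
    haveI : (ProEtS.epsPush X).IsRightAdjoint := (ProEtS.epsAdj X).isRightAdjoint
    haveI : Mono ((ProEtS.epsPush X).map (Injective.ι G)) := inferInstance
    have hex : ((SheafCoh.injSES G).map (ProEtS.epsPush X)).ShortExact :=
      ShortComplex.ShortExact.mk' (((List.TFAE.out (Functor.preservesFiniteLimits_tfae (ProEtS.epsPush X)) 3 1 rfl rfl :
        PreservesFiniteLimits (ProEtS.epsPush X) ↔ _).1 inferInstance _ ⟨hS.exact, hS.mono_f⟩).1)
        ‹Mono ((ProEtS.epsPush X).map (Injective.ι G))› ‹_›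
    haveI : Injective (((SheafCoh.injSES G).map (ProEtS.epsPush X)).X₁) := hG.2
    let σ := hex.splittingOfInjective
    haveI := preservesFiniteLimits_epsPull X
    haveI : Injective ((ProEtS.epsPush X).obj (Injective.under G)) :=
      Injective.injective_of_adjoint (ProEtS.epsAdj X) _
    refine ⟨⟨(presClass X).acyclic_X₃ hS hG.1 ((presClass X).acyclic_of_injective (Injective.under G)),
      @Retract.injective _ _ _ _ ⟨σ.s, (ProEtS.epsPush X).map (cokernel.π (Injective.ι G)), σ.s_g⟩
        (inferInstanceAs (Injective ((ProEtS.epsPush X).obj (Injective.under G))))⟩, fun g => ?_⟩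
    let a := (ProEtS.epsAdj X).homEquiv _ _ g
    refine ⟨((ProEtS.epsAdj X).homEquiv _ _).symm (a ≫ σ.s), ?_⟩
    refine ((ProEtS.epsAdj X).homEquiv_naturality_right_symm _ _).symm.trans ?_
    refine (congrArg ((ProEtS.epsAdj X).homEquiv A _).symm ((Category.assoc _ _ _).trans
      ((congrArg (a ≫ ·) σ.s_g).trans (Category.comp_id _)))).trans ?_
    exact Equiv.symm_apply_apply _ _
  · haveI := isIso_epsAdj_unit I
    exact Injective.of_iso (asIso ((ProEtS.epsAdj X).unit.app I)) ‹Injective I›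

/-- The final object of the small étale site. -/
abbrev topE (X : Scheme.{u}) : X.Etale :=
  MorphismProperty.Over.mk ⊤ (𝟙 X) (MorphismProperty.id_mem (@Etale) X)

/-- `ε⁻¹` of a constant sheaf is constant. -/
def epsPullConstIso (M : AddCommGrpCat.{u + 1}) :
    (ProEtS.epsPull X).obj ((constantSheaf X.smallEtaleTopology AddCommGrpCat.{u + 1}).obj M) ≅
      (constantSheaf (Scheme.ProEt.topology X) AddCommGrpCat.{u + 1}).obj M :=
  haveI := preservesFiniteLimits_eps X
  let hT : IsTerminal (topE X) := MorphismProperty.Over.mkIdTerminal (@Etale) X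
  (((constantSheafAdj X.smallEtaleTopology AddCommGrpCat.{u + 1} hT).comp (ProEtS.epsAdj X)).leftAdjointUniq
    ((constantSheafAdj (Scheme.ProEt.topology X) AddCommGrpCat.{u + 1}
      (IsTerminal.isTerminalObj (ProEtS.eps X) _ hT)).ofNatIsoRight (Iso.refl _))).app M

theorem nonempty_H_addEquiv (F : EtCoh.Ab X) (i : ℕ) :
    Nonempty (EtCoh.H X F i ≃+ ProEtS.HP X ((ProEtS.epsPull X).obj F) i) := by
  haveI := fun G => isIso_epsAdj_unit (X := X) G
  haveI : IsIso (ProEtS.epsAdj X).unit := NatIso.isIso_of_isIso_app _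
  haveI := (ProEtS.epsAdj X).fullyFaithfulLOfIsIsoUnit.full
  haveI := (ProEtS.epsAdj X).fullyFaithfulLOfIsIsoUnit.faithful
  let e := epsPullConstIso (X := X) (AddCommGrpCat.of (ULift.{u + 1} ℤ))
  let φ : ∀ G : EtCoh.Ab X,
      ((constantSheaf X.smallEtaleTopology AddCommGrpCat.{u + 1}).obj (AddCommGrpCat.of (ULift.{u + 1} ℤ)) ⟶ G) ≃+
      ((constantSheaf (Scheme.ProEt.topology X) AddCommGrpCat.{u + 1}).obj (AddCommGrpCat.of (ULift.{u + 1} ℤ)) ⟶
        (ProEtS.epsPull X).obj G) := fun G =>
    AddEquiv.ofBijective (AddMonoidHom.mk' (fun a => e.inv ≫ (ProEtS.epsPull X).map a)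
      fun a b => by rw [Functor.map_add, Preadditive.comp_add])
      ⟨fun a b h => (ProEtS.epsPull X).map_injective ((cancel_epi e.inv).1 h),
        fun b => ⟨(ProEtS.epsPull X).preimage (e.hom ≫ b), by simp⟩⟩
  refine SheafCoh.nonempty_ext_addEquiv (ProEtS.epsPull X) _ _ φ (fun g a => ?_)
    (fun S hS => shortExact_map_epsPull hS) (fun I hI n => ?_) i F
  · show e.inv ≫ (ProEtS.epsPull X).map (a ≫ g) = (e.inv ≫ (ProEtS.epsPull X).map a) ≫ (ProEtS.epsPull X).map g
    rw [Functor.map_comp, Category.assoc]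
  · haveI := hI
    haveI := subsingleton_ext_epsPull ((constantSheaf X.smallEtaleTopology AddCommGrpCat.{u + 1}).obj (AddCommGrpCat.of (ULift.{u + 1} ℤ))) I n
    exact (SheafCoh.extPrecompIso e.symm ((ProEtS.epsPull X).obj I) (n + 1)).symm.toEquiv.subsingleton

end GrothLib.ProEtS
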