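import Groth.Agent.Lib.CoprodH20.Basic
import Groth.Agent.Lib.ProEtS.EpsExt
import Groth.Agent.Lib.ProEtS.Cover
import Groth.Agent.Lib.SheafCoh.Shift
import Mathlib.CategoryTheory.Sites.SheafCohomology.Basic

/-!
# Pro-étale cohomology of qcqs schemes commutes with coproducts

Sections of a coproduct over a quasi-compact object have finitely many components, so coproducts of
Čech acyclic sheaves are Čech acyclic; dimension shifting then gives all degrees.
-/

set_option autoImplicit false
set_option linter.style.haveILetI false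
set_option backward.isDefEq.respectTransparency.types false

universe u

open CategoryTheory CategoryTheory.Limits AlgebraicGeometry Opposite Abelian

noncomputable section

namespace GrothLib.ProEtS

variable {X : Scheme.{u}} {ι : Type u} (F : ι → ProEtS.AbP X) [HasCoproduct F]

local notation "e" => GrothLib.CoprodH20.comp

/-- Finitely many components. -/
def FinSupp (Y : X.ProEt) (s : (∐ F).obj.obj (op Y)) : Prop :=
  ∃ t : Finset ι, s = ∑ i ∈ t, (e F i).hom.app (op Y) s

theorem comp_comp_self (i : ι) : e F i ≫ e F i = e F i := by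
  unfold CoprodH20.comp
  rw [Category.assoc, CoprodH20.ι_proj_self_assoc]

theorem comp_comp_ne {i j : ι} (h : i ≠ j) : e F i ≫ e F j = 0 := by
  unfold CoprodH20.comp
  rw [Category.assoc, CoprodH20.ι_proj_ne_assoc F h, zero_comp, comp_zero]

theorem app_comp_eq_zero {Y : X.ProEt} {s : (∐ F).obj.obj (op Y)} {t : Finset ι}
    (ht : s = ∑ i ∈ t, (e F i).hom.app (op Y) s) {j : ι} (hj : j ∉ t) :
    (e F j).hom.app (op Y) s = 0 := by
  rw [ht, map_sum]
  refine Finset.sum_eq_zero fun i hi => ?_
  change (e F i ≫ e F j).hom.app (op Y) s = 0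
  rw [comp_comp_ne F fun h : i = j => hj (h ▸ hi)]
  rfl

theorem FinSupp.mono {Y : X.ProEt} {s : (∐ F).obj.obj (op Y)} {t t' : Finset ι}
    (ht : s = ∑ i ∈ t, (e F i).hom.app (op Y) s) (h : t ⊆ t') :
    s = ∑ i ∈ t', (e F i).hom.app (op Y) s :=
  ht.trans (Finset.sum_subset h fun _ _ hi => app_comp_eq_zero F ht hi)

theorem finSupp_of_cover {Y : X.ProEt} (s : (∐ F).obj.obj (op Y)) {κ : Type} [Finite κ]
    (V : κ → X.ProEt) (g : ∀ k, V k ⟶ Y)
    (hR : Sieve.generate (Presieve.ofArrows V g) ∈ Scheme.ProEt.topology X Y)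
    (h : ∀ k, FinSupp F (V k) ((∐ F).obj.map (g k).op s)) : FinSupp F Y s := by
  classical
  haveI := Fintype.ofFinite κ
  choose t ht using h
  refine ⟨Finset.univ.biUnion t, ?_⟩
  refine ((((isSheaf_iff_isSheaf_of_type _ _).1
    ((sheafCompose (Scheme.ProEt.topology X) (forget AddCommGrpCat.{u + 1})).obj (∐ F)).property) _ hR).isSeparatedFor).ext ?_
  rintro Z _ ⟨_, a, _, ⟨k⟩, rfl⟩
  show (∐ F).obj.map (a ≫ g k).op s = (∐ F).obj.map (a ≫ g k).op _
  rw [op_comp, Functor.map_comp_apply, Functor.map_comp_apply, map_sum]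
  refine congrArg _ ((FinSupp.mono F (ht k) (fun i hi =>
    Finset.mem_biUnion.2 ⟨k, Finset.mem_univ k, hi⟩)).trans (Finset.sum_congr rfl fun i _ => ?_))
  exact ConcreteCategory.congr_hom ((e F i).hom.naturality (g k).op) s

theorem finSupp_ι {Y : X.ProEt} (i : ι) (y : (F i).obj.obj (op Y)) :
    FinSupp F Y ((Sigma.ι F i).hom.app (op Y) y) := by
  refine ⟨{i}, ?_⟩
  rw [Finset.sum_singleton]
  change _ = (Sigma.ι F i ≫ e F i).hom.app (op Y) y
  unfold CoprodH20.comp
  rw [CoprodH20.ι_proj_self_assoc]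

theorem finSupp_add {Y : X.ProEt} {a b : (∐ F).obj.obj (op Y)} (ha : FinSupp F Y a) (hb : FinSupp F Y b) :
    FinSupp F Y (a + b) := by
  classical
  obtain ⟨t, ht⟩ := ha
  obtain ⟨t', ht'⟩ := hb
  refine ⟨t ∪ t', ?_⟩
  simp only [map_add, Finset.sum_add_distrib]
  exact congrArg₂ (· + ·) (FinSupp.mono F ht Finset.subset_union_left)
    (FinSupp.mono F ht' Finset.subset_union_right)

theorem finSupp_neg {Y : X.ProEt} {a : (∐ F).obj.obj (op Y)} (ha : FinSupp F Y a) :
    FinSupp F Y (-a) := by
  obtain ⟨t, ht⟩ := ha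
  refine ⟨t, ?_⟩
  simp only [map_neg, Finset.sum_neg_distrib]
  exact congrArg _ ht

/-- the presheaf coproduct -/
abbrev preSum : X.ProEtᵒᵖ ⥤ AddCommGrpCat.{u + 1} := ∐ fun i => (F i).obj

/-- the comparison with the sheaf coproduct -/
abbrev fromPreSum : preSum F ⟶ (∐ F).obj := Sigma.desc fun i => (Sigma.ι F i).hom

instance : Presheaf.IsLocallySurjective (Scheme.ProEt.topology X) (fromPreSum F) := by
  let adj := sheafificationAdjunction (Scheme.ProEt.topology X) AddCommGrpCat.{u + 1}
  let θ := (adj.homEquiv (preSum F) (∐ F)).symm (fromPreSum F)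
  have hθ : Epi θ := ⟨fun {Z} a b hab => by
    refine Sigma.hom_ext _ _ fun i => ?_
    have h1 : fromPreSum F ≫ a.hom = fromPreSum F ≫ b.hom := by
      have := congrArg (adj.homEquiv _ _) hab
      rw [adj.homEquiv_naturality_right, adj.homEquiv_naturality_right, Equiv.apply_symm_apply] at this
      exact this
    have h2 := congrArg (Sigma.ι (fun i => (F i).obj) i ≫ ·) h1
    simp only [fromPreSum, Sigma.ι_desc_assoc] at h2
    exact Sheaf.hom_ext h2⟩
  haveI : Sheaf.IsLocallySurjective θ := (Sheaf.isLocallySurjective_iff_epi' _ θ).2 hθ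
  have he : fromPreSum F = toSheafify (Scheme.ProEt.topology X) (preSum F) ≫ θ.hom := by
    have := Equiv.apply_symm_apply (adj.homEquiv (preSum F) (∐ F)) (fromPreSum F)
    rw [Adjunction.homEquiv_unit] at this
    exact this.symm
  rw [he]
  haveI : Presheaf.IsLocallySurjective (Scheme.ProEt.topology X) θ.hom :=
    (inferInstance : Sheaf.IsLocallySurjective θ)
  infer_instance

theorem finSupp_fromPreSum {Y : X.ProEt} (z : (preSum F).obj (op Y)) :
    FinSupp F Y ((fromPreSum F).app (op Y) z) := by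
  let c := (fromPreSum F).app (op Y)
  let K : AddSubgroup ((preSum F).obj (op Y) : Type (u + 1)) :=
    { carrier := {z | FinSupp F Y (c z)}
      zero_mem' := ⟨∅, (map_zero c.hom).trans Finset.sum_empty.symm⟩
      add_mem' := fun {a b} ha hb => by
        show FinSupp F Y (c (a + b))
        rw [map_add]
        exact finSupp_add F ha hb
      neg_mem' := fun {a} ha => by
        show FinSupp F Y (c (-a))
        rw [map_neg]
        exact finSupp_neg F ha }
  suffices h : AddCommGrpCat.ofHom (QuotientAddGroup.mk' K) =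
      (0 : (preSum F).obj (op Y) ⟶ AddCommGrpCat.of (((preSum F).obj (op Y) : Type (u + 1)) ⧸ K)) from
    (QuotientAddGroup.eq_zero_iff z).1 (ConcreteCategory.congr_hom h z)
  refine (isColimitCofanMkObjOfIsColimit ((evaluation _ AddCommGrpCat.{u + 1}).obj (op Y)) _ _
    (coproductIsCoproduct fun i => (F i).obj)).hom_ext fun ⟨i⟩ => ?_
  ext y
  show QuotientAddGroup.mk ((Sigma.ι (fun i => (F i).obj) i).app (op Y) y) = (0 : _ ⧸ K)
  rw [QuotientAddGroup.eq_zero_iff]
  show FinSupp F Y ((fromPreSum F).app (op Y) ((Sigma.ι (fun i => (F i).obj) i).app (op Y) y))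
  have : Sigma.ι (fun i => (F i).obj) i ≫ fromPreSum F = (Sigma.ι F i).hom := Sigma.ι_desc _ _
  rw [← ConcreteCategory.comp_apply, ← NatTrans.comp_app, this]
  exact finSupp_ι F i y

theorem finSupp_of_compact (Y : X.ProEt) [CompactSpace ↥Y.left] (s : (∐ F).obj.obj (op Y)) :
    FinSupp F Y s := by
  have key : ∀ (V : X.ProEt) [IsAffine V.left] (a : (∐ F).obj.obj (op V)), FinSupp F V a := fun V _ a => by
    obtain ⟨n, W, g, hW, hg, hs⟩ := exists_affine_refinement
      (Presheaf.imageSieve_mem (Scheme.ProEt.topology X) (fromPreSum F) a)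
    refine finSupp_of_cover F a W g (ofArrows_mem_of_affine W g hs) fun k => ?_
    obtain ⟨z, hz⟩ := hg k
    rw [← hz]
    exact finSupp_fromPreSum F z
  obtain ⟨V, g, hcov, hV, -⟩ := exists_cover_affine_isWC Y
  refine finSupp_of_cover F s (fun _ : PUnit => V) (fun _ => g) ?_ fun _ => key V _
  refine GrothendieckTopology.superset_covering _ ?_ hcov
  rw [Sieve.generate_le_iff]
  rintro _ _ ⟨⟩
  exact ⟨_, 𝟙 _, g, ⟨PUnit.unit⟩, Category.id_comp _⟩

theorem acyclic_sigma (h : ∀ i, (presClass X).Acyclic (F i)) : (presClass X).Acyclic (∐ F) :=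
    fun T Y f E hf n c hc => by
  obtain ⟨p⟩ := (presClass X).mem f E hf (n + 1)
  haveI := p.compactSpace
  obtain ⟨t, ht⟩ := finSupp_of_compact F (E.P (n + 1)) c
  choose b hb using fun i => h i f E hf n ((CoprodH20.proj F i).hom.app (op (E.P (n + 1))) c)
    (by rw [← FibPow.d_naturality, hc, map_zero])
  refine ⟨∑ i ∈ t, (Sigma.ι F i).hom.app (op (E.P n)) (b i), ?_⟩
  rw [map_sum]
  refine Eq.trans (Finset.sum_congr rfl fun i _ => ?_) ht.symm
  rw [← FibPow.d_naturality, hb]
  rfl

/-! ### Cohomology -/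

variable [CompactSpace ↥X] [QuasiSeparatedSpace ↥X]

/-- The terminal object. -/
abbrev topObj (X : Scheme.{u}) : X.ProEt := (ProEtS.eps X).obj (topE X)

theorem isTerminal_topObj (X : Scheme.{u}) : Nonempty (IsTerminal (topObj X)) :=
  haveI := preservesFiniteLimits_eps X
  ⟨IsTerminal.isTerminalObj (ProEtS.eps X) _ (MorphismProperty.Over.mkIdTerminal (@Etale) X)⟩

theorem nonempty_pres_top (X : Scheme.{u}) [CompactSpace ↥X] [QuasiSeparatedSpace ↥X] :
    Nonempty (Pres (topObj X)) :=
  haveI : CompactSpace ↥(topE X).left := inferInstanceAs (CompactSpace ↥X)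
  haveI : QuasiSeparatedSpace ↥(topE X).left := inferInstanceAs (QuasiSeparatedSpace ↥X)
  nonempty_pres_eps (topE X)

theorem subsingleton_H_of_acyclic (G : ProEtS.AbP X) (hG : (presClass X).Acyclic G) (n : ℕ) :
    Subsingleton (Sheaf.H G (n + 1)) := by
  obtain ⟨hT⟩ := isTerminal_topObj X
  refine SheafCoh.subsingleton_of_class _ (presClass X).Acyclic (fun K hK => ⟨?_, fun g => ?_⟩) G hG n
  · exact (presClass X).acyclic_X₃ (SheafCoh.injSES_shortExact K) hK
      ((presClass X).acyclic_of_injective (Injective.under K))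
  · let π := cokernel.π (Injective.ι K)
    obtain ⟨r, hr⟩ := (presClass X).surjective (SheafCoh.injSES_shortExact K) hK (nonempty_pres_top X)
      (Sheaf.H.equiv₀ _ hT (Ext.addEquiv₀.symm g))
    refine ⟨Ext.addEquiv₀ ((Sheaf.H.equiv₀ _ hT).symm r), ?_⟩
    refine (Sheaf.H.addEquiv₀_map π ((Sheaf.H.equiv₀ _ hT).symm r)).symm.trans ?_
    rw [Sheaf.H.equiv₀_symm_naturality hT π r]
    refine (congrArg (fun z => Ext.addEquiv₀ ((Sheaf.H.equiv₀ _ hT).symm z)) hr).trans ?_
    rw [AddEquiv.symm_apply_apply, AddEquiv.apply_symm_apply]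

theorem finSupp_H : ∀ (n : ℕ) (F : ι → ProEtS.AbP X) [HasCoproduct F] (x : Sheaf.H (∐ F) n),
    ∃ t : Finset ι, x = ∑ i ∈ t, Sheaf.H.map (CoprodH20.comp F i) n x := by
  intro n
  obtain ⟨hT⟩ := isTerminal_topObj X
  induction n with
  | zero =>
    intro F _ x
    obtain ⟨p⟩ := nonempty_pres_top X
    haveI := p.compactSpace
    obtain ⟨t, ht⟩ := finSupp_of_compact F (topObj X) (Sheaf.H.equiv₀ _ hT x)
    refine ⟨t, (Sheaf.H.equiv₀ _ hT).injective ?_⟩
    rw [map_sum]
    exact ht.trans (Finset.sum_congr rfl fun i _ => Sheaf.H.equiv₀_naturality hT (CoprodH20.comp F i) x)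
  | succ n ih =>
    intro F _ x
    haveI : HasColimitsOfShape (Discrete ι) (ProEtS.AbP X) := inferInstance
    let I : ι → ProEtS.AbP X := fun i => Injective.under (F i)
    let G : ι → ProEtS.AbP X := fun i => cokernel (Injective.ι (F i))
    let a : ∐ F ⟶ ∐ I := Limits.Sigma.map fun i => Injective.ι (F i)
    let b : ∐ I ⟶ ∐ G := Limits.Sigma.map fun i => cokernel.π (Injective.ι (F i))
    have hab : a ≫ b = 0 := Sigma.hom_ext _ _ fun i => by
      simp [a, b]
    have hb : IsColimit (CokernelCofork.ofπ b hab) := CokernelCofork.IsColimit.ofπ b hab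
      (fun k hk => Sigma.desc fun i => cokernel.desc _ (Sigma.ι I i ≫ k) (by
        have := congrArg (Sigma.ι F i ≫ ·) hk
        simpa [a] using this))
      (fun k hk => Sigma.hom_ext _ _ fun i => by simp [b])
      (fun k hk m hm => Sigma.hom_ext _ _ fun i => by
        apply coequalizer.hom_ext
        have := congrArg (Sigma.ι I i ≫ ·) hm
        simpa [b] using this)
    have hproj : ∀ i, a ≫ CoprodH20.proj I i = CoprodH20.proj F i ≫ Injective.ι (F i) := fun i =>
      Sigma.hom_ext _ _ fun j => by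
        rcases eq_or_ne j i with rfl | h
        · simp [a, CoprodH20.ι_proj_self, CoprodH20.ι_proj_self_assoc]
        · simp [a, CoprodH20.ι_proj_ne _ h, CoprodH20.ι_proj_ne_assoc _ h]
    haveI : Mono a := by
      refine Preadditive.mono_of_cancel_zero _ fun {Z} k hk => ?_
      have hk' : ∀ i, k ≫ CoprodH20.proj F i = 0 := fun i => by
        rw [← cancel_mono (Injective.ι (F i)), Category.assoc, ← hproj, reassoc_of% hk, zero_comp, zero_comp]
      apply Sheaf.hom_ext
      ext Y z
      -- a section with all components zero vanishes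
      obtain ⟨κ, W, g, hcov, hW⟩ : ∃ (κ : Type u) (W : κ → X.ProEt) (g : ∀ j, W j ⟶ Y.unop),
          Sieve.generate (Presieve.ofArrows W g) ∈ Scheme.ProEt.topology X Y.unop ∧
            ∀ j, CompactSpace ↥(W j).left := by
        obtain ⟨κ, W, g, hc, hW⟩ := exists_family_wContractible Y.unop
        exact ⟨κ, W, g, hc, fun j => haveI := (hW j).1; inferInstance⟩
      change k.hom.app (op Y.unop) z = (0 : Z ⟶ ∐ F).hom.app (op Y.unop) z
      refine ((((isSheaf_iff_isSheaf_of_type _ _).1
        ((sheafCompose (Scheme.ProEt.topology X) (forget AddCommGrpCat.{u + 1})).obj (∐ F)).property) _ hcov).isSeparatedFor).ext ?_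
      rintro V _ ⟨_, l, _, ⟨j⟩, rfl⟩
      show (∐ F).obj.map (l ≫ g j).op _ = (∐ F).obj.map (l ≫ g j).op _
      rw [op_comp, Functor.map_comp_apply, Functor.map_comp_apply]
      refine congrArg _ ?_
      rw [← NatTrans.naturality_apply, ← NatTrans.naturality_apply]
      haveI := hW j
      obtain ⟨t, ht⟩ := finSupp_of_compact F _ (k.hom.app (op (W j)) (Z.obj.map (g j).op z))
      rw [ht]
      refine (Finset.sum_eq_zero fun i _ => ?_).trans rfl
      show (k ≫ CoprodH20.proj F i ≫ Sigma.ι F i).hom.app _ _ = 0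
      rw [reassoc_of% (hk' i), zero_comp]
      rfl
    let S := ShortComplex.mk a b hab
    haveI : Epi S.g := Cofork.IsColimit.epi hb
    have hS : S.ShortExact := { exact := ShortComplex.exact_of_g_is_cokernel S hb }
    haveI hI : Subsingleton (Sheaf.H S.X₂ (n + 1)) := subsingleton_H_of_acyclic _
      (acyclic_sigma I fun i => (presClass X).acyclic_of_injective (Injective.under (F i))) n
    obtain ⟨y, rfl⟩ := SheafCoh.extClass_surjective hS n hI x
    obtain ⟨t, ht⟩ := ih G y
    refine ⟨t, ?_⟩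
    conv_lhs => rw [ht]
    refine (map_sum (hS.extClass.postcomp _ rfl) _ _).trans (Finset.sum_congr rfl fun i _ => ?_)
    let φ : S ⟶ S := ShortComplex.homMk (CoprodH20.comp F i) (CoprodH20.comp I i) (CoprodH20.comp G i)
      (by
        unfold CoprodH20.comp
        simp only [S, Category.assoc]
        rw [reassoc_of% (hproj i)]
        simp [a])
      (Sigma.hom_ext _ _ fun j => by
        rcases eq_or_ne j i with rfl | h
        · simp [S, b, CoprodH20.comp, CoprodH20.ι_proj_self_assoc]
        · simp [S, b, CoprodH20.comp, CoprodH20.ι_proj_ne_assoc _ h])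
    show (y.comp (Ext.mk₀ φ.τ₃) (add_zero n)).comp hS.extClass rfl =
      (y.comp hS.extClass rfl).comp (Ext.mk₀ φ.τ₁) (add_zero (n + 1))
    rw [Ext.comp_assoc_of_third_deg_zero, ShortComplex.ShortExact.extClass_naturality hS hS φ,
      Ext.comp_assoc_of_second_deg_zero]

end GrothLib.ProEtS
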