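import Groth.Agent.Lib.ProEtS.Topology
import Groth.Agent.Lib.ProEtS.LanAb
import Mathlib.CategoryTheory.Sites.EpiMono
import Mathlib.AlgebraicGeometry.Morphisms.FlatDescent

/-!
# The unit of `ε⁻¹ ⊣ ε_*` is an isomorphism
-/

set_option autoImplicit false
set_option backward.isDefEq.respectTransparency.types false

universe u

open CategoryTheory CategoryTheory.Limits AlgebraicGeometry Opposite TopologicalSpace

namespace GrothLib.ProEtS

variable {X : Scheme.{u}}

theorem flat_eps (X : Scheme.{u}) : RepresentablyFlat (ProEtS.eps X) := by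
  haveI : PreservesFiniteLimits (ProEtS.eps X ⋙ Scheme.ProEt.forget X) :=
    inferInstanceAs (PreservesFiniteLimits (MorphismProperty.Over.forget @Etale ⊤ X))
  haveI : PreservesFiniteLimits (ProEtS.eps X) :=
    preservesFiniteLimits_of_reflects_of_preserves (ProEtS.eps X) (Scheme.ProEt.forget X)
  exact flat_of_preservesFiniteLimits _

theorem preservesColimits_costructuredArrow (Z : X.ProEtᵒᵖ) :
    PreservesColimitsOfShape (CostructuredArrow (ProEtS.eps X).op Z) (forget AddCommGrpCat.{u + 1}) := by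
  haveI := flat_eps X
  haveI : RepresentablyCoflat (ProEtS.eps X).op := (representablyCoflat_op_iff _).2 ‹_›
  let e := (AsSmall.equiv : CostructuredArrow (ProEtS.eps X).op Z ≌
    AsSmall.{u + 1} (CostructuredArrow (ProEtS.eps X).op Z))
  haveI : IsFiltered (AsSmall.{u + 1} (CostructuredArrow (ProEtS.eps X).op Z)) := IsFiltered.of_equivalence e
  exact preservesColimitsOfShape_of_equiv e.symm _

variable (F : EtCoh.Ab X)

/-- An element of `lan F` on `W`. -/
noncomputable abbrev lanMk {W : X.ProEt} {V : X.Etale} (g : W ⟶ (ProEtS.eps X).obj V) :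
    F.obj.obj (op V) ⟶ ((ProEtS.eps X).op.lan.obj F.obj).obj (op W) :=
  LanAb.mk (ProEtS.eps X) F.obj g

theorem lanMk_surjective {W : X.ProEt} (a : ((ProEtS.eps X).op.lan.obj F.obj).obj (op W)) :
    ∃ (V : X.Etale) (g : W ⟶ (ProEtS.eps X).obj V) (s : F.obj.obj (op V)), lanMk F g s = a := by
  haveI := flat_eps X
  haveI := fun Z => preservesColimits_costructuredArrow (X := X) Z
  exact LanAb.mk_surjective (ProEtS.eps X) F.obj a

/-- The opens on which a section vanishes. -/
noncomputable def zeroLocus {V : X.Etale} (b : F.obj.obj (op V)) : Set V.left :=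
  {v | ∃ (Y : X.Etale) (f : Y ⟶ V) (y : Y.left), f.left y = v ∧ F.obj.map f.op b = 0}

theorem isOpen_zeroLocus {V : X.Etale} (b : F.obj.obj (op V)) : IsOpen (zeroLocus F b) := by
  rw [isOpen_iff_forall_mem_open]
  rintro _ ⟨Y, f, y, rfl, h⟩
  haveI : Etale (f.left ≫ V.hom) := by
    rw [MorphismProperty.Over.w f]; exact Y.prop
  haveI : Etale V.hom := V.prop
  haveI : Etale f.left := Etale.of_comp f.left V.hom
  refine ⟨Set.range f.left, ?_, f.left.isOpenMap.isOpen_range, ⟨y, rfl⟩⟩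
  rintro _ ⟨y', rfl⟩
  exact ⟨Y, f, y', rfl, h⟩

theorem map_eq_zero_of_subset_zeroLocus {V Y : X.Etale} (f : Y ⟶ V) (b : F.obj.obj (op V))
    (h : ∀ y, f.left y ∈ zeroLocus F b) : F.obj.map f.op b = 0 := by
  let S : Sieve Y :=
    { arrows := fun T m => F.obj.map (m ≫ f).op b = 0
      downward_closed := fun {T T'} m hm k => by
        rw [Category.assoc, op_comp, Functor.map_comp_apply, hm, map_zero] }
  have hS : S ∈ X.smallEtaleTopology Y := by
    rw [Scheme.smallEtaleTopology, Scheme.smallGrothendieckTopology_eq_toGrothendieck_smallPretopology _ le_rfl]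
    refine (Scheme.mem_toGrothendieck_smallPretopology (P := @Etale) (Q := @Etale) (S := X) Y S).2 fun y => ?_
    obtain ⟨T, g, t, ht, hb⟩ := h y
    haveI : Etale g.left := by
      haveI : Etale (g.left ≫ V.hom) := by rw [MorphismProperty.Over.w g]; exact T.prop
      haveI : Etale V.hom := V.prop
      exact Etale.of_comp g.left V.hom
    obtain ⟨P, p1, p2, hP⟩ : ∃ (P : X.Etale) (p1 : P ⟶ Y) (p2 : P ⟶ T), IsPullback p1 p2 f g :=
      ⟨pullback f g, pullback.fst f g, pullback.snd f g, IsPullback.of_hasPullback f g⟩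
    have hP' : IsPullback p1.left p2.left f.left g.left :=
      hP.map (MorphismProperty.Over.forget @Etale ⊤ X ⋙ CategoryTheory.Over.forget X)
    obtain ⟨z, hz, -⟩ := Scheme.Pullback.exists_preimage_pullback (f := f.left) (g := g.left) y t ht.symm
    refine ⟨P, p1, hP'.isoPullback.inv z, ?_, ?_, ?_⟩
    · show F.obj.map (p1 ≫ f).op b = 0
      rw [hP.w, op_comp, Functor.map_comp_apply, hb, map_zero]
    · exact MorphismProperty.of_isPullback hP'.flip ‹Etale g.left›
    · rw [← Scheme.Hom.comp_apply, hP'.isoPullback_inv_fst]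
      exact hz
  refine (((isSheaf_iff_isSheaf_of_type _ _).1
    ((sheafCompose X.smallEtaleTopology (forget AddCommGrpCat.{u + 1})).obj F).property S hS).isSeparatedFor).ext
      fun T m hm => ?_
  show F.obj.map m.op (F.obj.map f.op b) = F.obj.map m.op 0
  rw [map_zero, ← Functor.map_comp_apply, ← op_comp]
  exact hm

/-- The open subobject of zeros. -/
theorem exists_zero_open {V : X.Etale} (b : F.obj.obj (op V)) :
    ∃ (E : X.Etale) (ι : E ⟶ V), IsOpenImmersion ι.left ∧ Set.range ι.left = zeroLocus F b ∧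
      F.obj.map ι.op b = 0 := by
  let O : V.left.Opens := ⟨zeroLocus F b, isOpen_zeroLocus F b⟩
  haveI : Etale V.hom := V.prop
  let E : X.Etale := MorphismProperty.Over.mk _ (O.ι ≫ V.hom) (inferInstanceAs (Etale (O.ι ≫ V.hom)))
  let ι : E ⟶ V := MorphismProperty.Over.homMk O.ι rfl trivial
  refine ⟨E, ι, inferInstanceAs (IsOpenImmersion O.ι), O.range_ι, map_eq_zero_of_subset_zeroLocus F ι b fun y => ?_⟩
  exact y.2

variable {G : Sheaf (Scheme.ProEt.topology X) AddCommGrpCat.{u + 1}}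
  (θ : (ProEtS.eps X).op.lan.obj F.obj ⟶ G.obj)
  [Presheaf.IsLocallyInjective (Scheme.ProEt.topology X) θ]
  [Presheaf.IsLocallySurjective (Scheme.ProEt.topology X) θ]

theorem range_subset_zeroLocus {W : X.ProEt} {V : X.Etale} (g : W ⟶ (ProEtS.eps X).obj V)
    (b : F.obj.obj (op V)) (h : θ.app (op W) (lanMk F g b) = 0) :
    Set.range g.left ⊆ zeroLocus F b := by
  rintro _ ⟨w, rfl⟩
  haveI := flat_eps X
  haveI := fun Z => preservesColimits_costructuredArrow (X := X) Z
  have h' : θ.app (op W) (lanMk F g b) = θ.app (op W) 0 := h.trans (map_zero _).symm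
  obtain ⟨ι, T, f, hf, hmem⟩ := exists_family
    (Presheaf.equalizerSieve_mem (Scheme.ProEt.topology X) θ _ _ h')
  obtain ⟨i, t, rfl⟩ := ((Scheme.ofArrows_mem_precoverage_iff _).1
    (show Presieve.ofArrows _ _ ∈ Scheme.precoverage @WeaklyEtale W.left from hmem.2)).1 w
  have hi : lanMk F (f i ≫ g) b = 0 :=
    ((LanAb.map_mk (ProEtS.eps X) F.obj (f i) g b).symm.trans (hf i)).trans (map_zero _)
  obtain ⟨R, c, c', g', hg, -, e⟩ := LanAb.exists_of_mk_eq (ProEtS.eps X) F.obj (f i ≫ g) (f i ≫ g) b 0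
    (hi.trans (map_zero _).symm)
  refine ⟨R, c, g'.left t, ?_, e.trans (map_zero _)⟩
  have := congr($(hg).left.base t)
  exact this

theorem app_eq_zero_of_range_subset {W : X.ProEt} {V : X.Etale} (g : W ⟶ (ProEtS.eps X).obj V)
    (b : F.obj.obj (op V)) (h : Set.range g.left ⊆ zeroLocus F b) :
    lanMk F g b = 0 := by
  obtain ⟨E, ι, hι, hrange, hb⟩ := exists_zero_open F b
  have hr : Set.range g.left ⊆ Set.range ι.left := hrange.symm ▸ h
  let l0 : W.left ⟶ E.left := @IsOpenImmersion.lift _ _ _ ι.left g.left hι hr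
  have hl0 : l0 ≫ ι.left = g.left := @IsOpenImmersion.lift_fac _ _ _ ι.left g.left hι hr
  let l : W ⟶ (ProEtS.eps X).obj E := MorphismProperty.Over.homMk l0
    (by
      show l0 ≫ E.hom = W.hom
      rw [← MorphismProperty.Over.w ι, ← Category.assoc, hl0]
      exact MorphismProperty.Over.w g) trivial
  have hl : l ≫ (ProEtS.eps X).map ι = g := MorphismProperty.Over.Hom.ext hl0
  rw [← hl]
  show LanAb.mk (ProEtS.eps X) F.obj (l ≫ (ProEtS.eps X).map ι) b = 0
  rw [LanAb.mk_comp, hb, map_zero]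

theorem isQuotientMap_sigmaDesc {A : Scheme.{u}} [IsAffine A] {n : ℕ} (V : Fin n → Scheme.{u}) [∀ k, IsAffine (V k)]
    (f : ∀ k, V k ⟶ A) [∀ k, WeaklyEtale (f k)] (hs : ∀ a, ∃ k y, f k y = a) (E : Set A)
    (hE : ∀ k, IsOpen (f k ⁻¹' E)) : IsOpen E := by
  haveI : WeaklyEtale (Sigma.desc f) := IsZariskiLocalAtSource.sigmaDesc fun k => inferInstance
  haveI : Surjective (Sigma.desc f) := ⟨fun a => by
    obtain ⟨k, y, rfl⟩ := hs a
    exact ⟨Sigma.ι V k y, by rw [← Scheme.Hom.comp_apply, Sigma.ι_desc]⟩⟩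
  rw [← (Flat.isQuotientMap_of_surjective (Sigma.desc f)).isOpen_preimage,
    (sigmaOpenCover V).isOpenCover_opensRange.isOpen_iff_inter]
  intro k
  have : Sigma.desc f ⁻¹' E ∩ (Sigma.ι V k).opensRange = Sigma.ι V k '' (f k ⁻¹' E) := by
    rw [Scheme.Hom.coe_opensRange, ← Set.image_preimage_eq_inter_range, ← Set.preimage_comp, ← TopCat.coe_comp,
      ← Scheme.Hom.comp_base, Sigma.ι_desc]
  exact this ▸ (Sigma.ι V k).isOpenEmbedding.isOpenMap _ (hE k)

/-- Pulling back along a morphism with image in a set. -/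
theorem exists_sub {W : X.ProEt} (O : W.left.Opens) :
    ∃ (T : X.ProEt) (m : T ⟶ W), IsOpenImmersion m.left ∧ Set.range m.left = (O : Set W.left) :=
  ⟨Scheme.ProEt.mk (O.ι ≫ W.hom), MorphismProperty.Over.homMk O.ι rfl trivial,
    (inferInstance : IsOpenImmersion O.ι), O.range_ι⟩

/-- A finite jointly surjective family of affines over an affine is a covering. -/
theorem ofArrows_mem_of_affine {U : X.ProEt} [IsAffine U.left] {n : ℕ} (V : Fin n → X.ProEt)
    [∀ k, IsAffine (V k).left] (f : ∀ k, V k ⟶ U) (hs : ∀ x : U.left, ∃ k y, (f k).left y = x) :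
    Sieve.generate (Presieve.ofArrows V f) ∈ Scheme.ProEt.topology X U := by
  haveI : WeaklyEtale (Sigma.desc fun k => (f k).left) :=
    IsZariskiLocalAtSource.sigmaDesc fun k => weaklyEtale_left (f k)
  let T : X.ProEt := Scheme.ProEt.mk ((Sigma.desc fun k => (f k).left) ≫ U.hom)
  let t : T ⟶ U := MorphismProperty.Over.homMk (Sigma.desc fun k => (f k).left)
  haveI : Surjective t.left := ⟨fun x => by
    obtain ⟨k, y, rfl⟩ := hs x
    exact ⟨Sigma.ι (fun k => (V k).left) k y, by
      show (Sigma.desc fun k => (f k).left) (Sigma.ι (fun k => (V k).left) k y) = _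
      rw [← Scheme.Hom.comp_apply, Sigma.ι_desc]⟩⟩
  haveI : IsAffine T.left := inferInstanceAs (IsAffine (∐ fun k => (V k).left))
  refine GrothendieckTopology.transitive _ (generate_singleton_mem t) _ ?_
  rintro Y h ⟨_, a, _, ⟨⟩, rfl⟩
  rw [Sieve.pullback_comp]
  refine GrothendieckTopology.pullback_stable _ a ?_
  let V' : ULift.{u} (Fin n) → X.ProEt := fun k => V k.down
  let tk : ∀ k, V' k ⟶ T := fun k => MorphismProperty.Over.homMk (Sigma.ι (fun k => (V k).left) k.down)
    (by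
      show Sigma.ι (fun k => (V k).left) k.down ≫ (Sigma.desc fun k => (f k).left) ≫ U.hom = _
      rw [Sigma.ι_desc_assoc, MorphismProperty.Over.w]) trivial
  refine GrothendieckTopology.superset_covering _ ?_ (ofArrows_mem_of_isOpenMap V' tk
    (fun k => (Sigma.ι (fun k => (V k).left) k.down).isOpenEmbedding.isOpenMap) fun x => ?_)
  · rw [Sieve.generate_le_iff]
    rintro _ _ ⟨k⟩
    exact ⟨_, 𝟙 _, f k.down, ⟨k.down⟩, (Category.id_comp _).trans
      (MorphismProperty.Over.Hom.ext (show (f k.down).left = Sigma.ι (fun k => (V k).left) k.down ≫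
        Sigma.desc (fun k => (f k).left) from (Sigma.ι_desc (fun k => (f k).left) k.down).symm))⟩
  · obtain ⟨k, y, hy⟩ := (sigmaOpenCover (fun k => (V k).left)).exists_eq x
    exact ⟨⟨k⟩, y, hy⟩

include θ in
/-- The locus where a section over an affine étale object vanishes is open. -/
theorem exists_open_zero {A : X.Etale} [IsAffine A.left] (d : G.obj.obj (op ((ProEtS.eps X).obj A))) :
    ∃ (E : X.Etale) (ι : E ⟶ A), G.obj.map ((ProEtS.eps X).map ι).op d = 0 ∧
      ∀ (W : X.ProEt) (g : W ⟶ (ProEtS.eps X).obj A), G.obj.map g.op d = 0 →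
        Set.range g.left ⊆ Set.range ι.left := by
  haveI : CompactSpace ↥((ProEtS.eps X).obj A).left := inferInstanceAs (CompactSpace ↥A.left)
  haveI : IsAffine ((ProEtS.eps X).obj A).left := inferInstanceAs (IsAffine A.left)
  obtain ⟨n, W', f, hW', hs', hsurj⟩ := exists_affine_refinement
    (Presheaf.imageSieve_mem (Scheme.ProEt.topology X) θ d)
  choose p hp using hs'
  choose V g b hgb using fun k => lanMk_surjective F (p k)
  let Z : ∀ k, (W' k).left.Opens := fun k => ⟨(g k).left ⁻¹' zeroLocus F (b k),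
    (isOpen_zeroLocus F (b k)).preimage (g k).left.continuous⟩
  let E : Set A.left := {a | ∃ k y, y ∈ Z k ∧ (f k).left y = a}
  have hdk : ∀ k, G.obj.map (f k).op d = θ.app (op (W' k)) (lanMk F (g k) (b k)) := fun k => by
    rw [hgb k]; exact (hp k).symm
  have hmap : ∀ k {T : X.ProEt} (m : T ⟶ W' k),
      G.obj.map (m ≫ f k).op d = θ.app (op T) (lanMk F (m ≫ g k) (b k)) := fun k T m => by
    rw [op_comp, Functor.map_comp_apply, hdk]
    exact ((ConcreteCategory.congr_hom (θ.naturality m.op) _).symm).trans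
      (congrArg (θ.app (op T)) (LanAb.map_mk (ProEtS.eps X) F.obj m (g k) (b k)))
  have key : ∀ (T : X.ProEt) (m : T ⟶ (ProEtS.eps X).obj A), G.obj.map m.op d = 0 →
      ∀ (t : T.left) k (y : (W' k).left), (f k).left y = m.left t → y ∈ Z k := fun T m hm t k y hy => by
    obtain ⟨P, q1, q2, hP⟩ : ∃ (P : X.ProEt) (q1 : P ⟶ W' k) (q2 : P ⟶ T), IsPullback q1 q2 (f k) m :=
      ⟨pullback (f k) m, pullback.fst _ _, pullback.snd _ _, IsPullback.of_hasPullback _ _⟩
    have hP' : IsPullback q1.left q2.left (f k).left m.left :=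
      hP.map (Scheme.ProEt.forget X ⋙ CategoryTheory.Over.forget X)
    obtain ⟨z, hz, -⟩ := Scheme.Pullback.exists_preimage_pullback (f := (f k).left) (g := m.left) y t hy
    have h0 : θ.app (op P) (lanMk F (q1 ≫ g k) (b k)) = 0 := by
      rw [← hmap k q1, hP.w, op_comp, Functor.map_comp_apply, hm, map_zero]
    refine range_subset_zeroLocus F θ (q1 ≫ g k) (b k) h0 ⟨hP'.isoPullback.inv z, ?_⟩
    show (g k).left (q1.left (hP'.isoPullback.inv z)) = (g k).left y
    have h1 : q1.left (hP'.isoPullback.inv z) = y :=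
      (congr($(hP'.isoPullback_inv_fst).base z)).trans hz
    rw [h1]
  have hsat : ∀ k, (f k).left ⁻¹' E = Z k := fun k => by
    ext y
    refine ⟨fun ⟨l, z, hz, e⟩ => ?_, fun hy => ⟨k, y, hy, rfl⟩⟩
    obtain ⟨T, m, -, hr⟩ := exists_sub (Z l)
    obtain ⟨t, rfl⟩ := hr.symm ▸ (show z ∈ (Z l : Set (W' l).left) from hz)
    refine key T (m ≫ f l) ?_ t k y e.symm
    rw [hmap, app_eq_zero_of_range_subset F (m ≫ g l) (b l) (by
      rintro _ ⟨t', rfl⟩
      have : m.left t' ∈ (Z l : Set (W' l).left) := hr ▸ ⟨t', rfl⟩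
      exact this), map_zero]
  haveI := hW'
  haveI : ∀ k, WeaklyEtale (f k).left := fun k => weaklyEtale_left (f k)
  let O : A.left.Opens := ⟨E, isQuotientMap_sigmaDesc (fun k => (W' k).left) (fun k => (f k).left) hsurj E
    fun k => (hsat k).symm ▸ (Z k).2⟩
  haveI : Etale A.hom := A.prop
  let EO : X.Etale := MorphismProperty.Over.mk _ (O.ι ≫ A.hom) (inferInstanceAs (Etale (O.ι ≫ A.hom)))
  let ι : EO ⟶ A := MorphismProperty.Over.homMk O.ι rfl trivial
  refine ⟨EO, ι, ?_, fun W m hm => ?_⟩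
  · have hcov : Sieve.generate (Presieve.ofArrows W' f) ∈ Scheme.ProEt.topology X ((ProEtS.eps X).obj A) := by
      haveI : WeaklyEtale (Sigma.desc fun k => (f k).left) :=
        IsZariskiLocalAtSource.sigmaDesc fun k => weaklyEtale_left (f k)
      exact ofArrows_mem_of_affine W' f hsurj
    refine (((isSheaf_iff_isSheaf_of_type _ _).1
      ((sheafCompose (Scheme.ProEt.topology X) (forget AddCommGrpCat.{u + 1})).obj G).property _
      ((Scheme.ProEt.topology X).pullback_stable ((ProEtS.eps X).map ι) hcov)).isSeparatedFor).ext ?_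
    rintro T m ⟨_, a, _, ⟨k⟩, e⟩
    show G.obj.map m.op (G.obj.map ((ProEtS.eps X).map ι).op d) = G.obj.map m.op 0
    rw [map_zero, ← Functor.map_comp_apply, ← op_comp, ← e, hmap,
      app_eq_zero_of_range_subset F (a ≫ g k) (b k) ?_, map_zero]
    rintro _ ⟨t, rfl⟩
    have hE : (f k).left (a.left t) ∈ E := by
      have := congr($(e).left.base t)
      rw [show (f k).left (a.left t) = O.ι (m.left t) from this]
      exact (m.left t).2
    exact (Set.ext_iff.1 (hsat k) (a.left t)).1 hE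
  · rintro _ ⟨t, rfl⟩
    obtain ⟨k, y, hy⟩ := hsurj (m.left t)
    exact ⟨⟨m.left t, k, y, key W m hm t k y hy, hy⟩, rfl⟩

/-- The canonical map `F ⟶ ε_* G`. -/
noncomputable def etaMap : F.obj ⟶ (ProEtS.eps X).op ⋙ G.obj :=
  (ProEtS.eps X).op.lanUnit.app F.obj ≫ Functor.whiskerLeft (ProEtS.eps X).op θ

include θ in
theorem etaMap_apply {U : X.Etale} (a : F.obj.obj (op U)) :
    (etaMap F θ).app (op U) a = θ.app (op ((ProEtS.eps X).obj U)) (lanMk F (𝟙 _) a) := by
  rw [show lanMk F (𝟙 ((ProEtS.eps X).obj U)) a = _ from LanAb.mk_id (ProEtS.eps X) F.obj a]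
  rfl

include θ in
theorem injective_etaMap (U : X.Etale) : Function.Injective ((etaMap F θ).app (op U)) := by
  rw [injective_iff_map_eq_zero]
  intro a ha
  rw [etaMap_apply] at ha
  have h := range_subset_zeroLocus F θ (𝟙 ((ProEtS.eps X).obj U)) a ha
  have h2 := map_eq_zero_of_subset_zeroLocus F (𝟙 U) a fun y => h ⟨y, rfl⟩
  rwa [op_id, F.obj.map_id] at h2

theorem mem_smallEtale_of_forall {U : X.Etale} (R : Sieve U)
    (h : ∀ x : U.left, ∃ (Y : X.Etale) (f : Y ⟶ U) (y : Y.left), R f ∧ Etale f.left ∧ f.left y = x) :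
    R ∈ X.smallEtaleTopology U := by
  rw [Scheme.smallEtaleTopology, Scheme.smallGrothendieckTopology_eq_toGrothendieck_smallPretopology _ le_rfl]
  exact (Scheme.mem_toGrothendieck_smallPretopology (P := @Etale) (Q := @Etale) (S := X) U R).2 h

include θ in
theorem isLocallySurjective_etaMap :
    Presheaf.IsLocallySurjective X.smallEtaleTopology (etaMap F θ) := ⟨fun {U} s => by
  refine mem_smallEtale_of_forall _ fun u => ?_
  obtain ⟨ι, T, f, hf, hmem⟩ := exists_family (Presheaf.imageSieve_mem (Scheme.ProEt.topology X) θ s)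
  obtain ⟨i, t, ht⟩ := ((Scheme.ofArrows_mem_precoverage_iff _).1
    (show Presieve.ofArrows _ _ ∈ Scheme.precoverage @WeaklyEtale ((ProEtS.eps X).obj U).left from hmem.2)).1 u
  obtain ⟨p, hp⟩ := hf i
  obtain ⟨V, g, b, rfl⟩ := lanMk_surjective F p
  haveI : Etale U.hom := U.prop
  haveI : Etale V.hom := V.prop
  let P : X.Etale := MorphismProperty.Over.mk _ (pullback.fst U.hom V.hom ≫ U.hom)
    (inferInstanceAs (Etale (pullback.fst U.hom V.hom ≫ U.hom)))
  let p1 : P ⟶ U := MorphismProperty.Over.homMk (pullback.fst U.hom V.hom) rfl trivial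
  let p2 : P ⟶ V := MorphismProperty.Over.homMk (pullback.snd U.hom V.hom) pullback.condition.symm trivial
  have hw : (f i).left ≫ U.hom = g.left ≫ V.hom :=
    (show (f i).left ≫ U.hom = (T i).hom from MorphismProperty.Over.w (f i)).trans
      (show g.left ≫ V.hom = (T i).hom from MorphismProperty.Over.w g).symm
  let g0 : (T i).left ⟶ P.left := pullback.lift (f i).left g.left hw
  have hg1 : g0 ≫ pullback.fst U.hom V.hom = (f i).left := pullback.lift_fst _ _ _
  have hg2 : g0 ≫ pullback.snd U.hom V.hom = g.left := pullback.lift_snd _ _ _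
  obtain ⟨_, ⟨O, hO, rfl⟩, hxO, -⟩ :=
    P.left.isBasis_affineOpens.exists_subset_of_mem_open (Set.mem_univ (g0 t)) isOpen_univ
  haveI : Etale P.hom := P.prop
  let A : X.Etale := MorphismProperty.Over.mk _ ((Scheme.Opens.ι O) ≫ P.hom) (inferInstanceAs (Etale ((Scheme.Opens.ι O) ≫ P.hom)))
  let a1 : A ⟶ U := (MorphismProperty.Over.homMk (Scheme.Opens.ι O) rfl trivial : A ⟶ P) ≫ p1
  let a2 : A ⟶ V := (MorphismProperty.Over.homMk (Scheme.Opens.ι O) rfl trivial : A ⟶ P) ≫ p2
  haveI : IsAffine A.left := hO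
  let TA : X.ProEt := Scheme.ProEt.mk ((g0 ⁻¹ᵁ O).ι ≫ (T i).hom)
  let m : TA ⟶ T i := MorphismProperty.Over.homMk (g0 ⁻¹ᵁ O).ι
  have hr : g0.resLE O (g0 ⁻¹ᵁ O) le_rfl ≫ (Scheme.Opens.ι O) = (g0 ⁻¹ᵁ O).ι ≫ g0 := g0.resLE_comp_ι le_rfl
  have hwA : g0.resLE O (g0 ⁻¹ᵁ O) le_rfl ≫ (Scheme.Opens.ι O) ≫ P.hom = (g0 ⁻¹ᵁ O).ι ≫ (T i).hom := by
    rw [reassoc_of% hr]
    refine congrArg ((g0 ⁻¹ᵁ O).ι ≫ ·) ?_
    show g0 ≫ pullback.fst U.hom V.hom ≫ U.hom = (T i).hom
    exact (Category.assoc _ _ _).symm.trans ((congrArg (fun z => z ≫ U.hom) hg1).trans (MorphismProperty.Over.w (f i)))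
  let gA : TA ⟶ (ProEtS.eps X).obj A := MorphismProperty.Over.homMk (g0.resLE O (g0 ⁻¹ᵁ O) le_rfl) hwA trivial
  have h1 : gA ≫ (ProEtS.eps X).map a1 = m ≫ f i := by
    refine MorphismProperty.Over.Hom.ext ?_
    show g0.resLE O (g0 ⁻¹ᵁ O) le_rfl ≫ (Scheme.Opens.ι O) ≫ pullback.fst U.hom V.hom = (g0 ⁻¹ᵁ O).ι ≫ (f i).left
    rw [reassoc_of% hr]
    exact congrArg ((g0 ⁻¹ᵁ O).ι ≫ ·) hg1
  have h2 : gA ≫ (ProEtS.eps X).map a2 = m ≫ g := by
    refine MorphismProperty.Over.Hom.ext ?_
    show g0.resLE O (g0 ⁻¹ᵁ O) le_rfl ≫ (Scheme.Opens.ι O) ≫ pullback.snd U.hom V.hom = (g0 ⁻¹ᵁ O).ι ≫ g.left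
    rw [reassoc_of% hr]
    exact congrArg ((g0 ⁻¹ᵁ O).ι ≫ ·) hg2
  let d : G.obj.obj (op ((ProEtS.eps X).obj A)) :=
    G.obj.map ((ProEtS.eps X).map a1).op s - (etaMap F θ).app (op A) (F.obj.map a2.op b)
  have hd : G.obj.map gA.op d = 0 := by
    show G.obj.map gA.op (_ - _) = 0
    rw [map_sub, sub_eq_zero, etaMap_apply, ← Functor.map_comp_apply, ← op_comp, h1, op_comp,
      Functor.map_comp_apply, ← hp]
    refine (ConcreteCategory.congr_hom (θ.naturality m.op) _).symm.trans (Eq.trans ?_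
      (ConcreteCategory.congr_hom (θ.naturality gA.op) _))
    refine congrArg (θ.app (op TA)) ?_
    refine (LanAb.map_mk (ProEtS.eps X) F.obj m g b).trans (Eq.trans ?_
      (LanAb.map_mk (ProEtS.eps X) F.obj gA (𝟙 _) (F.obj.map a2.op b)).symm)
    rw [← h2, LanAb.mk_comp, Category.comp_id]
  obtain ⟨E, e, he, hsub⟩ := exists_open_zero F θ d
  obtain ⟨y, hy⟩ := hsub TA gA hd ⟨⟨t, hxO⟩, rfl⟩
  refine ⟨E, e ≫ a1, y, ⟨F.obj.map (e ≫ a2).op b, ?_⟩, ?_, ?_⟩
  · have h4 : G.obj.map ((ProEtS.eps X).map e).op (G.obj.map ((ProEtS.eps X).map a1).op s) =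
        G.obj.map ((ProEtS.eps X).map e).op ((etaMap F θ).app (op A) (F.obj.map a2.op b)) := by
      rw [← sub_eq_zero, ← map_sub]; exact he
    rw [op_comp, Functor.map_comp_apply]
    refine (ConcreteCategory.congr_hom ((etaMap F θ).naturality e.op) _).trans (h4.symm.trans ?_)
    show G.obj.map ((ProEtS.eps X).map e).op (G.obj.map ((ProEtS.eps X).map a1).op s) =
      G.obj.map ((ProEtS.eps X).map (e ≫ a1)).op s
    rw [show (ProEtS.eps X).map (e ≫ a1) = (ProEtS.eps X).map e ≫ (ProEtS.eps X).map a1 from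
      Functor.map_comp _ _ _, op_comp, Functor.map_comp_apply]
  · haveI : Etale ((e ≫ a1).left ≫ U.hom) :=
      (congrArg (fun z => Etale z) (MorphismProperty.Over.w (e ≫ a1))).mpr E.prop
    exact Etale.of_comp (e ≫ a1).left U.hom
  · show (e ≫ a1).left y = u
    rw [← ht]
    refine (congrArg a1.left hy).trans ?_
    exact (congr($(h1).left.base (⟨t, hxO⟩ : (g0 ⁻¹ᵁ O).toScheme)))⟩

include θ in
theorem isIso_etaMap [ProEtS.EpsCont X] (τ : F ⟶ (ProEtS.epsPush X).obj G) (hτ : τ.hom = etaMap F θ) :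
    IsIso τ := by
  haveI : Sheaf.IsLocallyInjective τ := Presheaf.isLocallyInjective_of_injective _ _ fun U => by
    rw [hτ]; exact injective_etaMap F θ U.unop
  haveI : Sheaf.IsLocallySurjective τ := by
    show Presheaf.IsLocallySurjective X.smallEtaleTopology τ.hom
    rw [hτ]; exact isLocallySurjective_etaMap F θ
  exact (Sheaf.isLocallyBijective_iff_isIso τ).1 ⟨inferInstance, inferInstance⟩

theorem isIso_epsAdj_unit [ProEtS.EpsCont X] : IsIso ((ProEtS.epsAdj X).unit.app F) := by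
  haveI := flat_eps X
  let adj := Functor.sheafPullbackConstruction.sheafAdjunctionContinuous (ProEtS.eps X)
    AddCommGrpCat.{u + 1} X.smallEtaleTopology (Scheme.ProEt.topology X)
  have h : (adj.unit.app F).hom = etaMap F (toSheafify (Scheme.ProEt.topology X) ((ProEtS.eps X).op.lan.obj F.obj)) := by
    have e := Adjunction.map_restrictFullyFaithful_unit_app
      (((ProEtS.eps X).op.lanAdjunction AddCommGrpCat.{u + 1}).comp
        (sheafificationAdjunction (Scheme.ProEt.topology X) AddCommGrpCat.{u + 1}))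
      (fullyFaithfulSheafToPresheaf X.smallEtaleTopology AddCommGrpCat.{u + 1}) (Functor.FullyFaithful.id _)
      (L := Functor.sheafPullbackConstruction.sheafPullback (ProEtS.eps X) AddCommGrpCat.{u + 1}
        X.smallEtaleTopology (Scheme.ProEt.topology X))
      (R := (ProEtS.eps X).sheafPushforwardContinuous AddCommGrpCat.{u + 1} X.smallEtaleTopology
        (Scheme.ProEt.topology X))
      (Iso.refl _) (Iso.refl _) F
    refine e.trans ?_
    rw [Adjunction.comp_unit_app, Functor.lanAdjunction_unit]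
    ext W x
    rfl
  haveI hτ : IsIso (adj.unit.app F) := isIso_etaMap F (toSheafify (Scheme.ProEt.topology X) ((ProEtS.eps X).op.lan.obj F.obj))
    (G := (presheafToSheaf (Scheme.ProEt.topology X) AddCommGrpCat.{u + 1}).obj ((ProEtS.eps X).op.lan.obj F.obj))
    (adj.unit.app F) h
  rw [← Adjunction.unit_leftAdjointUniq_hom_app adj (ProEtS.epsAdj X) F]
  infer_instance

end GrothLib.ProEtS
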