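import Groth.Agent.Lib.ProEtS.WC

/-!
# Presheaves turning finite disjoint unions into products
-/

set_option autoImplicit false
set_option backward.isDefEq.respectTransparency.types false

universe u

open CategoryTheory CategoryTheory.Limits AlgebraicGeometry Opposite

namespace GrothLib.ProEtS

variable {X : Scheme.{u}}

/-- A disjoint open decomposition is a coproduct in the pro-étale site. -/
theorem nonempty_isColimit_cofan {ι : Type} [Finite ι] {W : X.ProEt} (V : ι → X.ProEt) (f : ∀ i, V i ⟶ W)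
    [∀ i, IsOpenImmersion (f i).left]
    (hd : ∀ i j, i ≠ j → Disjoint (Set.range (f i).left) (Set.range (f j).left))
    (hs : ∀ x : W.left, ∃ i y, (f i).left y = x) :
    Nonempty (IsColimit (Cofan.mk W f)) := by
  obtain ⟨hc⟩ := nonempty_isColimit_cofanMk_of (fun i => (f i).left)
    (top_le_iff.1 fun x _ => by
      obtain ⟨i, y, hy⟩ := hs x
      exact TopologicalSpace.Opens.mem_iSup.2 ⟨i, ⟨y, hy⟩⟩)
    (fun i j hij => disjoint_iff.2 <| TopologicalSpace.Opens.ext (Set.disjoint_iff_inter_eq_empty.1 (hd i j hij)))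
  have hw : ∀ t : Cofan V, Cofan.IsColimit.desc hc (fun i => (t.inj i).left) ≫ t.pt.hom = W.hom := fun t =>
    Cofan.IsColimit.hom_ext hc _ _ fun i => by
      rw [← Category.assoc, Cofan.IsColimit.fac, MorphismProperty.Over.w]
      exact (MorphismProperty.Over.w (f i)).symm
  refine ⟨mkCofanColimit _ (fun t => MorphismProperty.Over.homMk
    (Cofan.IsColimit.desc hc (fun i => (t.inj i).left)) (hw t) trivial) (fun t i => ?_) fun t m hm => ?_⟩
  · exact MorphismProperty.Over.Hom.ext (Cofan.IsColimit.fac hc _ i)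
  · refine MorphismProperty.Over.Hom.ext (Cofan.IsColimit.hom_ext hc _ _ fun i => ?_)
    exact (congrArg (fun k : V i ⟶ t.pt => k.left) (hm i)).trans (Cofan.IsColimit.fac hc (fun i => (t.inj i).left) i).symm

theorem bijective_pi {ι : Type} [Finite ι] (F : X.ProEtᵒᵖ ⥤ Type (u + 1)) [PreservesFiniteProducts F]
    {W : X.ProEt} (V : ι → X.ProEt) (f : ∀ i, V i ⟶ W)
    [∀ i, IsOpenImmersion (f i).left]
    (hd : ∀ i j, i ≠ j → Disjoint (Set.range (f i).left) (Set.range (f j).left))
    (hs : ∀ x : W.left, ∃ i y, (f i).left y = x) :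
    Function.Bijective (fun (a : F.obj (op W)) (i : ι) => F.map (f i).op a) := by
  obtain ⟨hc⟩ := nonempty_isColimit_cofan V f hd hs
  have hl := isLimitFanMkObjOfIsLimit F _ _ (Cofan.IsColimit.op hc)
  constructor
  · intro a b h
    exact Concrete.isLimit_ext _ hl a b fun ⟨i⟩ => congrFun h i
  · intro z
    obtain ⟨a, ha, -⟩ := (Types.isLimit_iff _).1 ⟨hl⟩ (fun i => z i.as)
      (fun {i j} g => by
        obtain ⟨⟨g⟩⟩ := g
        obtain rfl := Discrete.ext g
        simp)
    exact ⟨a, funext fun i => ha ⟨i⟩⟩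

/-- Sections over a clopen decomposition are products. -/
def PiProp (F : X.ProEtᵒᵖ ⥤ Type (u + 1)) (W : X.ProEt) : Prop :=
  ∀ (n : ℕ) (U : Fin n → W.left.Opens),
    Pairwise (fun k l => Disjoint (U k : Set ↥W.left) (U l)) → (⋃ k, (U k : Set ↥W.left)) = Set.univ →
      Function.Bijective (fun (a : F.obj (op W)) (k : Fin n) =>
        F.map (MorphismProperty.Over.homMk (U k).ι : Scheme.ProEt.mk ((U k).ι ≫ W.hom) ⟶ W).op a)

theorem piProp_of_preservesFiniteProducts (F : X.ProEtᵒᵖ ⥤ Type (u + 1)) [PreservesFiniteProducts F]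
    (W : X.ProEt) : PiProp F W := fun n U hd hu => by
  haveI : ∀ k, IsOpenImmersion (MorphismProperty.Over.homMk (U k).ι :
      Scheme.ProEt.mk ((U k).ι ≫ W.hom) ⟶ W).left := fun k => inferInstanceAs (IsOpenImmersion (U k).ι)
  refine bijective_pi F _ _ (fun i j hij => ?_) (fun x => ?_)
  · show Disjoint (Set.range (U i).ι) (Set.range (U j).ι)
    rw [Scheme.Opens.range_ι, Scheme.Opens.range_ι]
    exact hd hij
  · obtain ⟨k, hk⟩ := Set.mem_iUnion.1 (hu.symm ▸ Set.mem_univ x)
    exact ⟨k, ⟨x, hk⟩, rfl⟩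

theorem bijective_app_of_clopenRefined {F : X.ProEtᵒᵖ ⥤ Type (u + 1)}
    {G : Sheaf (Scheme.ProEt.topology X) (Type (u + 1))} (η : F ⟶ G.obj)
    [Presheaf.IsLocallyInjective (Scheme.ProEt.topology X) η]
    [Presheaf.IsLocallySurjective (Scheme.ProEt.topology X) η]
    {W : X.ProEt} (hF : PiProp F W) (hW : ClopenRefined W) : Function.Bijective (η.app (op W)) := by
  constructor
  · intro a b hab
    obtain ⟨n, U, -, hd, hu, hR⟩ := hW _ (Presheaf.equalizerSieve_mem (Scheme.ProEt.topology X) η a b hab)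
    exact (hF n U hd hu).1 (funext hR)
  · intro s
    obtain ⟨n, U, -, hd, hu, hR⟩ := hW _ (Presheaf.imageSieve_mem (Scheme.ProEt.topology X) η s)
    let V : ULift.{u} (Fin n) → X.ProEt := fun k => Scheme.ProEt.mk ((U k.down).ι ≫ W.hom)
    let f : ∀ k, V k ⟶ W := fun k => MorphismProperty.Over.homMk (U k.down).ι
    choose t ht using hR
    obtain ⟨a, ha⟩ := (hF n U hd hu).2 t
    have hcov : Sieve.generate (Presieve.ofArrows V f) ∈ Scheme.ProEt.topology X W :=
      ofArrows_mem_of_isOpenMap V f (fun k => (U k.down).ι.isOpenEmbedding.isOpenMap) fun x => by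
        obtain ⟨k, hk⟩ := Set.mem_iUnion.1 (hu.symm ▸ Set.mem_univ x)
        exact ⟨⟨k⟩, ⟨x, hk⟩, rfl⟩
    refine ⟨a, ((Presieve.isSheafFor_iff_generate _).2
      ((isSheaf_iff_isSheaf_of_type _ _).1 G.property _ hcov)).isSeparatedFor.ext ?_⟩
    rintro _ _ ⟨⟨k⟩⟩
    refine ((ConcreteCategory.congr_hom (η.naturality (f ⟨k⟩).op) a).symm.trans ?_)
    refine Eq.trans ?_ (ht k)
    exact congrArg _ (congrFun ha k)

theorem bijective_pi_sheaf (F : Sheaf (Scheme.ProEt.topology X) (Type (u + 1))) {n : ℕ} {U : X.ProEt}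
    (V : Fin n → X.ProEt) (f : ∀ i, V i ⟶ U) [∀ i, IsOpenImmersion (f i).left]
    (hd : ∀ i j, i ≠ j → Disjoint (Set.range (f i).left) (Set.range (f j).left))
    (hs : ∀ x : U.left, ∃ i y, (f i).left y = x) :
    Function.Bijective (fun (a : F.obj.obj (op U)) (i : Fin n) => F.obj.map (f i).op a) := by
  let V' : ULift.{u} (Fin n) → X.ProEt := fun i => V i.down
  let f' : ∀ i, V' i ⟶ U := fun i => f i.down
  have hcov : Sieve.generate (Presieve.ofArrows V' f') ∈ Scheme.ProEt.topology X U :=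
    ofArrows_mem_of_isOpenMap V' f' (fun i => (f i.down).left.isOpenEmbedding.isOpenMap) fun x => by
      obtain ⟨i, y, hy⟩ := hs x
      exact ⟨⟨i⟩, y, hy⟩
  have hF : (Presieve.ofArrows V' f').IsSheafFor F.obj :=
    (Presieve.isSheafFor_iff_generate _).2 ((isSheaf_iff_isSheaf_of_type _ _).1 F.property _ hcov)
  constructor
  · intro a b h
    refine hF.isSeparatedFor.ext ?_
    rintro _ _ ⟨i⟩
    exact congrFun h i.down
  · intro z
    obtain ⟨a, ha, -⟩ := (Presieve.isSheafFor_arrows_iff _ _).1 hF (fun i => z i.down)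
      (fun i j Z gi gj hij => by
        by_cases h : i = j
        · subst h
          obtain rfl : gi = gj := MorphismProperty.Over.Hom.ext
            ((cancel_mono (f i.down).left).1 (congrArg (fun m : Z ⟶ U => m.left) hij))
          rfl
        · haveI : IsEmpty Z.left := ⟨fun z =>
            Set.disjoint_left.1 (hd i.down j.down fun e => h (ULift.ext _ _ e)) ⟨gi.left z, rfl⟩
              ⟨gj.left z, (congr($(hij).left.base z)).symm⟩⟩
          exact (((isSheaf_iff_isSheaf_of_type _ _).1 F.property _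
            (Scheme.ProEt.bot_mem_topology Z)).isSeparatedFor).ext fun _ _ h => h.elim)
    exact ⟨a, funext fun i => ha ⟨i⟩⟩

end GrothLib.ProEtS
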