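import Groth.Agent.Lib.ProEtS.SecP

/-!
# Sections of `ε⁻¹ F` are relative sections of `F`
-/

set_option autoImplicit false
set_option backward.isDefEq.respectTransparency.types false

universe u

open CategoryTheory CategoryTheory.Limits AlgebraicGeometry Opposite
open GrothLib.EtSec GrothLib.EtSite

noncomputable section

namespace GrothLib.ProEtS

theorem nonempty_iso_of_isLocallyBijective {C : Type*} [Category C] (J : GrothendieckTopology C)
    [J.WEqualsLocallyBijective (Type (u + 1))] {P : Cᵒᵖ ⥤ Type (u + 1)} {G H : Sheaf J (Type (u + 1))}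
    (f : P ⟶ G.obj) (g : P ⟶ H.obj) (hf₁ : Presheaf.IsLocallyInjective J f)
    (hf₂ : Presheaf.IsLocallySurjective J f) (hg₁ : Presheaf.IsLocallyInjective J g)
    (hg₂ : Presheaf.IsLocallySurjective J g) :
    ∃ e : G.obj ≅ H.obj, f ≫ e.hom = g := by
  have hf := J.W_of_isLocallyBijective f
  have hg := J.W_of_isLocallyBijective g
  obtain ⟨a, ha⟩ := (hf H.obj H.property).2 g
  obtain ⟨b, hb⟩ := (hg G.obj G.property).2 f
  dsimp only at ha hb
  refine ⟨⟨a, b, (hf G.obj G.property).1 ?_, (hg H.obj H.property).1 ?_⟩, ha⟩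
  · show f ≫ a ≫ b = f ≫ 𝟙 _
    rw [← Category.assoc, ha, hb, Category.comp_id]
  · show g ≫ b ≫ a = g ≫ 𝟙 _
    rw [← Category.assoc, hb, ha, Category.comp_id]

variable {X : Scheme.{u}} (F : EtCoh.Ab X)

/-- The relative section given by `g : W ⟶ ε V` and `s ∈ F V`. -/
def secMk {W : X.ProEt} {V : X.Etale} (g : W ⟶ (ProEtS.eps X).obj V) (s : EtCoh.sect F V) :
    Secs W.hom (forgetSh F) :=
  (secOf (forgetSh F) (U := V) s).res g.left (MorphismProperty.Over.w g)

theorem secMk_val {W : X.ProEt} {V : X.Etale} (g : W ⟶ (ProEtS.eps X).obj V) (s : EtCoh.sect F V)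
    (Ω : Type u) [Field Ω] [IsSepClosed Ω] (p : Spec (CommRingCat.of Ω) ⟶ W.left)
    (η : Spec (CommRingCat.of Ω) ⟶ X) (h : p ≫ W.hom = η) (h' : (p ≫ g.left) ≫ V.hom = η) :
    (secMk F g s).val Ω p η h = gSh (forgetSh F) (p ≫ g.left) h' s :=
  secOf_val (forgetSh F) s Ω (p ≫ g.left) η h'

theorem secMk_map {W : X.ProEt} {V V' : X.Etale} (c : V' ⟶ V) (g : W ⟶ (ProEtS.eps X).obj V')
    (s : EtCoh.sect F V) : secMk F (g ≫ (ProEtS.eps X).map c) s = secMk F g (F.obj.map c.op s) := by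
  refine Eq.trans ?_ (congrArg (fun t : Secs V'.hom (forgetSh F) => t.res g.left (MorphismProperty.Over.w g))
    (secOf_map (forgetSh F) c s)).symm
  exact Secs.ext' fun Ω _ _ p η h =>
    (secOf (forgetSh F) (U := V) s).val_congr (Category.assoc p g.left c.left).symm
      ((Category.assoc _ _ _).trans ((congrArg (p ≫ ·) (MorphismProperty.Over.w (g ≫ (ProEtS.eps X).map c))).trans h))
      ((Category.assoc _ _ _).trans ((congrArg ((p ≫ g.left) ≫ ·) (hom_left c)).trans
        ((Category.assoc _ _ _).trans ((congrArg (p ≫ ·) (MorphismProperty.Over.w g)).trans h))))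

theorem res_secMk {W W' : X.ProEt} (k : W' ⟶ W) {V : X.Etale} (g : W ⟶ (ProEtS.eps X).obj V)
    (s : EtCoh.sect F V) :
    (secMk F g s).res k.left (MorphismProperty.Over.w k) = secMk F (k ≫ g) s :=
  Secs.ext' fun Ω _ _ p η h =>
    (secOf (forgetSh F) (U := V) s).val_congr (Category.assoc p k.left g.left)
      ((Category.assoc _ _ _).trans ((congrArg ((p ≫ k.left) ≫ ·) (MorphismProperty.Over.w g)).trans
        ((Category.assoc _ _ _).trans ((congrArg (p ≫ ·) (MorphismProperty.Over.w k)).trans h))))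
      ((Category.assoc _ _ _).trans ((congrArg (p ≫ ·) (MorphismProperty.Over.w (k ≫ g))).trans h))

theorem secMk_eq_of_lanMk_eq {W : X.ProEt} {V₁ V₂ : X.Etale} (g₁ : W ⟶ (ProEtS.eps X).obj V₁)
    (g₂ : W ⟶ (ProEtS.eps X).obj V₂) (s : EtCoh.sect F V₁) (t : EtCoh.sect F V₂)
    (h : lanMk F g₁ s = lanMk F g₂ t) : secMk F g₁ s = secMk F g₂ t := by
  haveI := flat_eps X
  haveI := fun Z => preservesColimits_costructuredArrow (X := X) Z
  obtain ⟨R, c₁, c₂, g', rfl, rfl, e⟩ := LanAb.exists_of_mk_eq (ProEtS.eps X) F.obj g₁ g₂ s t h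
  rw [secMk_map, secMk_map, e]

theorem range_subset_zeroLocus_of_secMk_eq {W : X.ProEt} {V : X.Etale} (g : W ⟶ (ProEtS.eps X).obj V)
    (s t : EtCoh.sect F V) (h : secMk F g s = secMk F g t) :
    Set.range g.left ⊆ zeroLocus F (s - t) := by
  rintro _ ⟨w, rfl⟩
  obtain ⟨Ω, _, _, p, rfl⟩ := Secs.exists_point w
  have h' : (p ≫ g.left) ≫ V.hom = p ≫ W.hom :=
    (Category.assoc _ _ _).trans (congrArg (p ≫ ·) (MorphismProperty.Over.w g))
  have e : gSh (forgetSh F) (p ≫ g.left) h' s = gSh (forgetSh F) (p ≫ g.left) h' t :=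
    (secMk_val F g s Ω p _ rfl h').symm.trans
      ((congrArg (fun σ : Secs W.hom (forgetSh F) => σ.val Ω p _ rfl) h).trans (secMk_val F g t Ω p _ rfl h'))
  let pt := fib (p ≫ W.hom) (U := V) (p ≫ g.left) h'
  obtain ⟨Y, f, y, hy, hf⟩ := ((Scheme.pointSmallEtale (p ≫ W.hom)).toPresheafFiber_eq_iff'
    (P := (forgetSh F).obj) V pt s t).1 e
  let yl : Spec (CommRingCat.of Ω) ⟶ Y.left := y.left
  refine ⟨Y, f, yl.base default, ?_, ?_⟩
  · exact base_fiber_map (p ≫ W.hom) f y pt hy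
  · rw [map_sub, sub_eq_zero]
    exact hf

theorem lanMk_eq_of_secMk_eq {W : X.ProEt} {V₁ V₂ : X.Etale} (g₁ : W ⟶ (ProEtS.eps X).obj V₁)
    (g₂ : W ⟶ (ProEtS.eps X).obj V₂) (s : EtCoh.sect F V₁) (t : EtCoh.sect F V₂)
    (h : secMk F g₁ s = secMk F g₂ t) : lanMk F g₁ s = lanMk F g₂ t := by
  haveI : Etale V₁.hom := V₁.prop
  haveI : Etale V₂.hom := V₂.prop
  let P : X.Etale := MorphismProperty.Over.mk _ (pullback.fst V₁.hom V₂.hom ≫ V₁.hom)
    (inferInstanceAs (Etale (pullback.fst V₁.hom V₂.hom ≫ V₁.hom)))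
  let p₁ : P ⟶ V₁ := MorphismProperty.Over.homMk (pullback.fst V₁.hom V₂.hom) rfl trivial
  let p₂ : P ⟶ V₂ := MorphismProperty.Over.homMk (pullback.snd V₁.hom V₂.hom) pullback.condition.symm trivial
  have hw : g₁.left ≫ V₁.hom = g₂.left ≫ V₂.hom :=
    (show g₁.left ≫ V₁.hom = W.hom from MorphismProperty.Over.w g₁).trans
      (show g₂.left ≫ V₂.hom = W.hom from MorphismProperty.Over.w g₂).symm
  let g₀ : W.left ⟶ P.left := pullback.lift g₁.left g₂.left hw
  have h₁ : g₀ ≫ pullback.fst V₁.hom V₂.hom = g₁.left := pullback.lift_fst _ _ _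
  have h₂ : g₀ ≫ pullback.snd V₁.hom V₂.hom = g₂.left := pullback.lift_snd _ _ _
  let g' : W ⟶ (ProEtS.eps X).obj P := MorphismProperty.Over.homMk g₀
    ((Category.assoc _ _ _).symm.trans ((congrArg (· ≫ V₁.hom) h₁).trans (MorphismProperty.Over.w g₁))) trivial
  have e₁ : g' ≫ (ProEtS.eps X).map p₁ = g₁ := MorphismProperty.Over.Hom.ext h₁
  have e₂ : g' ≫ (ProEtS.eps X).map p₂ = g₂ := MorphismProperty.Over.Hom.ext h₂
  rw [← e₁, ← e₂, secMk_map, secMk_map] at h
  have h0 := app_eq_zero_of_range_subset F g' _ (range_subset_zeroLocus_of_secMk_eq F g' _ _ h)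
  rw [map_sub, sub_eq_zero] at h0
  rw [← e₁, ← e₂]
  exact (LanAb.mk_comp (ProEtS.eps X) F.obj p₁ g' s).trans
    (h0.trans (LanAb.mk_comp (ProEtS.eps X) F.obj p₂ g' t).symm)

/-- The underlying presheaf of sets of `lan F`. -/
abbrev lanT : X.ProEtᵒᵖ ⥤ Type (u + 1) :=
  (ProEtS.eps X).op.lan.obj F.obj ⋙ forget AddCommGrpCat.{u + 1}

/-- The relative section of an element of `lan F`. -/
def thetaVal {W : X.ProEt} (a : ((ProEtS.eps X).op.lan.obj F.obj).obj (op W)) :
    Secs W.hom (forgetSh F) :=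
  secMk F (lanMk_surjective F a).choose_spec.choose (lanMk_surjective F a).choose_spec.choose_spec.choose

theorem thetaVal_lanMk {W : X.ProEt} {V : X.Etale} (g : W ⟶ (ProEtS.eps X).obj V) (s : EtCoh.sect F V) :
    thetaVal F (lanMk F g s) = secMk F g s :=
  secMk_eq_of_lanMk_eq F _ _ _ _ (lanMk_surjective F (lanMk F g s)).choose_spec.choose_spec.choose_spec

/-- `lan F` maps to relative sections. -/
def theta : lanT F ⟶ secP (forgetSh F) where
  app W := ↾fun a => thetaVal F (W := W.unop) a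
  naturality W W' k := by
    ext (a : ((ProEtS.eps X).op.lan.obj F.obj).obj (op W.unop))
    obtain ⟨V, g, s, rfl⟩ := lanMk_surjective F a
    show thetaVal F (((ProEtS.eps X).op.lan.obj F.obj).map k.unop.op (lanMk F g s)) = (thetaVal F (lanMk F g s)).res k.unop.left (MorphismProperty.Over.w k.unop)
    rw [thetaVal_lanMk, show ((ProEtS.eps X).op.lan.obj F.obj).map k.unop.op (lanMk F g s) = lanMk F (k.unop ≫ g) s from
      LanAb.map_mk (ProEtS.eps X) F.obj k.unop g s, thetaVal_lanMk, res_secMk]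

instance isLocallyInjective_theta : Presheaf.IsLocallyInjective (Scheme.ProEt.topology X) (theta F) := by
  refine Presheaf.isLocallyInjective_of_injective _ _ fun W a b h => ?_
  obtain ⟨V₁, g₁, s, rfl⟩ := lanMk_surjective F (W := W.unop) a
  obtain ⟨V₂, g₂, t, rfl⟩ := lanMk_surjective F (W := W.unop) b
  exact lanMk_eq_of_secMk_eq F g₁ g₂ s t
    ((thetaVal_lanMk F g₁ s).symm.trans ((show thetaVal F (lanMk F g₁ s) = thetaVal F (lanMk F g₂ t) from h).trans
      (thetaVal_lanMk F g₂ t)))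

instance isLocallySurjective_theta : Presheaf.IsLocallySurjective (Scheme.ProEt.topology X) (theta F) :=
  ⟨fun {W} σ => by
    choose V v hv z' W' m hm t hz ht using (show Secs W.hom (forgetSh F) from σ).loc
    haveI : WeaklyEtale W.hom := W.prop
    haveI := hv
    let T : W.left → X.ProEt := fun z => Scheme.ProEt.mk (v z ≫ W.hom)
    let f : ∀ z, T z ⟶ W := fun z => MorphismProperty.Over.homMk (v z) rfl trivial
    refine GrothendieckTopology.superset_covering _ ?_
      (ofArrows_mem_of_isOpenMap T f (fun z => (v z).isOpenMap) fun z => ⟨z, z' z, hz z⟩)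
    rw [Sieve.generate_le_iff]
    rintro _ _ ⟨z⟩
    let g : T z ⟶ (ProEtS.eps X).obj (W' z) := MorphismProperty.Over.homMk (m z) (hm z) trivial
    refine ⟨lanMk F g (t z), (thetaVal_lanMk F g (t z)).trans (Secs.ext' fun Ω _ _ q η h => ?_)⟩
    refine (secMk_val F g (t z) Ω q η h ((Category.assoc _ _ _).trans
      ((congrArg (q ≫ ·) (MorphismProperty.Over.w g)).trans h))).trans ?_
    exact (ht z Ω q η ((Category.assoc _ _ _).trans h)).symm⟩

/-- Sections of `ε⁻¹ F` are relative sections of `F`. -/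
theorem nonempty_epsPull_iso_secP [ProEtS.EpsCont X] :
    Nonempty (secP (forgetSh F) ≅ ((ProEtS.epsPull X).obj F).obj ⋙ forget AddCommGrpCat.{u + 1}) := by
  haveI := flat_eps X
  let adj := Functor.sheafPullbackConstruction.sheafAdjunctionContinuous (ProEtS.eps X)
    AddCommGrpCat.{u + 1} X.smallEtaleTopology (Scheme.ProEt.topology X)
  let P := (ProEtS.eps X).op.lan.obj F.obj
  let η := toSheafify (Scheme.ProEt.topology X) P
  let S := (presheafToSheaf (Scheme.ProEt.topology X) AddCommGrpCat.{u + 1}).obj P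
  obtain ⟨e, -⟩ := nonempty_iso_of_isLocallyBijective (Scheme.ProEt.topology X) (G := secSh (forgetSh F))
    (H := (sheafCompose (Scheme.ProEt.topology X) (forget AddCommGrpCat.{u + 1})).obj S)
    (theta F) (Functor.whiskerRight η (forget AddCommGrpCat.{u + 1}))
    (isLocallyInjective_theta F) (isLocallySurjective_theta F)
    ((Presheaf.isLocallyInjective_forget_iff _ η).2 inferInstance)
    ((Presheaf.isLocallySurjective_iff_whisker_forget _ η).1 inferInstance)
  let i : S ≅ (ProEtS.epsPull X).obj F := (adj.leftAdjointUniq (ProEtS.epsAdj X)).app F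
  exact ⟨e ≪≫ (sheafToPresheaf _ _).mapIso
    ((sheafCompose (Scheme.ProEt.topology X) (forget AddCommGrpCat.{u + 1})).mapIso i)⟩

end GrothLib.ProEtS
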