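import Groth.Agent.Lib.ProEtS.PresPow
import Groth.Agent.Lib.ProEtS.EpsUnit
import Groth.Agent.Lib.ProEtS.Product
import Groth.Agent.Lib.FibPow.Cartan
import Groth.Agent.S7282

/-!
# Čech acyclicity of `ε⁻¹` of injective sheaves on pro-affine-étale objects
-/

set_option autoImplicit false
set_option backward.isDefEq.respectTransparency.types false

universe u

open CategoryTheory CategoryTheory.Limits AlgebraicGeometry Opposite

noncomputable section

namespace GrothLib.ProEtS

variable {X : Scheme.{u}}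

theorem Pres.quasiSeparatedSpace {Y : X.ProEt} (p : Pres Y) : QuasiSeparatedSpace ↥Y.left := by
  obtain ⟨i⟩ := IsCofiltered.nonempty (C := p.I)
  haveI := isAffineHom_π_app p.diag p.cone p.isLimit i
  haveI : IsAffineHom (p.π i).left := this
  haveI : QuasiSeparatedSpace ↥((ProEtS.eps X).obj (p.D.obj i)).left := p.qs i
  exact quasiSeparatedSpace_of_quasiSeparated (p.π i).left

theorem nonempty_pres_of_indEtale {Y : X.ProEt} {V : X.Etale} [IsAffine V.left] (g : Y ⟶ (ProEtS.eps X).obj V)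
    (D : Type u) [CommRing D] [Algebra Γ(V.left, ⊤) D] (h : EtPBC.IsIndEtale Γ(V.left, ⊤) D)
    (e : Y.left ≅ Spec (CommRingCat.of D))
    (he : e.hom ≫ Spec.map (CommRingCat.ofHom (algebraMap Γ(V.left, ⊤) D)) ≫ V.left.isoSpec.inv = g.left) :
    Nonempty (Pres Y) := by
  obtain ⟨J, _, _, Dg, c, hc, het, ⟨ec⟩⟩ := h
  haveI : Etale V.hom := V.prop
  have hE : ∀ j, Etale (Spec.map (Dg.obj j).hom) := fun j => HasRingHomProperty.Spec_iff.2 (het j)
  let obj : Jᵒᵖ → X.Etale := fun j =>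
    haveI := hE j.unop
    MorphismProperty.Over.mk _ (Spec.map (Dg.obj j.unop).hom ≫ V.left.isoSpec.inv ≫ V.hom)
      (inferInstanceAs (Etale (Spec.map (Dg.obj j.unop).hom ≫ V.left.isoSpec.inv ≫ V.hom)))
  let I : Jᵒᵖ ⥤ X.Etale :=
    { obj := obj
      map := fun {j k} u => MorphismProperty.Over.homMk (Spec.map (Dg.map u.unop).right) (by
        show Spec.map (Dg.map u.unop).right ≫ Spec.map (Dg.obj k.unop).hom ≫ _ = Spec.map (Dg.obj j.unop).hom ≫ _
        rw [← Spec.map_comp_assoc]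
        exact congrArg (fun r => Spec.map r ≫ V.left.isoSpec.inv ≫ V.hom) (Under.w (Dg.map u.unop))) trivial
      map_id := fun j => MorphismProperty.Over.Hom.ext (by
        show Spec.map (Dg.map (𝟙 j.unop)).right = _
        rw [Dg.map_id]; exact Spec.map_id _)
      map_comp := fun {j k l} u v => MorphismProperty.Over.Hom.ext (by
        show Spec.map (Dg.map (v.unop ≫ u.unop)).right = _
        rw [Dg.map_comp]; exact Spec.map_comp _ _) }
  haveI : ∀ j, IsAffine (I.obj j).left := fun j => inferInstanceAs (IsAffine (Spec (Dg.obj j.unop).right))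
  haveI : ∀ j, CompactSpace ↥(I.obj j).left := fun j => inferInstance
  haveI : ∀ j, QuasiSeparatedSpace ↥(I.obj j).left := fun j => inferInstance
  haveI : ∀ {j k : Jᵒᵖ} (a : j ⟶ k), IsAffineHom (I.map a).left := fun a => isAffineHom_of_isAffine _
  have hπw : ∀ j : Jᵒᵖ, (e.hom ≫ Spec.map (c.ι.app j.unop ≫ ec.hom).right) ≫ (I.obj j).hom = Y.hom := fun j => by
    show (e.hom ≫ _) ≫ Spec.map (Dg.obj j.unop).hom ≫ V.left.isoSpec.inv ≫ V.hom = _
    rw [Category.assoc, ← Spec.map_comp_assoc]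
    refine (congrArg (fun r => e.hom ≫ Spec.map r ≫ V.left.isoSpec.inv ≫ V.hom)
      (Under.w (c.ι.app j.unop ≫ ec.hom))).trans ?_
    refine Eq.trans ?_ (MorphismProperty.Over.w g)
    exact (congrArg (· ≫ V.hom) he) |> fun h => (by simp only [Category.assoc] at h ⊢; exact h)
  let π : ∀ j : Jᵒᵖ, Y ⟶ (ProEtS.eps X).obj (I.obj j) := fun j =>
    MorphismProperty.Over.homMk (e.hom ≫ Spec.map (c.ι.app j.unop ≫ ec.hom).right) (hπw j) trivial
  have hw : ∀ {j k : Jᵒᵖ} (u : j ⟶ k), π j ≫ (ProEtS.eps X).map (I.map u) = π k := fun {j k} u =>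
    MorphismProperty.Over.Hom.ext (by
      show (e.hom ≫ _) ≫ Spec.map (Dg.map u.unop).right = e.hom ≫ _
      rw [Category.assoc, ← Spec.map_comp]
      refine congrArg (fun r => e.hom ≫ Spec.map r) ?_
      exact congrArg CommaMorphism.right
        ((Category.assoc _ _ _).symm.trans (congrArg (· ≫ ec.hom) (c.w u.unop))))
  let c' := (Under.forget (CommRingCat.of Γ(V.left, ⊤))).mapCocone c
  have hl : IsLimit (Scheme.Spec.mapCone c'.op) :=
    isLimitOfPreserves Scheme.Spec (isColimitOfPreserves (Under.forget _) hc).op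
  let i₀ : Y.left ≅ Spec c.pt.right := e ≪≫ Scheme.Spec.mapIso (((Under.forget _).mapIso ec).op)
  exact ⟨{ I := Jᵒᵖ, D := I, π := π, w := hw, isLimit := IsLimit.ofIsoLimit hl (Cone.ext i₀ fun j => by
    show (π j).left = i₀.hom ≫ Spec.map (c.ι.app j.unop).right
    show e.hom ≫ Spec.map (c.ι.app j.unop ≫ ec.hom).right = (e.hom ≫ Spec.map ec.hom.right) ≫ _
    rw [Category.assoc, ← Spec.map_comp]
    rfl).symm }⟩

theorem exists_refine {Y : X.ProEt} [CompactSpace ↥Y.left] [QuasiSeparatedSpace ↥Y.left] {F G : ProEtS.AbP X} (φ : F ⟶ G) (s : G.obj.obj (op Y))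
    (hs : Presheaf.imageSieve φ.hom s ∈ Scheme.ProEt.topology X Y) :
    ∃ (T : X.ProEt) (f : T ⟶ Y), Nonempty (Pres T) ∧
      Sieve.generate (Presieve.singleton f) ∈ Scheme.ProEt.topology X Y ∧
      ∃ r, φ.hom.app (op T) r = G.obj.map f.op s := by
  haveI : WeaklyEtale Y.hom := Y.prop
  let 𝒰 := X.affineCover
  let O : 𝒰.I₀ → X.Opens := fun i => (𝒰.f i).opensRange
  let oP : ∀ i, Scheme.ProEt.mk ((Y.hom ⁻¹ᵁ O i).ι ≫ Y.hom) ⟶ Y := fun i =>
    MorphismProperty.Over.homMk (Y.hom ⁻¹ᵁ O i).ι rfl trivial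
  let S : Sieve Y := Sieve.generate (Presieve.ofArrows _ oP)
  have hS : S ∈ Scheme.ProEt.topology X Y :=
    ofArrows_mem_of_isOpenMap _ oP (fun i => (Y.hom ⁻¹ᵁ O i).ι.isOpenEmbedding.isOpenMap) fun y => by
      obtain ⟨i, z, hz⟩ := 𝒰.exists_eq (Y.hom y)
      exact ⟨i, ⟨y, ⟨z, hz⟩⟩, rfl⟩
  obtain ⟨N, W, b, hW, hb, hsurj⟩ :=
    exists_affine_refinement ((Scheme.ProEt.topology X).intersection_covering hs hS)
  have hr := fun k => (hb k).1
  have hO : ∀ k, ∃ (i : 𝒰.I₀) (l : (W k).left ⟶ (O i).toScheme), l ≫ (O i).ι = (W k).hom := fun k => by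
    obtain ⟨Z, a, o, ho, e⟩ := (hb k).2
    cases ho with
    | mk i => ?_
    refine ⟨i, a.left ≫ (Y.hom ∣_ O i), ?_⟩
    exact (Category.assoc _ _ _).trans ((congrArg (a.left ≫ ·) (morphismRestrict_ι Y.hom (O i))).trans (MorphismProperty.Over.w a))
  choose io lo hlo using hO
  haveI := hW
  choose r hr using hr
  haveI : WeaklyEtale (Sigma.desc fun k => (b k).left) :=
    IsZariskiLocalAtSource.sigmaDesc fun k => weaklyEtale_left (b k)
  let A : Scheme.{u} := ∐ fun k => (W k).left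
  haveI : IsAffine A := inferInstanceAs (IsAffine (∐ fun k => (W k).left))
  let AP : X.ProEt := Scheme.ProEt.mk ((Sigma.desc fun k => (b k).left) ≫ Y.hom)
  let aP : AP ⟶ Y := MorphismProperty.Over.homMk (Sigma.desc fun k => (b k).left) rfl trivial
  let j : ∀ k, W k ⟶ AP := fun k => MorphismProperty.Over.homMk (Sigma.ι (fun k => (W k).left) k) (by
    show Sigma.ι (fun k => (W k).left) k ≫ (Sigma.desc fun k => (b k).left) ≫ Y.hom = _
    rw [Sigma.ι_desc_assoc, MorphismProperty.Over.w]) trivial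
  haveI : ∀ k, IsOpenImmersion (j k).left := fun k => inferInstanceAs (IsOpenImmersion (Sigma.ι (fun k => (W k).left) k))
  have hdisj : ∀ k l, k ≠ l → Disjoint (Set.range (j k).left) (Set.range (j l).left) := fun k l hkl =>
    Set.disjoint_left.2 fun z hz hz' => (disjoint_opensRange_sigmaι (fun k => (W k).left) k l hkl).le_bot ⟨hz, hz'⟩
  have hjs : ∀ z : AP.left, ∃ k y, (j k).left y = z := fun z => (sigmaOpenCover (fun k => (W k).left)).exists_eq z
  have hjb : ∀ k, j k ≫ aP = b k := fun k => MorphismProperty.Over.Hom.ext (Sigma.ι_desc _ _)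
  let FT := (sheafCompose (Scheme.ProEt.topology X) (forget AddCommGrpCat.{u + 1})).obj F
  let GT := (sheafCompose (Scheme.ProEt.topology X) (forget AddCommGrpCat.{u + 1})).obj G
  obtain ⟨r₀, hr₀⟩ := (bijective_pi_sheaf FT W j hdisj hjs).2 r
  change F.obj.obj (op AP) at r₀
  have hr₀' : φ.hom.app (op AP) r₀ = G.obj.map aP.op s := by
    refine (bijective_pi_sheaf GT W j hdisj hjs).1 (funext fun k => ?_)
    show G.obj.map (j k).op (φ.hom.app (op AP) r₀) = G.obj.map (j k).op (G.obj.map aP.op s)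
    rw [← Functor.map_comp_apply, ← op_comp, hjb, ← hr k]
    refine (ConcreteCategory.congr_hom (φ.hom.naturality (j k).op) r₀).symm.trans ?_
    exact congrArg (φ.hom.app (op (W k))) (congrFun hr₀ k)
  haveI : ∀ k, IsAffine (O (io k)).toScheme := fun k => isAffineOpen_opensRange (𝒰.f (io k))
  let vh : (∐ fun k => (O (io k)).toScheme) ⟶ X := Sigma.desc fun k => (O (io k)).ι
  haveI : Etale vh := IsZariskiLocalAtSource.sigmaDesc fun k => (inferInstance : Etale (O (io k)).ι)
  let V : X.Etale := MorphismProperty.Over.mk _ vh ‹Etale vh›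
  haveI : IsAffine V.left := inferInstanceAs (IsAffine (∐ fun k => (O (io k)).toScheme))
  let g0 : A ⟶ ∐ fun k => (O (io k)).toScheme :=
    Sigma.desc fun k => lo k ≫ Sigma.ι (fun k => (O (io k)).toScheme) k
  have hg0 : g0 ≫ vh = (Sigma.desc fun k => (b k).left) ≫ Y.hom := by
    apply Sigma.hom_ext
    intro k
    simp only [g0, vh, Sigma.ι_desc_assoc, Category.assoc, Sigma.ι_desc, hlo]
    exact (MorphismProperty.Over.w (b k)).symm
  let g : AP ⟶ (ProEtS.eps X).obj V := MorphismProperty.Over.homMk g0 hg0 trivial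
  haveI : IsAffine AP.left := inferInstanceAs (IsAffine A)
  haveI : IsAffine ((ProEtS.eps X).obj V).left := inferInstanceAs (IsAffine V.left)
  haveI := weaklyEtale_left g
  let gl : AP.left ⟶ V.left := g.left
  haveI : WeaklyEtale gl := weaklyEtale_left g
  letI : Algebra Γ(V.left, ⊤) Γ(AP.left, ⊤) := gl.appTop.hom.toAlgebra
  haveI : WeaklyEtale (Spec.map gl.appTop) :=
    (MorphismProperty.arrow_mk_iso_iff @WeaklyEtale (arrowIsoSpecΓOfIsAffine gl)).1 inferInstance
  haveI : Algebra.WeaklyEtale Γ(V.left, ⊤) Γ(AP.left, ⊤) := (WeakEtale.weaklyEtale_specMap_iff gl.appTop).1 ‹_›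
  obtain ⟨D, _, _, _, _, hff, hD, hVD⟩ := IndEt.exists_indEtale_cover Γ(V.left, ⊤) Γ(AP.left, ⊤)
  haveI := IndEt.weaklyEtale hD
  haveI : WeaklyEtale (Spec.map (CommRingCat.ofHom (algebraMap Γ(AP.left, ⊤) D))) :=
    (WeakEtale.weaklyEtale_specMap_iff (CommRingCat.ofHom (algebraMap Γ(AP.left, ⊤) D))).2
      (by
        have h : Algebra.WeaklyEtale Γ(AP.left, ⊤) D := inferInstance
        have e : (algebraMap Γ(AP.left, ⊤) D).toAlgebra = (inferInstance : Algebra Γ(AP.left, ⊤) D) :=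
          Algebra.algebra_ext _ _ fun _ => rfl
        show @Algebra.WeaklyEtale Γ(AP.left, ⊤) D _ _ (algebraMap Γ(AP.left, ⊤) D).toAlgebra
        rw [e]
        exact h)
  let q : Spec (CommRingCat.of D) ⟶ AP.left :=
    Spec.map (CommRingCat.ofHom (algebraMap Γ(AP.left, ⊤) D)) ≫ AP.left.isoSpec.inv
  haveI : WeaklyEtale q :=
    inferInstanceAs (WeaklyEtale (Spec.map (CommRingCat.ofHom (algebraMap Γ(AP.left, ⊤) D)) ≫ AP.left.isoSpec.inv))
  haveI : WeaklyEtale AP.hom := AP.prop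
  let T : X.ProEt := Scheme.ProEt.mk (q ≫ AP.hom)
  let t : T ⟶ AP := MorphismProperty.Over.homMk q rfl trivial
  haveI : IsAffine T.left := inferInstanceAs (IsAffine (Spec (CommRingCat.of D)))
  haveI : Surjective (t ≫ aP).left := ⟨fun y => by
    obtain ⟨k, w, hw⟩ := hsurj y
    let a : AP.left := (j k).left w
    haveI := hff
    obtain ⟨p, hp⟩ := PrimeSpectrum.comap_surjective_of_faithfullyFlat (A := Γ(AP.left, ⊤)) (B := D)
      (AP.left.isoSpec.hom a)
    refine ⟨p, ?_⟩
    show aP.left (AP.left.isoSpec.inv (Spec.map (CommRingCat.ofHom (algebraMap Γ(AP.left, ⊤) D)) p)) = y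
    have : Spec.map (CommRingCat.ofHom (algebraMap Γ(AP.left, ⊤) D)) p = AP.left.isoSpec.hom a := hp
    rw [this]
    have e : AP.left.isoSpec.inv (AP.left.isoSpec.hom a) = a := congr($(AP.left.isoSpec.hom_inv_id).base a)
    rw [e]
    exact (congr($(hjb k).left.base w)).trans hw⟩
  haveI : QuasiCompact (t ≫ aP).left := inferInstance
  refine ⟨T, t ≫ aP, nonempty_pres_of_indEtale (t ≫ g) D hVD (Iso.refl _) ?_, generate_singleton_mem _,
    F.obj.map t.op r₀, ?_⟩
  · show 𝟙 _ ≫ _ = q ≫ gl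
    rw [Category.id_comp]
    simp only [q, Category.assoc]
    rw [← Scheme.isoSpec_inv_naturality gl, ← Spec.map_comp_assoc]
    refine congrArg (fun r => Spec.map r ≫ V.left.isoSpec.inv) ?_
    exact CommRingCat.hom_ext (IsScalarTower.algebraMap_eq Γ(V.left, ⊤) Γ(AP.left, ⊤) D)
  · rw [op_comp, Functor.map_comp_apply, ← hr₀']
    exact ConcreteCategory.congr_hom (φ.hom.naturality t.op) r₀

theorem nonempty_fibPow {T Y : X.ProEt} (f : T ⟶ Y) : Nonempty (FibPow f) := ⟨FibPow.ofPullbacks f⟩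

/-- Limits of qcqs étale schemes with their covers. -/
def presClass (X : Scheme.{u}) : FibPow.CoverClass.{u + 1} (Scheme.ProEt.topology X) where
  B Y := Nonempty (Pres Y)
  Cov T Y _ := Nonempty (Pres T) ∧ Nonempty (Pres Y)
  mem _ _ f E := fun ⟨⟨pT⟩, ⟨pY⟩⟩ n => ⟨Model.powPres E pT pY n⟩
  refine' Y hY F G φ s hs := by
    obtain ⟨pY⟩ := hY
    haveI := pY.compactSpace
    haveI := pY.quasiSeparatedSpace
    obtain ⟨T, f, hT, hcov, hr⟩ := exists_refine φ s hs
    exact ⟨T, f, FibPow.ofPullbacks f, ⟨hT, ⟨pY⟩⟩, hcov, hr⟩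

section

variable [ProEtS.EpsCont X] (F : EtCoh.Ab X)

/-- The unit at an étale object. -/
abbrev unitSect (V : X.Etale) : F.obj.obj (op V) ⟶ ((ProEtS.epsPull X).obj F).obj.obj (op ((ProEtS.eps X).obj V)) :=
  ((ProEtS.epsAdj X).unit.app F).hom.app (op V)

theorem unitSect_bijective (V : X.Etale) : Function.Bijective (unitSect F V) := by
  haveI := isIso_epsAdj_unit F
  haveI : IsIso ((ProEtS.epsAdj X).unit.app F).hom :=
    inferInstanceAs (IsIso ((sheafToPresheaf X.smallEtaleTopology _).map ((ProEtS.epsAdj X).unit.app F)))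
  exact ConcreteCategory.bijective_of_isIso (((ProEtS.epsAdj X).unit.app F).hom.app (op V))

theorem unitSect_map {V V' : X.Etale} (a : V' ⟶ V) (t : F.obj.obj (op V)) :
    unitSect F V' (F.obj.map a.op t) =
      ((ProEtS.epsPull X).obj F).obj.map ((ProEtS.eps X).map a).op (unitSect F V t) :=
  ConcreteCategory.congr_hom (((ProEtS.epsAdj X).unit.app F).hom.naturality a.op) t

variable {Y : X.ProEt} (p : Pres Y)

/-- The presentation as a cone in the pro-étale site. -/
abbrev Pres.proCone : Cone (p.D ⋙ ProEtS.eps X) :=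
  { pt := Y
    π := { app := p.π, naturality := fun _ _ a => (Category.id_comp _).trans (p.w a).symm } }

theorem Pres.nonempty_isColimit : Nonempty (IsColimit (((ProEtS.epsPull X).obj F).obj.mapCocone p.proCone.op)) := by
  haveI : ∀ (i j : p.I) (a : i ⟶ j), IsAffineHom ((p.D ⋙ ProEtS.eps X).map a).left := fun i j a =>
    inferInstanceAs (IsAffineHom (p.diag.map a))
  haveI : ∀ i, CompactSpace ↥((p.D ⋙ ProEtS.eps X).obj i).left := fun i =>
    inferInstanceAs (CompactSpace ↥(p.diag.obj i))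
  haveI : ∀ i, QuasiSeparatedSpace ↥((p.D ⋙ ProEtS.eps X).obj i).left := fun i =>
    inferInstanceAs (QuasiSeparatedSpace ↥(p.diag.obj i))
  exact Groth.Agent.S7282.result X (p.D ⋙ ProEtS.eps X) p.proCone p.isLimit F

theorem Pres.exists_sect (x : ((ProEtS.epsPull X).obj F).obj.obj (op Y)) :
    ∃ (i : p.I) (t : F.obj.obj (op (p.D.obj i))),
      ((ProEtS.epsPull X).obj F).obj.map (p.π i).op (unitSect F _ t) = x := by
  obtain ⟨hc⟩ := p.nonempty_isColimit F
  obtain ⟨i, y, hy⟩ := Concrete.isColimit_exists_rep _ hc x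
  obtain ⟨t, rfl⟩ := (unitSect_bijective F (p.D.obj i.unop)).2 y
  exact ⟨i.unop, t, hy⟩

theorem Pres.exists_zero {i : p.I} (t : F.obj.obj (op (p.D.obj i)))
    (h : ((ProEtS.epsPull X).obj F).obj.map (p.π i).op (unitSect F _ t) = 0) :
    ∃ (j : p.I) (a : j ⟶ i), F.obj.map (p.D.map a).op t = 0 := by
  obtain ⟨hc⟩ := p.nonempty_isColimit F
  obtain ⟨j, a, b, e⟩ := Concrete.isColimit_exists_of_rep_eq _ hc (i := op i) (j := op i) (unitSect F _ t) 0
    (h.trans (map_zero _).symm)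
  refine ⟨j.unop, a.unop, (unitSect_bijective F _).1 ?_⟩
  rw [unitSect_map, map_zero]
  exact e.trans (map_zero _)

theorem d_proj {T : X.ProEt} {f : T ⟶ Y} {pT : Pres T} (E : FibPow f) (k : Model f pT p) (n : ℕ)
    (t : F.obj.obj (op (k.pow.P n))) :
    E.d ((ProEtS.epsPull X).obj F).obj n
        (((ProEtS.epsPull X).obj F).obj.map (k.proj E n).op (unitSect F _ t)) =
      ((ProEtS.epsPull X).obj F).obj.map (k.proj E (n + 1)).op (unitSect F _ (k.pow.d F.obj n t)) := by
  have h : ∀ a : Fin (n + 2), E.δ n a ≫ k.proj E n = k.proj E (n + 1) ≫ (ProEtS.eps X).map (k.pow.δ n a) :=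
    fun a => (k.isPow_eps n).hom_ext _ _ fun i => by
      rw [Category.assoc, k.proj_π, FibPow.δ_π_assoc, Category.assoc, ← Functor.map_comp, FibPow.δ_π, k.proj_π]
  rw [FibPow.d_apply, FibPow.d_apply, map_sum, map_sum]
  refine Finset.sum_congr rfl fun a _ => ?_
  rw [map_zsmul, map_zsmul, unitSect_map, ← Functor.map_comp_apply, ← Functor.map_comp_apply, ← op_comp, ← op_comp, h]

end

theorem acyclic_epsPull [ProEtS.EpsCont X] (I : EtCoh.Ab X) [Injective I] :
    (presClass X).Acyclic ((ProEtS.epsPull X).obj I) := fun T Y f E hf n c hc => by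
  obtain ⟨⟨pT⟩, ⟨pY⟩⟩ := hf
  obtain ⟨k, t, rfl⟩ := (Model.powPres E pT pY (n + 1)).exists_sect I c
  obtain ⟨k', a, ha⟩ := (Model.powPres E pT pY (n + 2)).exists_zero I (i := k) (k.pow.d I.obj (n + 1) t)
    ((d_proj I pY E k (n + 1) t).symm.trans hc)
  let m : ∀ l, k'.pow.P l ⟶ k.pow.P l := fun l => (Model.powDiag f pT pY l).map a
  have hm := k'.pow.d_map I.obj k.pow (pT.D.map a.a) m fun l i => Model.powDiag_map_π a l i
  haveI : Injective ((sheafToPresheaf X.smallEtaleTopology AddCommGrpCat.{u + 1}).obj I) :=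
    Injective.injective_of_adjoint (sheafificationAdjunction X.smallEtaleTopology AddCommGrpCat.{u + 1}) I
  obtain ⟨b, hb⟩ := FibPow.vanishes_of_injective.{u + 1} k'.pow
    ((sheafToPresheaf X.smallEtaleTopology AddCommGrpCat.{u + 1}).obj I) n (I.obj.map (m (n + 1)).op t)
    ((hm (n + 1) t).symm.trans ha)
  refine ⟨((ProEtS.epsPull X).obj I).obj.map (k'.proj E n).op (unitSect I _ b), ?_⟩
  rw [d_proj]
  refine (congrArg (fun z => ((ProEtS.epsPull X).obj I).obj.map (k'.proj E (n + 1)).op (unitSect I _ z)) hb).trans ?_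
  rw [unitSect_map, ← Functor.map_comp_apply, ← op_comp]
  exact congrArg (fun q => ((ProEtS.epsPull X).obj I).obj.map q.op (unitSect I _ t)) (Model.proj_map E a (n + 1))

end GrothLib.ProEtS
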