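import Groth.Agent.Lib.ProEtS.EpsAcyclic
import Groth.Agent.Lib.DerCat.DimShiftRD
import Groth.Agent.Lib.RDerLES.LES
import Mathlib.CategoryTheory.Sites.LeftExact
import Mathlib.CategoryTheory.Sites.Pullback

/-!
# Vanishing of `R^q ε_* ε⁻¹`
-/

set_option autoImplicit false
set_option backward.isDefEq.respectTransparency.types false

universe u

open CategoryTheory CategoryTheory.Limits AlgebraicGeometry Opposite

noncomputable section

namespace GrothLib.ProEtS

set_option backward.defeqAttrib.useBackward true in
set_option backward.isDefEq.respectTransparency false in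
/-- Evaluation of a left Kan extension as a colimit, in any universe. -/
def lanEvalIso {C D E : Type*} [Category* C] [Category* D] [Category* E] (F : C ⥤ D)
    [∀ X : D, HasColimitsOfShape (CostructuredArrow F X) E] (X : D) :
    F.lan ⋙ (evaluation D E).obj X ≅
      (Functor.whiskeringLeft _ _ E).obj (CostructuredArrow.proj F X) ⋙ colim :=
  NatIso.ofComponents (fun G =>
    IsColimit.coconePointUniqueUpToIso
    (Functor.isPointwiseLeftKanExtensionLeftKanExtensionUnit F G X)
    (colimit.isColimit _)) (fun {G₁ G₂} φ => by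
      apply (Functor.isPointwiseLeftKanExtensionLeftKanExtensionUnit F G₁ X).hom_ext
      intro T
      have h₁ := fun (G : C ⥤ E) => IsColimit.comp_coconePointUniqueUpToIso_hom
        (Functor.isPointwiseLeftKanExtensionLeftKanExtensionUnit F G X) (colimit.isColimit _) T
      have h₂ := congr_app (F.lanUnit.naturality φ) T.left
      dsimp at h₁ h₂ ⊢
      simp only [Category.assoc] at h₁ ⊢
      simp only [Functor.lan, Functor.lanUnit] at h₂ ⊢
      rw [reassoc_of% h₁, NatTrans.naturality_assoc, ← reassoc_of% h₂, h₁,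
        ι_colimMap, Functor.whiskerLeft_app]
      rfl)

theorem preservesFiniteLimits_lan (X : Scheme.{u}) :
    PreservesFiniteLimits ((ProEtS.eps X).op.lan : (X.Etaleᵒᵖ ⥤ AddCommGrpCat.{u + 1}) ⥤ _) := by
  refine ⟨fun J _ _ => preservesLimitsOfShape_of_evaluation _ J fun K => ?_⟩
  haveI := flat_eps X
  have : IsFiltered (CostructuredArrow (ProEtS.eps X).op K) :=
    IsFiltered.of_equivalence (structuredArrowOpEquivalence (ProEtS.eps X) (unop K))
  haveI : AB5OfSize.{u, u + 1} AddCommGrpCat.{u + 1} := by
    have : AB5OfSize.{u + 1, u + 1} AddCommGrpCat.{u + 1} := inferInstanceAs (AB5 AddCommGrpCat.{u + 1})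
    exact AB5OfSize_of_univLE.{u, u + 1, u + 1, u + 1} AddCommGrpCat.{u + 1}
  have : PreservesFiniteLimits (colim (J := CostructuredArrow (ProEtS.eps X).op K) (C := AddCommGrpCat.{u + 1})) :=
    HasExactColimitsOfShape.preservesFiniteLimits
  exact preservesLimitsOfShape_of_natIso (lanEvalIso (ProEtS.eps X).op K).symm

variable {X : Scheme.{u}}

/-- The constant presentation of an affine étale scheme. -/
theorem nonempty_pres_eps (V : X.Etale) [CompactSpace ↥V.left] [QuasiSeparatedSpace ↥V.left] :
    Nonempty (Pres ((ProEtS.eps X).obj V)) :=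
  haveI : ∀ i, CompactSpace ↥(((Functor.const (Discrete PUnit.{u + 1})).obj V).obj i).left :=
    fun _ => ‹CompactSpace ↥V.left›
  haveI : ∀ i, QuasiSeparatedSpace ↥(((Functor.const (Discrete PUnit.{u + 1})).obj V).obj i).left :=
    fun _ => ‹QuasiSeparatedSpace ↥V.left›
  haveI : ∀ {i j : Discrete PUnit.{u + 1}} (a : i ⟶ j),
      IsAffineHom (((Functor.const (Discrete PUnit.{u + 1})).obj V).map a).left :=
    fun _ => (inferInstance : IsAffineHom (𝟙 V.left))
  ⟨{ I := Discrete PUnit.{u + 1}
     D := (Functor.const _).obj V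
     π := fun _ => 𝟙 _
     w := fun a => (congrArg (𝟙 _ ≫ ·) ((ProEtS.eps X).map_id V)).trans (Category.comp_id _)
     isLimit :=
      { lift := fun s => s.π.app ⟨PUnit.unit⟩
        fac := fun s i => by obtain ⟨⟨⟩⟩ := i; exact Category.comp_id _
        uniq := fun s m h => (Category.comp_id m).symm.trans (h ⟨PUnit.unit⟩) } }⟩

theorem exists_affine_nbhd (U : X.Etale) (x : U.left) :
    ∃ (V : X.Etale) (g : V ⟶ U) (v : V.left), IsAffine V.left ∧ Etale g.left ∧ g.left v = x := by
  obtain ⟨_, ⟨O, hO, rfl⟩, hx, -⟩ :=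
    U.left.isBasis_affineOpens.exists_subset_of_mem_open (Set.mem_univ x) isOpen_univ
  haveI : Etale U.hom := U.prop
  let V : X.Etale := MorphismProperty.Over.mk _ (Scheme.Opens.ι O ≫ U.hom)
    (inferInstanceAs (Etale (Scheme.Opens.ι O ≫ U.hom)))
  exact ⟨V, MorphismProperty.Over.homMk (Scheme.Opens.ι O) rfl trivial, ⟨x, hx⟩, hO,
    inferInstanceAs (Etale (Scheme.Opens.ι O)), rfl⟩

variable [ProEtS.EpsCont X]

theorem epi_epsPush_map {S : ShortComplex (ProEtS.AbP X)} (hS : S.ShortExact)
    (h₁ : (presClass X).Acyclic S.X₁) : Epi ((ProEtS.epsPush X).map S.g) := by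
  refine (Sheaf.isLocallySurjective_iff_epi' _ _).1 ⟨fun {U} s => ?_⟩
  refine mem_smallEtale_of_forall _ fun x => ?_
  obtain ⟨V, g, v, hV, hg, hv⟩ := exists_affine_nbhd U x
  obtain ⟨r, hr⟩ := (presClass X).surjective hS h₁ (nonempty_pres_eps V) (S.X₃.obj.map ((ProEtS.eps X).map g).op s)
  exact ⟨V, g, v, ⟨r, hr⟩, hg, hv⟩

theorem isZero_RepsPush_of_acyclic (q : ℕ) : ∀ G : ProEtS.AbP X, (presClass X).Acyclic G →
    IsZero ((ProEtS.RepsPush X (q + 1)).obj G) := by
  induction q with
  | zero =>
    intro G hG
    have hS := ShortComplex.ShortExact.mk' (S := ShortComplex.mk (Injective.ι G) (cokernel.π _) (cokernel.condition _))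
      (ShortComplex.exact_of_g_is_cokernel _ (cokernelIsCokernel _)) inferInstance inferInstance
    haveI : Injective (ShortComplex.mk (Injective.ι G) (cokernel.π _) (cokernel.condition _)).X₂ :=
      inferInstanceAs (Injective (Injective.under G))
    haveI := epi_epsPush_map hS hG
    exact IsZero.of_iso (isZero_cokernel_of_epi _) (HomGamma.shiftIsoOne hS (ProEtS.epsPush X))
  | succ q ih =>
    intro G hG
    have hS := ShortComplex.ShortExact.mk' (S := ShortComplex.mk (Injective.ι G) (cokernel.π _) (cokernel.condition _))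
      (ShortComplex.exact_of_g_is_cokernel _ (cokernelIsCokernel _)) inferInstance inferInstance
    haveI : Injective (ShortComplex.mk (Injective.ι G) (cokernel.π _) (cokernel.condition _)).X₂ :=
      inferInstanceAs (Injective (Injective.under G))
    exact IsZero.of_iso (ih _ ((presClass X).acyclic_X₃ hS hG ((presClass X).acyclic_of_injective _)))
      (HomGamma.shiftIso hS (ProEtS.epsPush X) q)

theorem preservesFiniteLimits_epsPull (X : Scheme.{u}) [ProEtS.EpsCont X] :
    PreservesFiniteLimits (ProEtS.epsPull X) := by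
  haveI := flat_eps X
  haveI := preservesFiniteLimits_lan X
  exact Functor.sheafPullbackConstruction.preservesFiniteLimits _ _ _ _

instance additive_epsPull (X : Scheme.{u}) [ProEtS.EpsCont X] : (ProEtS.epsPull X).Additive :=
  (ProEtS.epsAdj X).left_adjoint_additive

theorem shortExact_map_epsPull {S : ShortComplex (EtCoh.Ab X)} (hS : S.ShortExact) :
    (S.map (ProEtS.epsPull X)).ShortExact := by
  haveI := preservesFiniteLimits_epsPull X
  haveI : PreservesFiniteColimits (ProEtS.epsPull X) :=
    haveI := (ProEtS.epsAdj X).leftAdjoint_preservesColimits.{0, 0}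
    inferInstance
  exact hS.map_of_exact _

theorem isZero_RepsPush_epsPull (q : ℕ) : ∀ F : EtCoh.Ab X,
    IsZero ((ProEtS.RepsPush X (q + 1)).obj ((ProEtS.epsPull X).obj F)) := by
  induction q with
  | zero =>
    intro F
    have hS := ShortComplex.ShortExact.mk' (S := ShortComplex.mk (Injective.ι F) (cokernel.π _) (cokernel.condition _))
      (ShortComplex.exact_of_g_is_cokernel _ (cokernelIsCokernel _)) inferInstance inferInstance
    obtain ⟨T⟩ := RDerLES.nonempty_sesRes (shortExact_map_epsPull hS)
    haveI := fun G => isIso_epsAdj_unit (X := X) G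
    have he : Epi ((ProEtS.epsPush X).map ((ProEtS.epsPull X).map (cokernel.π (Injective.ι F)))) := by
      have h := (ProEtS.epsAdj X).unit.naturality (cokernel.π (Injective.ι F))
      haveI : Epi ((ProEtS.epsAdj X).unit.app (Injective.under F) ≫
          (ProEtS.epsPush X).map ((ProEtS.epsPull X).map (cokernel.π (Injective.ι F)))) := by
        refine (congrArg (fun z => Epi z) h).mp ?_
        exact epi_comp _ _
      exact epi_of_epi ((ProEtS.epsAdj X).unit.app (Injective.under F)) _
    haveI : Epi (((ProEtS.epsPush X).rightDerived 0).map ((ProEtS.epsPull X).map (cokernel.π (Injective.ι F)))) :=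
      (by
        rw [← NatIso.naturality_2 (ProEtS.epsPush X).rightDerivedZeroIsoSelf
          ((ProEtS.epsPull X).map (cokernel.π (Injective.ι F)))]
        infer_instance)
    have hd : T.delta (ProEtS.epsPush X) 0 1 rfl = 0 :=
      (cancel_epi (((ProEtS.epsPush X).rightDerived 0).map ((ProEtS.epsPull X).map (cokernel.π (Injective.ι F))))).1
        ((RDerLES.comp_delta (ProEtS.epsPush X) T 0 1 rfl).trans comp_zero.symm)
    exact (RDerLES.exact₁ (ProEtS.epsPush X) T 0 1 rfl).isZero_of_both_zeros hd
      ((isZero_RepsPush_of_acyclic 0 _ (acyclic_epsPull (Injective.under F))).eq_of_tgt _ _)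
  | succ q ih =>
    intro F
    have hS := ShortComplex.ShortExact.mk' (S := ShortComplex.mk (Injective.ι F) (cokernel.π _) (cokernel.condition _))
      (ShortComplex.exact_of_g_is_cokernel _ (cokernelIsCokernel _)) inferInstance inferInstance
    obtain ⟨T⟩ := RDerLES.nonempty_sesRes (shortExact_map_epsPull hS)
    exact (RDerLES.exact₁ (ProEtS.epsPush X) T (q + 1) (q + 2) rfl).isZero_of_both_zeros
      ((ih _).eq_of_src _ _)
      ((isZero_RepsPush_of_acyclic (q + 1) _ (acyclic_epsPull (Injective.under F))).eq_of_tgt _ _)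

end GrothLib.ProEtS
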