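import Groth.Agent.Lib.ProEtS.TrivP
import Mathlib.Algebra.Category.ModuleCat.FilteredColimits

/-!
# The inverse image `ε⁻¹` of sheaves of modules, elementwise

Sections of `ε⁻¹ F` are locally pullbacks of sections of `F`; trivialisations pass from the étale site to
the pro-étale site and back.
-/

set_option autoImplicit false
set_option linter.style.haveILetI false
set_option backward.isDefEq.respectTransparency.types false

universe u

open CategoryTheory CategoryTheory.Limits AlgebraicGeometry Opposite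

noncomputable section

namespace GrothLib.ProEtS

open TrivMod

variable {X : Scheme.{u}} {Λ : Type (u + 1)} [CommRing Λ]

theorem bot_mem_et_iff {V : X.Etale} :
    (⊥ : Sieve V) ∈ X.smallEtaleTopology V ↔ IsEmpty V.left := by
  constructor
  · intro h
    have := (coverPreserving_eps X).cover_preserve h
    rw [Sieve.functorPushforward_bot] at this
    exact bot_mem_iff.1 this
  · intro h
    exact mem_smallEtale_of_forall _ fun x => h.elim x

/-- The projections of a fibre product over `X` inside the étale site. -/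
theorem exists_prod_et {W : X.ProEt} {V V' : X.Etale} (g : W ⟶ (ProEtS.eps X).obj V)
    (g' : W ⟶ (ProEtS.eps X).obj V') :
    ∃ (P : X.Etale) (c : P ⟶ V) (c' : P ⟶ V') (h : W ⟶ (ProEtS.eps X).obj P),
      h ≫ (ProEtS.eps X).map c = g ∧ h ≫ (ProEtS.eps X).map c' = g' := by
  haveI : Etale V.hom := V.prop
  haveI : Etale V'.hom := V'.prop
  let P : X.Etale := MorphismProperty.Over.mk _ (pullback.fst V.hom V'.hom ≫ V.hom)
    (inferInstanceAs (Etale (pullback.fst V.hom V'.hom ≫ V.hom)))
  have hw : g.left ≫ V.hom = g'.left ≫ V'.hom :=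
    (show g.left ≫ V.hom = W.hom from MorphismProperty.Over.w g).trans
      (show g'.left ≫ V'.hom = W.hom from MorphismProperty.Over.w g').symm
  let h : W ⟶ (ProEtS.eps X).obj P := MorphismProperty.Over.homMk (pullback.lift g.left g'.left hw) (by
    show pullback.lift g.left g'.left hw ≫ pullback.fst V.hom V'.hom ≫ V.hom = W.hom
    exact (pullback.lift_fst_assoc _ _ _ _).trans (MorphismProperty.Over.w g)) trivial
  exact ⟨P, MorphismProperty.Over.homMk (pullback.fst _ _) rfl trivial,
    MorphismProperty.Over.homMk (pullback.snd _ _) pullback.condition.symm trivial, h,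
    MorphismProperty.Over.Hom.ext (pullback.lift_fst _ _ _), MorphismProperty.Over.Hom.ext (pullback.lift_snd _ _ _)⟩

theorem coversP_eps {ι : Type u} (U : ι → X.Etale) (hU : EtCoh.Covers U) :
    EtModW.CoversP fun i => (ProEtS.eps X).obj (U i) :=
  ofArrows_mem_of_isOpenMap (U := ProEtS.topP X) (fun i => (ProEtS.eps X).obj (U i))
    (fun i => MorphismProperty.Over.homMk ((ProEtS.eps X).obj (U i)).hom)
    (fun i => by
      haveI : Etale (U i).hom := (U i).prop
      exact (U i).hom.isOpenMap) hU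

variable [ProEtS.EpsCont X] (F : EtModW.Mod Λ X)

/-- The adjunction `ε⁻¹ ⊣ ε_*` for sheaves of modules. -/
abbrev epsAdjMod (Λ : Type (u + 1)) [CommRing Λ] (X : Scheme.{u}) [ProEtS.EpsCont X] :
    EtModW.epsPullMod Λ X ⊣ (ProEtS.eps X).sheafPushforwardContinuous (ModuleCat.{u + 1} Λ)
      X.smallEtaleTopology (Scheme.ProEt.topology X) :=
  (ProEtS.eps X).sheafAdjunctionContinuous _ _ _

/-- The unit, as a linear map on sections. -/
abbrev eta (V : X.Etale) :
    F.obj.obj (op V) →ₗ[Λ] ((EtModW.epsPullMod Λ X).obj F).obj.obj (op ((ProEtS.eps X).obj V)) :=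
  (((epsAdjMod Λ X).unit.app F).hom.app (op V)).hom

theorem res_eta {V V' : X.Etale} (c : V' ⟶ V) (s : F.obj.obj (op V)) :
    res _ ((EtModW.epsPullMod Λ X).obj F) ((ProEtS.eps X).map c) (eta F V s) =
      eta F V' (res _ F c s) :=
  (ConcreteCategory.congr_hom (((epsAdjMod Λ X).unit.app F).hom.naturality c.op) s).symm

/-- Elements of the left Kan extension. -/
abbrev lanMkMod {W : X.ProEt} {V : X.Etale} (g : W ⟶ (ProEtS.eps X).obj V) :
    F.obj.obj (op V) ⟶ ((ProEtS.eps X).op.lan.obj F.obj).obj (op W) :=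
  ((ProEtS.eps X).op.lanUnit.app F.obj).app (op V) ≫ ((ProEtS.eps X).op.lan.obj F.obj).map g.op

omit [ProEtS.EpsCont X] in
theorem preservesColimits_costructuredArrow_mod (Z : X.ProEtᵒᵖ) :
    PreservesColimitsOfShape (CostructuredArrow (ProEtS.eps X).op Z) (forget (ModuleCat.{u + 1} Λ)) := by
  haveI := flat_eps X
  haveI : RepresentablyCoflat (ProEtS.eps X).op := (representablyCoflat_op_iff _).2 ‹_›
  let e := (AsSmall.equiv : CostructuredArrow (ProEtS.eps X).op Z ≌
    AsSmall.{u + 1} (CostructuredArrow (ProEtS.eps X).op Z))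
  haveI : IsFiltered (AsSmall.{u + 1} (CostructuredArrow (ProEtS.eps X).op Z)) := IsFiltered.of_equivalence e
  exact preservesColimitsOfShape_of_equiv e.symm _

/-- The comparison of `lan F` with `ε⁻¹ F`. -/
theorem exists_theta :
    ∃ (θ : (ProEtS.eps X).op.lan.obj F.obj ⟶ ((EtModW.epsPullMod Λ X).obj F).obj),
      Presheaf.IsLocallyInjective (Scheme.ProEt.topology X) θ ∧
      Presheaf.IsLocallySurjective (Scheme.ProEt.topology X) θ ∧
      ∀ {W : X.ProEt} {V : X.Etale} (g : W ⟶ (ProEtS.eps X).obj V) (s : F.obj.obj (op V)),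
        θ.app (op W) (lanMkMod F g s) = res _ ((EtModW.epsPullMod Λ X).obj F) g (eta F V s) := by
  let adj := Functor.sheafPullbackConstruction.sheafAdjunctionContinuous (ProEtS.eps X)
    (ModuleCat.{u + 1} Λ) X.smallEtaleTopology (Scheme.ProEt.topology X)
  let e : (EtModW.epsPullMod Λ X).obj F ≅ (presheafToSheaf (Scheme.ProEt.topology X) (ModuleCat.{u + 1} Λ)).obj
      ((ProEtS.eps X).op.lan.obj F.obj) := ((epsAdjMod Λ X).leftAdjointUniq adj).app F
  haveI he : IsIso e.inv.hom := inferInstanceAs (IsIso ((sheafToPresheaf _ _).map e.inv))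
  let ψ : sheafify (Scheme.ProEt.topology X) ((ProEtS.eps X).op.lan.obj F.obj) ⟶
      ((EtModW.epsPullMod Λ X).obj F).obj := e.inv.hom
  haveI : IsIso ψ := he
  obtain ⟨hi, hs⟩ := ((Scheme.ProEt.topology X).W_iff_isLocallyBijective _).1
    ((Scheme.ProEt.topology X).W_toSheafify ((ProEtS.eps X).op.lan.obj F.obj))
  haveI := hi
  haveI := hs
  refine ⟨toSheafify (Scheme.ProEt.topology X) _ ≫ ψ, inferInstance, inferInstance, fun {W V} g s => ?_⟩
  have key : (toSheafify (Scheme.ProEt.topology X) ((ProEtS.eps X).op.lan.obj F.obj) ≫ ψ).app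
      (op ((ProEtS.eps X).obj V)) (((ProEtS.eps X).op.lanUnit.app F.obj).app (op V) s) = eta F V s := by
    have h0 := Adjunction.unit_leftAdjointUniq_hom_app (epsAdjMod Λ X) adj F
    have e' := Adjunction.map_restrictFullyFaithful_unit_app
      (((ProEtS.eps X).op.lanAdjunction (ModuleCat.{u + 1} Λ)).comp
        (sheafificationAdjunction (Scheme.ProEt.topology X) (ModuleCat.{u + 1} Λ)))
      (fullyFaithfulSheafToPresheaf X.smallEtaleTopology (ModuleCat.{u + 1} Λ)) (Functor.FullyFaithful.id _)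
      (L := Functor.sheafPullbackConstruction.sheafPullback (ProEtS.eps X) (ModuleCat.{u + 1} Λ)
        X.smallEtaleTopology (Scheme.ProEt.topology X))
      (R := (ProEtS.eps X).sheafPushforwardContinuous (ModuleCat.{u + 1} Λ) X.smallEtaleTopology
        (Scheme.ProEt.topology X))
      (Iso.refl _) (Iso.refl _) F
    have h1 : ((adj.unit.app F).hom.app (op V)) s = (toSheafify (Scheme.ProEt.topology X)
        ((ProEtS.eps X).op.lan.obj F.obj)).app (op ((ProEtS.eps X).obj V))
          (((ProEtS.eps X).op.lanUnit.app F.obj).app (op V) s) := by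
      refine (ConcreteCategory.congr_hom (NatTrans.congr_app e' (op V)) s).trans ?_
      rw [Adjunction.comp_unit_app, Functor.lanAdjunction_unit]
      rfl
    have h2 : e.hom.hom.app (op ((ProEtS.eps X).obj V)) (eta F V s) = (adj.unit.app F).hom.app (op V) s :=
      ConcreteCategory.congr_hom (congrArg (fun φ : F ⟶ _ => φ.hom.app (op V)) h0) s
    rw [NatTrans.comp_app, ConcreteCategory.comp_apply, ← h1, ← h2]
    show (e.hom.hom.app (op _) ≫ e.inv.hom.app (op _)) (eta F V s) = eta F V s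
    rw [← NatTrans.comp_app, ← ObjectProperty.FullSubcategory.comp_hom, e.hom_inv_id]
    rfl
  rw [← key]
  exact NatTrans.naturality_apply (toSheafify (Scheme.ProEt.topology X) _ ≫ ψ) g.op _

/-- Every section of `ε⁻¹ F` is locally the pullback of a section of `F`. -/
theorem exists_locally_eq_eta {W : X.ProEt} (t : ((EtModW.epsPullMod Λ X).obj F).obj.obj (op W)) :
    ∃ S ∈ Scheme.ProEt.topology X W, ∀ ⦃W' : X.ProEt⦄ (k : W' ⟶ W), S k →
      ∃ (V : X.Etale) (g : W' ⟶ (ProEtS.eps X).obj V) (s : F.obj.obj (op V)),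
        res _ ((EtModW.epsPullMod Λ X).obj F) k t = res _ ((EtModW.epsPullMod Λ X).obj F) g (eta F V s) := by
  haveI := flat_eps X
  haveI := fun Z => preservesColimits_costructuredArrow_mod (X := X) (Λ := Λ) Z
  obtain ⟨θ, -, hs, hθ⟩ := exists_theta F
  haveI := hs
  refine ⟨_, Presheaf.imageSieve_mem (Scheme.ProEt.topology X) θ t, fun W' k hk => ?_⟩
  obtain ⟨p, hp⟩ := hk
  obtain ⟨j, s, rfl⟩ := Concrete.isColimit_exists_rep _
    (Functor.isPointwiseLeftKanExtensionLeftKanExtensionUnit (ProEtS.eps X).op F.obj (op W')) p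
  exact ⟨j.left.unop, j.hom.unop, s, hp.symm.trans (hθ j.hom.unop s)⟩

/-- A pullback of a section of `F` vanishes only if it vanishes at a stage, locally. -/
theorem exists_locally_eq_zero {W : X.ProEt} {V : X.Etale} (g : W ⟶ (ProEtS.eps X).obj V)
    (s : F.obj.obj (op V)) (h : res _ ((EtModW.epsPullMod Λ X).obj F) g (eta F V s) = 0) :
    ∃ S ∈ Scheme.ProEt.topology X W, ∀ ⦃W' : X.ProEt⦄ (k : W' ⟶ W), S k →
      ∃ (V' : X.Etale) (c : V' ⟶ V) (g' : W' ⟶ (ProEtS.eps X).obj V'),
        g' ≫ (ProEtS.eps X).map c = k ≫ g ∧ res _ F c s = 0 := by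
  haveI := flat_eps X
  haveI := fun Z => preservesColimits_costructuredArrow_mod (X := X) (Λ := Λ) Z
  haveI : RepresentablyCoflat (ProEtS.eps X).op := (representablyCoflat_op_iff _).2 ‹_›
  obtain ⟨θ, hi, -, hθ⟩ := exists_theta F
  haveI := hi
  refine ⟨_, Presheaf.equalizerSieve_mem (Scheme.ProEt.topology X) θ (lanMkMod F g s) 0
    (by rw [hθ, h, map_zero]), fun W' k hk => ?_⟩
  have hk' : lanMkMod F (k ≫ g) s = lanMkMod F (k ≫ g) 0 := by
    have : ((ProEtS.eps X).op.lan.obj F.obj).map k.op (lanMkMod F g s) =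
        ((ProEtS.eps X).op.lan.obj F.obj).map k.op 0 := hk
    rw [map_zero] at this ⊢
    refine Eq.trans ?_ this
    simp [lanMkMod]
  obtain ⟨j, p, q, e⟩ := Concrete.isColimit_exists_of_rep_eq _
    (Functor.isPointwiseLeftKanExtensionLeftKanExtensionUnit (ProEtS.eps X).op F.obj (op W'))
    (i := CostructuredArrow.mk (S := (ProEtS.eps X).op) (Y := op V) (k ≫ g).op)
    (j := CostructuredArrow.mk (S := (ProEtS.eps X).op) (Y := op V) (k ≫ g).op) s 0 hk'
  exact ⟨j.left.unop, p.left.unop, j.hom.unop, Quiver.Hom.op_inj (CostructuredArrow.w p), e.trans (map_zero _)⟩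

variable {M : Type (u + 1)} [AddCommGroup M] [Module Λ M]

/-- Trivialisations pass from `F` to `ε⁻¹ F`. -/
theorem isTriv_eps {V : X.Etale} {m : M →ₗ[Λ] F.obj.obj (op V)} (h : IsTriv X.smallEtaleTopology F V m) :
    IsTriv (Scheme.ProEt.topology X) ((EtModW.epsPullMod Λ X).obj F) ((ProEtS.eps X).obj V)
      ((eta F V).comp m) := by
  refine ⟨fun W f t => ?_, fun W f x hx => or_iff_not_imp_left.2 fun hx0 => ?_⟩
  · let T : Sieve W :=
      { arrows := fun W' k => ∃ x : M, res _ ((EtModW.epsPullMod Λ X).obj F) k t =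
          res _ ((EtModW.epsPullMod Λ X).obj F) (k ≫ f) (eta F V (m x))
        downward_closed := by
          rintro W' W'' k ⟨x, hx⟩ l
          exact ⟨x, by rw [res_comp, hx, ← res_comp, Category.assoc]⟩ }
    refine ⟨T, ?_, fun W' k hk => hk⟩
    obtain ⟨S, hS, hS'⟩ := exists_locally_eq_eta F t
    refine (Scheme.ProEt.topology X).transitive hS T fun W' k hk => ?_
    obtain ⟨V', g, s, hs⟩ := hS' k hk
    obtain ⟨P, c, c', g₂, hc, hc'⟩ := exists_prod_et g (k ≫ f)
    obtain ⟨R, hR, hR'⟩ := h.surj c' (res _ F c s)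
    refine (Scheme.ProEt.topology X).superset_covering ?_
      ((Scheme.ProEt.topology X).pullback_stable g₂ ((coverPreserving_eps X).cover_preserve hR))
    rintro W'' l ⟨Q, b, a, hb, hla⟩
    obtain ⟨x, hx⟩ := hR' b hb
    refine ⟨x, ?_⟩
    rw [res_comp _ l k, hs, ← res_comp, ← hc, ← Category.assoc, hla, Category.assoc, res_comp, res_comp,
      res_eta, res_eta, hx, ← res_eta, ← res_comp, Category.assoc, ← hc',
      show l ≫ g₂ ≫ (ProEtS.eps X).map c' = a ≫ (ProEtS.eps X).map (b ≫ c') by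
        rw [← Category.assoc, hla, Functor.map_comp, Category.assoc]]
  · obtain ⟨S, hS, hS'⟩ := exists_locally_eq_zero F f (m x) hx
    refine (Scheme.ProEt.topology X).transitive hS ⊥ fun W' k hk => ?_
    obtain ⟨V', c, g', -, hV'⟩ := hS' k hk
    refine (Scheme.ProEt.topology X).superset_covering bot_le (bot_mem_iff.2 ⟨fun w => ?_⟩)
    exact (bot_mem_et_iff.1 ((h.inj c x hV').resolve_left hx0)).elim (g'.left w)

omit [ProEtS.EpsCont X] in
/-- The étale object of an open piece. -/
theorem exists_piece {V : X.Etale} (O : V.left.Opens) :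
    ∃ (E : X.Etale) (ι : E ⟶ V) (e : (ProEtS.eps X).obj E ⟶ sub ((ProEtS.eps X).obj V) O),
      Etale ι.left ∧ (ProEtS.eps X).map ι = e ≫ subι ((ProEtS.eps X).obj V) O ∧
      ∀ y ∈ O, ∃ z : E.left, ι.left z = y := by
  haveI : Etale V.hom := V.prop
  let E : X.Etale := MorphismProperty.Over.mk _ (O.ι ≫ V.hom) (inferInstanceAs (Etale (O.ι ≫ V.hom)))
  exact ⟨E, MorphismProperty.Over.homMk O.ι rfl trivial,
    MorphismProperty.Over.homMk (𝟙 _) (Category.id_comp _) trivial, inferInstanceAs (Etale O.ι),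
    MorphismProperty.Over.Hom.ext (Category.id_comp _).symm, fun y hy => ⟨⟨y, hy⟩, rfl⟩⟩

/-- Trivialisations descend to `ε_* G`. -/
theorem isTriv_epsPush {G : EtModW.ModP Λ X} {V : X.Etale}
    {m : M →ₗ[Λ] G.obj.obj (op ((ProEtS.eps X).obj V))}
    (h : IsTriv (Scheme.ProEt.topology X) G ((ProEtS.eps X).obj V) m) :
    IsTriv X.smallEtaleTopology (((ProEtS.eps X).sheafPushforwardContinuous (ModuleCat.{u + 1} Λ)
      X.smallEtaleTopology (Scheme.ProEt.topology X)).obj G) V m := by
  refine ⟨fun V' f s => ?_, fun V' f x hx => (h.inj ((ProEtS.eps X).map f) x hx).imp id fun h0 => ?_⟩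
  · let T : Sieve V' :=
      { arrows := fun W k => ∃ x : M, res _ G ((ProEtS.eps X).map k) s =
          res _ G ((ProEtS.eps X).map (k ≫ f)) (m x)
        downward_closed := by
          rintro W W' k ⟨x, hx⟩ l
          exact ⟨x, by rw [Functor.map_comp, res_comp, hx, ← res_comp, ← Functor.map_comp, Category.assoc]⟩ }
    refine ⟨T, mem_smallEtale_of_forall _ fun y => ?_, fun W k hk => hk⟩
    obtain ⟨A, hA, hyA⟩ : ∃ A : V'.left.Opens, IsAffineOpen A ∧ y ∈ A := by
      obtain ⟨_, ⟨A, hA, rfl⟩, hyA, -⟩ :=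
        V'.left.isBasis_affineOpens.exists_subset_of_mem_open (Set.mem_univ y) isOpen_univ
      exact ⟨A, hA, hyA⟩
    haveI : Etale V'.hom := V'.prop
    let E : X.Etale := MorphismProperty.Over.mk _ (A.ι ≫ V'.hom) (inferInstanceAs (Etale (A.ι ≫ V'.hom)))
    let ι : E ⟶ V' := MorphismProperty.Over.homMk A.ι rfl trivial
    haveI : IsAffine ((ProEtS.eps X).obj E).left := hA
    obtain ⟨O, c, -, hyO, hc⟩ := exists_open_const h ((ProEtS.eps X).map (ι ≫ f))
      (res _ G ((ProEtS.eps X).map ι) s) ⟨y, hyA⟩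
    obtain ⟨E', ι', e', het, he', hsurj'⟩ := exists_piece (V := E) O
    obtain ⟨z, hz⟩ := hsurj' _ hyO
    haveI := het
    haveI : Etale ι.left := inferInstanceAs (Etale A.ι)
    refine ⟨E', ι' ≫ ι, z, ⟨c, ?_⟩, inferInstanceAs (Etale (ι'.left ≫ ι.left)), ?_⟩
    · rw [Category.assoc, Functor.map_comp, Functor.map_comp, he', Category.assoc, Category.assoc,
        res_comp _ e', res_comp _ (subι _ O), res_comp _ e']
      exact congrArg (res _ G e') hc
    · show ι.left (ι'.left z) = y
      rw [hz]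
      rfl
  · exact bot_mem_et_iff.2 (bot_mem_iff.1 h0)

end GrothLib.ProEtS
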