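import Groth.Agent.Lib.ProEtS.EpsMod
import Groth.Agent.Lib.ProEtS.EpsDerived
import Mathlib.Algebra.Homology.ShortComplex.ExactFunctor
import Mathlib.CategoryTheory.Linear.LinearFunctor
import Mathlib.Algebra.Category.Grp.EpiMono
import Mathlib.CategoryTheory.Linear.FunctorCategory

/-!
# `ε⁻¹` on sheaves of modules is exact, linear and fully faithful

The underlying abelian sheaf of `ε⁻¹ F` is `ε⁻¹` of the underlying abelian sheaf.
-/

set_option autoImplicit false
set_option linter.style.haveILetI false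
set_option backward.isDefEq.respectTransparency.types false

universe u

open CategoryTheory CategoryTheory.Limits AlgebraicGeometry Opposite

noncomputable section

namespace GrothLib.ProEtS

open TrivMod

variable {X : Scheme.{u}} {Λ : Type (u + 1)} [CommRing Λ]

/-- The underlying abelian sheaf on the étale site. -/
abbrev fgtE (Λ : Type (u + 1)) [CommRing Λ] (X : Scheme.{u}) : EtModW.Mod Λ X ⥤ EtCoh.Ab X :=
  sheafCompose X.smallEtaleTopology (forget₂ (ModuleCat.{u + 1} Λ) AddCommGrpCat.{u + 1})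

/-- The underlying abelian sheaf on the pro-étale site. -/
abbrev fgtP (Λ : Type (u + 1)) [CommRing Λ] (X : Scheme.{u}) : EtModW.ModP Λ X ⥤ ProEtS.AbP X :=
  sheafCompose (Scheme.ProEt.topology X) (forget₂ (ModuleCat.{u + 1} Λ) AddCommGrpCat.{u + 1})

/-- `ε_*` on sheaves of modules. -/
abbrev epsPushMod (Λ : Type (u + 1)) [CommRing Λ] (X : Scheme.{u}) [ProEtS.EpsCont X] :
    EtModW.ModP Λ X ⥤ EtModW.Mod Λ X :=
  (ProEtS.eps X).sheafPushforwardContinuous (ModuleCat.{u + 1} Λ) X.smallEtaleTopology (Scheme.ProEt.topology X)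

variable [ProEtS.EpsCont X]

instance additive_epsPushMod : (epsPushMod Λ X).Additive where

instance linear_epsPushMod : (epsPushMod Λ X).Linear Λ where

variable (F : EtModW.Mod Λ X)

/-- The comparison `lan F ⟶ ε⁻¹ F` of the underlying abelian presheaves. -/
def thetaAb : (ProEtS.eps X).op.lan.obj ((fgtE Λ X).obj F).obj ⟶
    ((fgtP Λ X).obj ((EtModW.epsPullMod Λ X).obj F)).obj :=
  (((ProEtS.eps X).op.lanAdjunction AddCommGrpCat.{u + 1}).homEquiv _ _).symm
    ((fgtE Λ X).map ((epsAdjMod Λ X).unit.app F)).hom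

theorem thetaAb_spec : (ProEtS.eps X).op.lanUnit.app ((fgtE Λ X).obj F).obj ≫
    Functor.whiskerLeft (ProEtS.eps X).op (thetaAb F) = ((fgtE Λ X).map ((epsAdjMod Λ X).unit.app F)).hom := by
  have h := (((ProEtS.eps X).op.lanAdjunction AddCommGrpCat.{u + 1}).homEquiv
    ((fgtE Λ X).obj F).obj ((fgtP Λ X).obj ((EtModW.epsPullMod Λ X).obj F)).obj).apply_symm_apply
    ((fgtE Λ X).map ((epsAdjMod Λ X).unit.app F)).hom
  rw [Adjunction.homEquiv_unit, Functor.lanAdjunction_unit] at h
  exact h

theorem thetaAb_lanMk {W : X.ProEt} {V : X.Etale} (g : W ⟶ (ProEtS.eps X).obj V) (s : F.obj.obj (op V)) :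
    (thetaAb F).app (op W) (lanMk ((fgtE Λ X).obj F) g s) =
      res _ ((EtModW.epsPullMod Λ X).obj F) g (eta F V s) := by
  have h' := ConcreteCategory.congr_hom (NatTrans.congr_app (thetaAb_spec F) (op V)) s
  refine (NatTrans.naturality_apply (thetaAb F) g.op _).trans ?_
  exact congrArg (fun t => res _ ((EtModW.epsPullMod Λ X).obj F) g t) h'

theorem isLocallyInjective_thetaAb :
    Presheaf.IsLocallyInjective (Scheme.ProEt.topology X) (thetaAb F) := by
  haveI := flat_eps X
  haveI := fun Z => preservesColimits_costructuredArrow (X := X) Z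
  refine ⟨fun {W} a b h => ?_⟩
  obtain ⟨V, g, s, hs⟩ := lanMk_surjective ((fgtE Λ X).obj F) (a - b)
  have h0 : res _ ((EtModW.epsPullMod Λ X).obj F) g (eta F V s) = 0 := by
    refine (thetaAb_lanMk F g s).symm.trans ?_
    refine (congrArg ((thetaAb F).app W) hs).trans ?_
    exact (map_sub _ a b).trans (sub_eq_zero.2 h)
  obtain ⟨S, hS, hS'⟩ := exists_locally_eq_zero F g s h0
  refine (Scheme.ProEt.topology X).superset_covering (fun W' k hk => ?_) hS
  obtain ⟨V', c, g', hg, hc⟩ := hS' k hk
  show ((ProEtS.eps X).op.lan.obj ((fgtE Λ X).obj F).obj).map k.op a =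
    ((ProEtS.eps X).op.lan.obj ((fgtE Λ X).obj F).obj).map k.op b
  rw [← sub_eq_zero, ← map_sub, ← hs]
  refine (LanAb.map_mk (ProEtS.eps X) _ k g s).trans ?_
  rw [← hg, LanAb.mk_comp]
  exact (congrArg (fun t => LanAb.mk (ProEtS.eps X) ((fgtE Λ X).obj F).obj g' t) hc).trans (map_zero _)

theorem isLocallySurjective_thetaAb :
    Presheaf.IsLocallySurjective (Scheme.ProEt.topology X) (thetaAb F) := by
  refine ⟨fun {W} t => ?_⟩
  obtain ⟨S, hS, hS'⟩ := exists_locally_eq_eta F (W := W) t
  refine (Scheme.ProEt.topology X).superset_covering (fun W' k hk => ?_) hS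
  obtain ⟨V, g, s, hs⟩ := hS' k hk
  exact ⟨lanMk ((fgtE Λ X).obj F) g s, (thetaAb_lanMk F g s).trans hs.symm⟩

theorem isIso_epsAdjMod_unit : IsIso ((epsAdjMod Λ X).unit.app F) := by
  haveI := isLocallyInjective_thetaAb F
  haveI := isLocallySurjective_thetaAb F
  haveI : IsIso ((fgtE Λ X).map ((epsAdjMod Λ X).unit.app F)) := by
    refine isIso_etaMap ((fgtE Λ X).obj F) (G := (fgtP Λ X).obj ((EtModW.epsPullMod Λ X).obj F)) (thetaAb F)
      ((fgtE Λ X).map ((epsAdjMod Λ X).unit.app F)) ?_
    exact (thetaAb_spec F).symm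
  exact isIso_of_reflects_iso _ (fgtE Λ X)

theorem nonempty_fgtP_iso :
    Nonempty ((fgtP Λ X).obj ((EtModW.epsPullMod Λ X).obj F) ≅
      (ProEtS.epsPull X).obj ((fgtE Λ X).obj F)) := by
  haveI := isLocallyInjective_thetaAb F
  haveI := isLocallySurjective_thetaAb F
  have hW : (Scheme.ProEt.topology X).W (thetaAb F) :=
    ((Scheme.ProEt.topology X).W_iff_isLocallyBijective _).2 ⟨inferInstance, inferInstance⟩
  haveI := ((Scheme.ProEt.topology X).W_iff (thetaAb F)).1 hW
  let adj := Functor.sheafPullbackConstruction.sheafAdjunctionContinuous (ProEtS.eps X)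
    AddCommGrpCat.{u + 1} X.smallEtaleTopology (Scheme.ProEt.topology X)
  exact ⟨sheafificationIso _ ≪≫
    (asIso ((presheafToSheaf (Scheme.ProEt.topology X) AddCommGrpCat.{u + 1}).map (thetaAb F))).symm ≪≫
    ((adj.leftAdjointUniq (ProEtS.epsAdj X)).app ((fgtE Λ X).obj F))⟩

variable (Λ X)

instance additive_epsPullMod : (EtModW.epsPullMod Λ X).Additive := (epsAdjMod Λ X).left_adjoint_additive

instance linear_epsPullMod : (EtModW.epsPullMod Λ X).Linear Λ where
  map_smul {F G} := fun f a => by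
    apply ((epsAdjMod Λ X).homEquiv F ((EtModW.epsPullMod Λ X).obj G)).injective
    rw [Adjunction.homEquiv_unit, Adjunction.homEquiv_unit, Functor.map_smul (epsPushMod Λ X), Linear.comp_smul]
    have h := (epsAdjMod Λ X).unit.naturality
    have h1 := h (a • f)
    have h2 := h f
    simp only [Functor.comp_map, Functor.id_map] at h1 h2
    rw [← h1, ← h2, Linear.smul_comp]

theorem preservesFiniteColimits_epsPullMod : PreservesFiniteColimits (EtModW.epsPullMod Λ X) :=
  haveI := (epsAdjMod Λ X).leftAdjoint_preservesColimits.{0, 0}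
  inferInstance

variable {Λ X}

theorem mono_epsPullMod_map {F G : EtModW.Mod Λ X} (f : F ⟶ G) [Mono f] :
    Mono ((EtModW.epsPullMod Λ X).map f) := by
  haveI := hasSheafCompose_moduleCat Λ X
  refine Sheaf.mono_of_injective _ fun W => (injective_iff_map_eq_zero _).2 fun t ht => ?_
  obtain ⟨S, hS, hS'⟩ := exists_locally_eq_eta F (W := W.unop) t
  refine res_ext _ hS fun W' k hk => ?_
  obtain ⟨V, g, s, hs⟩ := hS' k hk
  have h0 : res _ ((EtModW.epsPullMod Λ X).obj G) g (eta G V (f.hom.app (op V) s)) = 0 := by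
    rw [show eta G V (f.hom.app (op V) s) = ((EtModW.epsPullMod Λ X).map f).hom.app _ (eta F V s) from
      ConcreteCategory.congr_hom (NatTrans.congr_app (congrArg (fun φ : F ⟶ (epsPushMod Λ X).obj ((EtModW.epsPullMod Λ X).obj G) => φ.hom)
        ((epsAdjMod Λ X).unit.naturality f)) (op V)) s]
    refine (NatTrans.naturality_apply ((EtModW.epsPullMod Λ X).map f).hom g.op _).symm.trans ?_
    rw [← hs]
    refine (NatTrans.naturality_apply ((EtModW.epsPullMod Λ X).map f).hom k.op _).trans ?_
    rw [ht, map_zero]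
  rw [map_zero, hs]
  obtain ⟨T, hT, hT'⟩ := exists_locally_eq_zero G g _ h0
  refine res_ext _ hT fun W'' l hl => ?_
  obtain ⟨V', c, g', hg, hc⟩ := hT' l hl
  have hc' : res _ F c s = 0 := by
    haveI : Mono (f.hom.app (op V')) := inferInstance
    refine (ModuleCat.mono_iff_injective (f.hom.app (op V'))).1 inferInstance ?_
    rw [map_zero, ← hc]
    exact NatTrans.naturality_apply f.hom c.op s
  rw [map_zero, ← res_comp, ← hg, res_comp, res_eta, hc', map_zero, map_zero]

theorem preservesFiniteLimits_epsPullMod : PreservesFiniteLimits (EtModW.epsPullMod Λ X) := by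
  haveI := preservesFiniteColimits_epsPullMod X Λ
  haveI : (EtModW.epsPullMod Λ X).PreservesMonomorphisms := ⟨fun f => mono_epsPullMod_map f⟩
  refine ((EtModW.epsPullMod Λ X).preservesFiniteLimits_iff_forall_exact_map_and_mono).2 fun S hS => ?_
  haveI := hS.mono_f
  exact ⟨hS.exact.map_of_epi_of_preservesCokernel _ hS.epi_g inferInstance, inferInstance⟩

end GrothLib.ProEtS
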