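import Groth.Agent.Lib.ProEtS.EpsModExact
import Groth.Prelude.Def_FixPt

/-!
# `ε⁻¹` commutes with inverse images of sheaves of modules
-/

set_option autoImplicit false
set_option linter.style.haveILetI false
set_option backward.isDefEq.respectTransparency.types false

universe u

open CategoryTheory CategoryTheory.Limits AlgebraicGeometry Opposite

noncomputable section

namespace GrothLib.ProEtS

variable {X Y : Scheme.{u}} (f : X ⟶ Y)

/-- Base change commutes with the inclusion of the étale into the pro-étale site. -/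
def bcEpsIso : EtCoh.bc f ⋙ ProEtS.eps X ≅ ProEtS.eps Y ⋙ ProEtS.bcP f :=
  NatIso.ofComponents (fun U => MorphismProperty.Over.isoMk (Iso.refl (pullback U.hom f))
    (Category.id_comp _))
    (fun {U V} g => by
      apply MorphismProperty.Over.Hom.ext
      exact (Category.comp_id _).trans (Category.id_comp _).symm)

/-- `ε⁻¹ f⁻¹ ≅ f⁻¹ ε⁻¹` on sheaves of modules. -/
theorem nonempty_pullEpsIso (Λ : Type (u + 1)) [CommRing Λ] [ProEtS.EpsCont X] [ProEtS.EpsCont Y] [ProEtS.PCont f] :
    Nonempty (EtModW.pull Λ f ⋙ EtModW.epsPullMod Λ X ≅ EtModW.epsPullMod Λ Y ⋙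
      (ProEtS.bcP f).sheafPullback (ModuleCat.{u + 1} Λ) (Scheme.ProEt.topology Y) (Scheme.ProEt.topology X)) := by
  haveI := Functor.isContinuous_comp (ProEtS.eps Y) (ProEtS.bcP f) Y.smallEtaleTopology
    (Scheme.ProEt.topology Y) (Scheme.ProEt.topology X)
  let adjP := (ProEtS.bcP f).sheafAdjunctionContinuous (ModuleCat.{u + 1} Λ) (Scheme.ProEt.topology Y) (Scheme.ProEt.topology X)
  let e : (EtCoh.bc f).sheafPushforwardContinuous (ModuleCat.{u + 1} Λ) Y.smallEtaleTopology X.smallEtaleTopology = EtModW.push Λ f := rfl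
  refine ⟨Adjunction.leftAdjointUniq (((FixPt.pullPushAdj (Λ := Λ) f).comp (epsAdjMod Λ X)).ofNatIsoRight ?_)
    ((epsAdjMod Λ Y).comp adjP)⟩
  exact Functor.sheafPushforwardContinuousComp' (bcEpsIso f) (ModuleCat.{u + 1} Λ)
      Y.smallEtaleTopology X.smallEtaleTopology (Scheme.ProEt.topology X) ≪≫
    (Functor.sheafPushforwardContinuousComp (ProEtS.eps Y) (ProEtS.bcP f) (ModuleCat.{u + 1} Λ)
      Y.smallEtaleTopology (Scheme.ProEt.topology Y) (Scheme.ProEt.topology X)).symm

end GrothLib.ProEtS
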