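import Groth.Prelude.Def_ProEtS
import Groth.Agent.Lib.WeakEtale.Basic

/-!
# Coverings in the small pro-étale site
-/

set_option autoImplicit false
set_option backward.isDefEq.respectTransparency.types false

universe u

open CategoryTheory CategoryTheory.Limits AlgebraicGeometry Opposite

namespace GrothLib.ProEtS

variable {X : Scheme.{u}}

theorem weaklyEtale_left {U V : X.ProEt} (g : V ⟶ U) : WeaklyEtale g.left := by
  haveI : WeaklyEtale (g.left ≫ U.hom) := by
    rw [MorphismProperty.Over.w g]; exact V.prop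
  exact WeaklyEtale.of_comp g.left U.hom

theorem map_ofArrows_left {U : X.ProEt} {ι : Type*} (V : ι → X.ProEt) (f : ∀ i, V i ⟶ U) :
    (Presieve.ofArrows V f).map (Scheme.ProEt.forget X ⋙ CategoryTheory.Over.forget X) =
      Presieve.ofArrows (fun i => (V i).left) (fun i => (f i).left) := by
  rw [Presieve.map_ofArrows]
  rfl

theorem mem_precoverage_iff {U : X.ProEt} {ι : Type*} (V : ι → X.ProEt) (f : ∀ i, V i ⟶ U) :
    Presieve.ofArrows V f ∈ Scheme.ProEt.precoverage X U ↔
      Presieve.ofArrows (fun i => (V i).left) (fun i => (f i).left) ∈ Scheme.proetalePrecoverage U.left := by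
  rw [Scheme.ProEt.precoverage, Precoverage.mem_comap_iff, map_ofArrows_left]
  rfl

/-- Coverings contain a covering family. -/
theorem exists_family {U : X.ProEt} {R : Sieve U} (hR : R ∈ Scheme.ProEt.topology X U) :
    ∃ (ι : Type (u + 1)) (V : ι → X.ProEt) (f : ∀ i, V i ⟶ U), (∀ i, R (f i)) ∧
      Presieve.ofArrows (fun i => (V i).left) (fun i => (f i).left) ∈ Scheme.proetalePrecoverage U.left := by
  have hR' : R.functorPushforward (Scheme.ProEt.forget X) ∈
      (Scheme.proetaleTopology.over X) ((Scheme.ProEt.forget X).obj U) :=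
    (CoverPreserving.of_isContinuous (J := Scheme.ProEt.topology X) (K := Scheme.proetaleTopology.over X)
      (F := Scheme.ProEt.forget X)).cover_preserve hR
  rw [GrothendieckTopology.mem_over_iff] at hR'
  rw [Scheme.proetaleTopology, Precoverage.mem_toGrothendieck_iff_of_isStableUnderComposition] at hR'
  obtain ⟨S, hS, hle⟩ := hR'
  obtain ⟨ι, Z, g, rfl⟩ := Presieve.exists_eq_ofArrows S
  have hw : ∀ i, WeaklyEtale (g i) := fun i =>
    Scheme.proetalePrecoverage_le_precoverage_weaklyEtale _ hS ⟨i⟩
  have hV : ∀ i, WeaklyEtale (g i ≫ U.hom) := fun i => by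
    haveI := hw i
    exact MorphismProperty.comp_mem _ _ _ (hw i) U.prop
  let V : ι → X.ProEt := fun i => MorphismProperty.Over.mk _ (g i ≫ U.hom) (hV i)
  let f : ∀ i, V i ⟶ U := fun i => MorphismProperty.Over.homMk (g i) rfl trivial
  refine ⟨ι, V, f, fun i => ?_, hS⟩
  have hmem := hle _ _ ⟨i⟩
  rw [Sieve.overEquiv_iff] at hmem
  exact (Sieve.mem_functorPushforward_iff_of_full_of_faithful (F := Scheme.ProEt.forget X) R (f i)).1 hmem

theorem mem_topology_of_family {U : X.ProEt} {R : Sieve U} {ι : Type*} (V : ι → X.ProEt)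
    (f : ∀ i, V i ⟶ U) (hR : ∀ i, R (f i))
    (h : Presieve.ofArrows (fun i => (V i).left) (fun i => (f i).left) ∈ Scheme.proetalePrecoverage U.left) :
    R ∈ Scheme.ProEt.topology X U := by
  refine GrothendieckTopology.superset_covering _ ?_
    (Precoverage.generate_mem_toGrothendieck ((mem_precoverage_iff V f).2 h))
  rw [Sieve.generate_le_iff]
  rintro _ _ ⟨i⟩
  exact hR i

/-- A surjective quasi-compact morphism is a covering. -/
theorem generate_singleton_mem {U V : X.ProEt} (g : V ⟶ U) [Surjective g.left] [QuasiCompact g.left] :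
    Sieve.generate (Presieve.singleton g) ∈ Scheme.ProEt.topology X U := by
  refine Precoverage.generate_mem_toGrothendieck ?_
  rw [Scheme.ProEt.precoverage, Precoverage.mem_comap_iff, Presieve.map_singleton]
  haveI := weaklyEtale_left g
  exact Scheme.Hom.singleton_mem_propQCPrecoverage (f := g.left) (weaklyEtale_left g)

/-- A jointly surjective family of open maps is a covering. -/
theorem ofArrows_mem_of_isOpenMap {U : X.ProEt} {ι : Type u} (V : ι → X.ProEt) (f : ∀ i, V i ⟶ U)
    (ho : ∀ i, IsOpenMap (f i).left.base) (hs : ∀ x : U.left, ∃ i y, (f i).left y = x) :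
    Sieve.generate (Presieve.ofArrows V f) ∈ Scheme.ProEt.topology X U := by
  refine Precoverage.generate_mem_toGrothendieck ((mem_precoverage_iff V f).2 ?_)
  let 𝒰 : U.left.Cover (Scheme.precoverage @WeaklyEtale) :=
    { I₀ := ι
      X := fun i => (V i).left
      f := fun i => (f i).left
      mem₀ := by
        rw [Scheme.presieve₀_mem_precoverage_iff]
        exact ⟨hs, fun i => weaklyEtale_left (f i)⟩ }
  haveI : QuasiCompactCover 𝒰.toPreZeroHypercover := QuasiCompactCover.of_isOpenMap ho
  exact ⟨Scheme.presieve₀_mem_qcPrecoverage_iff.2 ‹_›, 𝒰.mem₀⟩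

/-- Coverings of quasi-compact objects are refined by finitely many affines. -/
theorem exists_affine_refinement {U : X.ProEt} [CompactSpace ↥U.left] {R : Sieve U}
    (hR : R ∈ Scheme.ProEt.topology X U) :
    ∃ (n : ℕ) (V : Fin n → X.ProEt) (g : ∀ k, V k ⟶ U), (∀ k, IsAffine (V k).left) ∧ (∀ k, R (g k)) ∧
      ∀ x : U.left, ∃ k y, (g k).left y = x := by
  obtain ⟨ι, V, f, hf, hmem⟩ := exists_family hR
  let E : PreZeroHypercover U.left := ⟨ι, fun i => (V i).left, fun i => (f i).left⟩
  haveI : QuasiCompactCover E := Scheme.presieve₀_mem_qcPrecoverage_iff.1 hmem.1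
  obtain ⟨n, a, W, hW, heq⟩ := QuasiCompactCover.exists_isAffineOpen_of_isCompact E
    (U := ⊤) isCompact_univ
  have hwe : ∀ k, WeaklyEtale ((W k).ι ≫ (V (a k)).hom) := fun k =>
    MorphismProperty.comp_mem _ _ _ inferInstance (V (a k)).prop
  let V' : Fin n → X.ProEt := fun k => MorphismProperty.Over.mk _ ((W k).ι ≫ (V (a k)).hom) (hwe k)
  let r : ∀ k, V' k ⟶ V (a k) := fun k => MorphismProperty.Over.homMk (W k).ι rfl trivial
  refine ⟨n, V', fun k => r k ≫ f (a k), fun k => hW k, fun k => R.downward_closed (hf _) _,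
    fun x => ?_⟩
  have hx : x ∈ ((⊤ : U.left.Opens) : Set U.left) := trivial
  rw [← heq, Set.mem_iUnion] at hx
  obtain ⟨k, y, hy, hyx⟩ := hx
  exact ⟨k, ⟨y, hy⟩, hyx⟩

theorem coverPreserving_eps (X : Scheme.{u}) :
    CoverPreserving X.smallEtaleTopology (Scheme.ProEt.topology X) (ProEtS.eps X) where
  cover_preserve {U} R hR := by
    rw [Scheme.smallEtaleTopology, Scheme.smallGrothendieckTopology_eq_toGrothendieck_smallPretopology _ le_rfl] at hR
    replace hR := (Scheme.mem_toGrothendieck_smallPretopology (P := @Etale) (Q := @Etale) (S := X) U R).1 hR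
    choose Y f y hRf hEt hy using hR
    refine GrothendieckTopology.superset_covering _ ?_
      (ofArrows_mem_of_isOpenMap (fun x => (ProEtS.eps X).obj (Y x)) (fun x => (ProEtS.eps X).map (f x))
        (fun x => ?_) fun x => ⟨x, y x, hy x⟩)
    · rw [Sieve.generate_le_iff]
      rintro _ _ ⟨x⟩
      exact Sieve.image_mem_functorPushforward _ _ (hRf x)
    · haveI : Etale (f x).left := hEt x
      exact (f x).left.isOpenMap

theorem epsCont (X : Scheme.{u}) : ProEtS.EpsCont X := by
  haveI : PreservesFiniteLimits (ProEtS.eps X ⋙ Scheme.ProEt.forget X) :=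
    inferInstanceAs (PreservesFiniteLimits (MorphismProperty.Over.forget @Etale ⊤ X))
  haveI : PreservesFiniteLimits (ProEtS.eps X) :=
    preservesFiniteLimits_of_reflects_of_preserves (ProEtS.eps X) (Scheme.ProEt.forget X)
  haveI : RepresentablyFlat (ProEtS.eps X) := flat_of_preservesFiniteLimits _
  exact Functor.isContinuous_iff_coverPreserving.2 (coverPreserving_eps X)

theorem pCont {X Y : Scheme.{u}} (f : X ⟶ Y) : ProEtS.PCont f := by
  haveI : PreservesLimits (CategoryTheory.Over.pullback f) :=
    (CategoryTheory.Over.mapPullbackAdj f).rightAdjoint_preservesLimits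
  haveI : PreservesFiniteLimits (CategoryTheory.Over.pullback f) := inferInstance
  haveI : PreservesFiniteLimits (ProEtS.bcP f ⋙ Scheme.ProEt.forget X) :=
    preservesFiniteLimits_of_natIso
      (F := Scheme.ProEt.forget Y ⋙ CategoryTheory.Over.pullback f)
      (MorphismProperty.Over.pullbackCompForgetIso (P := @WeaklyEtale) (Q := ⊤) f).symm
  haveI : PreservesFiniteLimits (ProEtS.bcP f) :=
    preservesFiniteLimits_of_reflects_of_preserves (ProEtS.bcP f) (Scheme.ProEt.forget X)
  haveI : RepresentablyFlat (ProEtS.bcP f) := flat_of_preservesFiniteLimits _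
  refine Functor.isContinuous_iff_coverPreserving.2 ⟨fun {U} R hR => ?_⟩
  obtain ⟨ι, V, g, hg, hmem⟩ := exists_family hR
  refine mem_topology_of_family (fun i => (ProEtS.bcP f).obj (V i)) (fun i => (ProEtS.bcP f).map (g i))
    (fun i => Sieve.image_mem_functorPushforward _ _ (hg i)) ?_
  refine Precoverage.mem_coverings_of_isPullback _ hmem (pullback.fst U.hom f)
    (fun i => ((ProEtS.bcP f).map (g i)).left) (fun i => pullback.fst (V i).hom f) fun i => ?_
  refine IsPullback.of_right ?_ ?_ (IsPullback.of_hasPullback U.hom f).flip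
  · simp only [MorphismProperty.Over.pullback_map_left, MorphismProperty.Over.w]
    convert (IsPullback.of_hasPullback (V i).hom f).flip using 1
    all_goals first | rfl | exact heq_of_eq (pullback.lift_snd (f := U.hom) (g := f) _ _ _)
  · simp only [MorphismProperty.Over.pullback_map_left]
    exact pullback.lift_fst _ _ _

end GrothLib.ProEtS
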