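import Groth.Agent.Lib.ProEtS.RecollementMod
import Groth.Agent.Lib.ProEtS.EpsPull
import Groth.Agent.Lib.ProEtS.Topology
import Groth.Agent.Lib.Constructible.Strata
import Groth.Prelude.Def_EtShriek2

/-!
# The essential image of `ε⁻¹` is local for finite constructible stratifications
-/

set_option autoImplicit false
set_option linter.style.haveILetI false
set_option linter.unusedSectionVars false
set_option backward.isDefEq.respectTransparency.types false

universe u

open CategoryTheory CategoryTheory.Limits AlgebraicGeometry Opposite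

noncomputable section

namespace GrothLib.ProEtS

/-- Continuity of `compP j` for weakly étale monomorphisms. -/
theorem jpCont {U X : Scheme.{u}} (j : U ⟶ X) [hj : WeaklyEtale j] [Mono j] : ProEtS.JPCont j := by
  haveI : (ProEtS.compP j).Full := ⟨fun {V W} g => by
    have e : ((g.left : V.left ⟶ W.left) ≫ W.hom) ≫ j = V.hom ≫ j := by
      rw [Category.assoc]; exact MorphismProperty.Over.w g
    exact ⟨MorphismProperty.Over.homMk g.left ((cancel_mono j).1 e), MorphismProperty.Over.Hom.ext rfl⟩⟩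
  haveI : (ProEtS.compP j).Faithful := ⟨fun {_ _} _ _ h =>
    MorphismProperty.Over.Hom.ext (congrArg (fun k => k.left) h :)⟩
  refine Functor.isContinuous_of_coverPreserving
    (compatiblePreservingOfDownwardsClosed (Scheme.ProEt.topology X) (ProEtS.compP j) fun {V W} g => ?_) ⟨fun {V} R hR => ?_⟩
  · have e : g.left ≫ V.hom ≫ j = W.hom := MorphismProperty.Over.w g
    haveI : WeaklyEtale ((g.left ≫ V.hom) ≫ j) := by
      rw [Category.assoc, e]; exact W.prop
    exact ⟨MorphismProperty.Over.mk ⊤ (g.left ≫ V.hom) (WeaklyEtale.of_comp (g.left ≫ V.hom) j),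
      MorphismProperty.Over.isoMk (Iso.refl _)
        ((Category.id_comp W.hom).trans (e.symm.trans (Category.assoc _ _ _).symm))⟩
  · obtain ⟨ι, W, f, hf, hmem⟩ := exists_family hR
    exact mem_topology_of_family (fun i => (ProEtS.compP j).obj (W i)) (fun i => (ProEtS.compP j).map (f i))
      (fun i => Sieve.image_mem_functorPushforward _ _ (hf i)) hmem

attribute [local instance] pCont epsCont

variable {X Y Z : Scheme.{u}} {Λ : Type (u + 1)} [CommRing Λ]

/-- Inverse images compose. -/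
def pullMCompIso (a : Z ⟶ Y) (g : Y ⟶ X) : pullM (a ≫ g) Λ ≅ pullM g Λ ⋙ pullM a Λ :=
  haveI := Functor.isContinuous_comp (ProEtS.bcP g) (ProEtS.bcP a) (Scheme.ProEt.topology X)
    (Scheme.ProEt.topology Y) (Scheme.ProEt.topology Z)
  Adjunction.leftAdjointUniq (pullPushAdjM (a ≫ g) Λ)
    (((pullPushAdjM g Λ).comp (pullPushAdjM a Λ)).ofNatIsoRight
      (Functor.sheafPushforwardContinuousComp' (F := ProEtS.bcP g) (G := ProEtS.bcP a) (FG := ProEtS.bcP (a ≫ g))
        (MorphismProperty.Over.pullbackComp a g).symm (ModuleCat.{u + 1} Λ) (Scheme.ProEt.topology X)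
        (Scheme.ProEt.topology Y) (Scheme.ProEt.topology Z)))

/-- The essential image of `ε⁻¹`. -/
def Ess (F : EtModW.ModP Λ X) : Prop :=
  ∃ E : EtModW.Mod Λ X, Nonempty ((EtModW.epsPullMod Λ X).obj E ≅ F)

theorem ess_of_iso {F G : EtModW.ModP Λ X} (e : F ≅ G) (h : Ess F) : Ess G := by
  obtain ⟨E, ⟨i⟩⟩ := h
  exact ⟨E, ⟨i ≪≫ e⟩⟩

theorem ess_pullM (f : Y ⟶ X) {F : EtModW.ModP Λ X} (h : Ess F) : Ess ((pullM f Λ).obj F) := by
  obtain ⟨E, ⟨i⟩⟩ := h
  obtain ⟨e⟩ := nonempty_pullEpsIso f Λ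
  exact ⟨(EtModW.pull Λ f).obj E, ⟨e.app E ≪≫ (pullM f Λ).mapIso i⟩⟩

theorem ess_of_shortExact {S : ShortComplex (EtModW.ModP Λ X)} (hS : S.ShortExact) (h₁ : Ess S.X₁) (h₃ : Ess S.X₃) :
    Ess S.X₂ := by
  obtain ⟨A, ⟨a⟩⟩ := h₁
  obtain ⟨B, ⟨b⟩⟩ := h₃
  exact ⟨_, (extension_epsPullMod hS a b).2.2.2⟩

theorem ess_of_isEmpty [IsEmpty X] (F : EtModW.ModP Λ X) : Ess F := by
  haveI := hasSheafCompose_moduleCat Λ X
  have h0 : ∀ G : EtModW.ModP Λ X, IsZero G := fun G => by
    rw [IsZero.iff_id_eq_zero]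
    refine hom_ext_nice fun W _ => ModuleCat.hom_ext (LinearMap.ext fun x => ?_)
    haveI : IsEmpty W.left := ⟨fun x => IsEmpty.false (α := X) (W.hom.base x)⟩
    exact TrivMod.res_ext G (Scheme.ProEt.bot_mem_topology W) (fun _ _ h => h.elim)
  exact ⟨_, ⟨(h0 ((EtModW.epsPullMod Λ X).obj ((epsPushMod Λ X).obj F))).iso (h0 F)⟩⟩

theorem ess_extZeroM (j : Y ⟶ X) [IsOpenImmersion j] [WeaklyEtale j] [ProEtS.JPCont j] {G : EtModW.ModP Λ Y}
    (h : Ess G) : Ess ((extZeroM j Λ).obj G) := by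
  haveI hje : Etale j := inferInstance
  let F : Y.Etale ⥤ X.Etale := MorphismProperty.Over.map (P := EtCoh.etaleMP.{u}) ⊤ (f := j) hje
  haveI : (MorphismProperty.Over.map (P := EtCoh.etaleMP.{u}) ⊤ (f := j) hje).IsContinuous Y.smallEtaleTopology X.smallEtaleTopology :=
    @EtShriek.jCont_of_mono _ _ j hje _
  haveI : F.IsContinuous Y.smallEtaleTopology X.smallEtaleTopology := this
  haveI : (F.sheafPushforwardContinuous (ModuleCat.{u + 1} Λ) Y.smallEtaleTopology X.smallEtaleTopology).IsRightAdjoint :=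
    inferInstance
  haveI : ((MorphismProperty.Over.map (P := EtCoh.etaleMP.{u}) ⊤ (f := j) hje).sheafPushforwardContinuous (ModuleCat.{u + 1} Λ) Y.smallEtaleTopology X.smallEtaleTopology).IsRightAdjoint := this
  obtain ⟨E, ⟨i⟩⟩ := h
  obtain ⟨e⟩ := nonempty_extZeroM_eps_iso (Λ := Λ) j
  exact ⟨_, ⟨e.app E ≪≫ (extZeroM j Λ).mapIso i⟩⟩

theorem ess_pushM (i : Z ⟶ X) [IsClosedImmersion i] {G : EtModW.ModP Λ Z} (h : Ess G) :
    Ess ((pushM i Λ).obj G) := by
  obtain ⟨E, ⟨a⟩⟩ := h
  obtain ⟨e⟩ := nonempty_pushM_eps_iso i E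
  exact ⟨_, ⟨e ≪≫ (pushM i Λ).mapIso a⟩⟩

/-- Restriction along an open immersion is inverse image. -/
def restrMIso (j : Y ⟶ X) [WeaklyEtale j] [ProEtS.JPCont j] : restrM j Λ ≅ pullM j Λ :=
  Adjunction.leftAdjointUniq ((compBCAdjP j).sheafPushforwardContinuous (Scheme.ProEt.topology Y)
    (Scheme.ProEt.topology X) (E := ModuleCat.{u + 1} Λ)) (pullPushAdjM j Λ)

/-- The recollement step. -/
theorem ess_of_open_closed (j : Y ⟶ X) [IsOpenImmersion j] [QuasiCompact j] (i : Z ⟶ X) [IsClosedImmersion i]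
    (hc : Set.range j.base = (Set.range i.base)ᶜ) {G : EtModW.ModP Λ X}
    (hj : Ess ((pullM j Λ).obj G)) (hi : Ess ((pullM i Λ).obj G)) : Ess G := by
  haveI := jpCont j
  obtain ⟨w, hS⟩ := exists_shortExact_recollement i j hc G
  exact ess_of_shortExact hS (ess_extZeroM j (ess_of_iso ((restrMIso j).app G).symm hj)) (ess_pushM i hi)

theorem quasiCompact_opens_ι [QuasiSeparatedSpace X] (U : X.Opens) (hU : IsCompact (U : Set X)) : QuasiCompact U.ι := by
  refine ⟨fun K hK hKc => ?_⟩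
  refine U.ι.isOpenEmbedding.toIsEmbedding.isCompact_iff.2 ?_
  rw [Set.image_preimage_eq_inter_range, Scheme.Opens.range_ι]
  exact QuasiSeparatedSpace.inter_isCompact _ _ hK hKc U.isOpen hU

/-- A sheaf in the essential image along finitely many pieces is in the essential image. -/
theorem ess_of_pattern (F : EtModW.ModP Λ X) :
    ∀ (n : ℕ) (Y : Scheme.{u}) [CompactSpace Y] [QuasiSeparatedSpace Y] (h : Y ⟶ X) (O : Fin n → Y.Opens),
      (∀ k, IsCompact (O k : Set Y)) →
      (∀ y : Y, ∃ (T : Scheme.{u}) (g : T ⟶ X), IsImmersion g ∧ Ess ((pullM g Λ).obj F) ∧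
        ∀ y', (∀ k, y' ∈ O k ↔ y ∈ O k) → h.base y' ∈ Set.range g.base) →
      Ess ((pullM h Λ).obj F) := by
  intro n
  induction n with
  | zero =>
    intro Y _ _ h O _ hy
    cases isEmpty_or_nonempty Y with
    | inl hY => exact ess_of_isEmpty _
    | inr hY =>
      obtain ⟨y⟩ := hY
      obtain ⟨T, g, hg, hF, hcl⟩ := hy y
      let p := pullback.fst h g
      haveI : IsImmersion p := MorphismProperty.pullback_fst h g hg
      have hp : Set.range p.base = Set.univ := by
        refine (Scheme.Pullback.range_fst (f := h) (g := g)).trans ?_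
        exact Set.eq_univ_of_forall fun y' => hcl y' fun k => k.elim0
      haveI : IsClosedImmersion p := IsClosedImmersion.of_isPreimmersion p (hp ▸ isClosed_univ)
      haveI : IsEmpty ↥((⊥ : Y.Opens) : Scheme.{u}) := ⟨fun x => x.2⟩
      haveI : QuasiCompact (⊥ : Y.Opens).ι := quasiCompact_opens_ι _ isCompact_empty
      refine ess_of_open_closed (⊥ : Y.Opens).ι p ?_ (ess_of_isEmpty _) ?_
      · rw [hp, Set.compl_univ]
        exact Scheme.Opens.range_ι _
      · refine ess_of_iso (((pullMCompIso p h).app F) ) ?_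
        rw [show p ≫ h = pullback.snd h g ≫ g from pullback.condition]
        exact ess_of_iso ((pullMCompIso (pullback.snd h g) g).app F).symm (ess_pullM _ hF)
  | succ n ih =>
    intro Y _ _ h O hO hy
    let U := O 0
    haveI : QuasiCompact U.ι := quasiCompact_opens_ι U (hO 0)
    let Zs : TopologicalSpace.Closeds Y := ⟨(U : Set Y)ᶜ, U.isOpen.isClosed_compl⟩
    let I := Scheme.IdealSheafData.vanishingIdeal Zs
    let i := I.subschemeι
    have hri : Set.range i.base = (U : Set Y)ᶜ := by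
      refine I.range_subschemeι.trans ?_
      rw [Scheme.IdealSheafData.coe_support_vanishingIdeal]
      rfl
    haveI : CompactSpace ↥(U : Scheme.{u}) := QuasiCompact.compactSpace_of_compactSpace U.ι
    haveI : CompactSpace I.subscheme := QuasiCompact.compactSpace_of_compactSpace i
    haveI : QuasiSeparatedSpace ↥(U : Scheme.{u}) := quasiSeparatedSpace_of_quasiSeparated U.ι
    haveI : QuasiSeparatedSpace I.subscheme := quasiSeparatedSpace_of_quasiSeparated i
    refine ess_of_open_closed U.ι i ?_ ?_ ?_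
    · rw [hri, compl_compl]
      exact Scheme.Opens.range_ι _
    · refine ess_of_iso ((pullMCompIso U.ι h).app F) (ih _ (U.ι ≫ h) (fun k => U.ι ⁻¹ᵁ O k.succ) (fun k => ?_) fun y => ?_)
      · exact QuasiCompact.isCompact_preimage (f := U.ι) _ (O k.succ).isOpen (hO k.succ)
      · obtain ⟨T, g, hg, hF, hcl⟩ := hy (U.ι.base y)
        refine ⟨T, g, hg, hF, fun y' hy' => hcl _ fun k => ?_⟩
        cases k using Fin.cases with
        | zero => exact ⟨fun _ => y.2, fun _ => y'.2⟩
        | succ k => exact hy' k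
    · refine ess_of_iso ((pullMCompIso i h).app F) (ih _ (i ≫ h) (fun k => i ⁻¹ᵁ O k.succ) (fun k => ?_) fun y => ?_)
      · exact QuasiCompact.isCompact_preimage (f := i) _ (O k.succ).isOpen (hO k.succ)
      · obtain ⟨T, g, hg, hF, hcl⟩ := hy (i.base y)
        refine ⟨T, g, hg, hF, fun y' hy' => hcl _ fun k => ?_⟩
        cases k using Fin.cases with
        | zero =>
          have h0 : ∀ z, i.base z ∉ U := fun z => hri.le ⟨z, rfl⟩
          exact iff_of_false (h0 y') (h0 y)
        | succ k => exact hy' k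

/-- Finitely many constructible pieces of an affine open. -/
theorem ess_of_strata (F : EtModW.ModP Λ X) (U : X.Opens) (hU : IsAffineOpen U) {ι : Type} [Finite ι]
    (T : ι → Scheme.{u}) (g : ∀ i, T i ⟶ X) (hg : ∀ i, IsImmersion (g i))
    (hc : ∀ i, Topology.IsConstructible (U.ι.base ⁻¹' Set.range (g i).base))
    (hcov : (U : Set X) ⊆ ⋃ i, Set.range (g i).base)
    (h : ∀ i, Ess ((pullM (g i) Λ).obj F)) : Ess ((pullM U.ι Λ).obj F) := by
  classical
  haveI := Fintype.ofFinite ι
  haveI : IsAffine (U : Scheme.{u}) := hU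
  choose O hO hsat using fun i => GrothLib.Constructible.exists_generators (hc i)
  let P := Finset.univ.biUnion O
  have hP : ∀ o ∈ P, IsOpen o ∧ IsRetrocompact o := fun o ho => by
    obtain ⟨i, -, hi⟩ := Finset.mem_biUnion.1 ho
    exact hO i o hi
  let e := P.equivFin.symm
  refine ess_of_pattern F P.card _ U.ι (fun k => ⟨(e k).1, (hP _ (e k).2).1⟩) (fun k => ?_) fun y => ?_
  · exact (hP _ (e k).2).2.isCompact
  · obtain ⟨i, hi⟩ := Set.mem_iUnion.1 (hcov y.2)
    refine ⟨T i, g i, hg i, h i, fun y' hy' => (hsat i y y' fun o ho => ?_).1 hi⟩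
    have hoP : o ∈ P := Finset.mem_biUnion.2 ⟨i, Finset.mem_univ i, ho⟩
    have := hy' (e.symm ⟨o, hoP⟩)
    simp only [Equiv.apply_symm_apply] at this
    exact this.symm

/-- The essential image is Zariski local. -/
theorem ess_of_affine_cover (F : EtModW.ModP Λ X)
    (h : ∀ U : X.Opens, IsAffineOpen U → Ess ((pullM U.ι Λ).obj F)) : Ess F := by
  haveI := isIso_unit (Λ := Λ) (X := X)
  let c := (epsAdjMod Λ X).counit.app F
  haveI : IsIso ((epsPushMod Λ X).map c) :=
    IsIso.of_isIso_fac_left ((epsAdjMod Λ X).right_triangle_components F)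
  suffices IsIso c from ⟨_, ⟨@asIso _ _ _ _ c this⟩⟩
  refine isIso_of_nice c fun V hV => ?_
  obtain ⟨A, hA, a, ha⟩ := hV.2.2
  haveI := jpCont A.ι
  let R := restrM A.ι Λ
  haveI : IsIso (R.map c) := by
    have h₁ : Ess (R.obj ((EtModW.epsPullMod Λ X).obj ((epsPushMod Λ X).obj F))) :=
      ess_of_iso ((restrMIso A.ι).app _).symm (ess_pullM _ ⟨_, ⟨Iso.refl _⟩⟩)
    obtain ⟨E₁, ⟨e₁⟩⟩ := h₁
    obtain ⟨E₂, ⟨e₂⟩⟩ := ess_of_iso ((restrMIso A.ι).app F).symm (h A hA)
    haveI : IsIso ((epsAdjMod Λ (A : Scheme.{u})).counit.app (R.obj ((epsPushMod Λ X ⋙ EtModW.epsPullMod Λ X).obj F))) :=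
      isIso_counit e₁
    haveI := isIso_counit e₂
    haveI : IsIso ((epsPushMod Λ (A : Scheme.{u})).map (R.map c)) := by
      haveI : ∀ W, IsIso (((sheafToPresheaf _ _).map ((epsPushMod Λ (A : Scheme.{u})).map (R.map c))).app W) := fun W => by
        have : IsIso (((sheafToPresheaf _ _).map ((epsPushMod Λ X).map c)).app
            (op ((EtShriek.compEtale A.ι).obj W.unop))) := inferInstance
        exact this
      haveI := NatIso.isIso_of_isIso_app ((sheafToPresheaf _ _).map ((epsPushMod Λ (A : Scheme.{u})).map (R.map c)))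
      exact isIso_of_reflects_iso _ (sheafToPresheaf _ _)
    haveI : IsIso ((epsAdjMod Λ (A : Scheme.{u})).counit.app (R.obj ((𝟭 (EtModW.ModP Λ X)).obj F))) :=
      isIso_counit e₂
    let q := (epsAdjMod Λ (A : Scheme.{u})).counit.naturality (R.map c)
    haveI : IsIso ((epsPushMod Λ (A : Scheme.{u}) ⋙ EtModW.epsPullMod Λ (A : Scheme.{u})).map (R.map c)) :=
      inferInstanceAs (IsIso ((EtModW.epsPullMod Λ (A : Scheme.{u})).map ((epsPushMod Λ (A : Scheme.{u})).map (R.map c))))
    haveI : IsIso ((epsPushMod Λ (A : Scheme.{u}) ⋙ EtModW.epsPullMod Λ (A : Scheme.{u})).map (R.map c) ≫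
        (epsAdjMod Λ (A : Scheme.{u})).counit.app (R.obj ((𝟭 (EtModW.ModP Λ X)).obj F))) := inferInstance
    exact IsIso.of_isIso_fac_left q.symm
  haveI : IsIso ((ProEtS.restrP A.ι).map ((fgtP Λ X).map c)) :=
    inferInstanceAs (IsIso ((fgtP Λ (A : Scheme.{u})).map (R.map c)))
  refine bijective_of_isIso_restr A.ι ((fgtP Λ X).map c) V ?_
  rintro _ ⟨v, rfl⟩
  exact ⟨a.base v, congr($(ha).base v)⟩

end GrothLib.ProEtS
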