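import Groth.Agent.Lib.ProEtS.Cover
import Groth.Agent.Lib.WLocal.FiniteExt
import Mathlib.CategoryTheory.Sites.EpiMono
import Mathlib.Algebra.Homology.ShortComplex.ExactFunctor

/-!
# Exactness of direct images when base changes of weakly contractibles are weakly contractible
-/

set_option autoImplicit false
set_option backward.isDefEq.respectTransparency.types false

universe u

open CategoryTheory CategoryTheory.Limits AlgebraicGeometry Opposite

namespace GrothLib.ProEtS

variable {X : Scheme.{u}}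

theorem surjective_app_of_epi {F G : ProEtS.AbP X} (φ : F ⟶ G) [Epi φ] {W : X.ProEt} (hW : ProEtS.IsWC W) :
    Function.Surjective (φ.hom.app (op W)) := by
  haveI : Sheaf.IsLocallySurjective φ := (Sheaf.isLocallySurjective_iff_epi' (φ := φ)).2 ‹_›
  let ψ := (sheafCompose (Scheme.ProEt.topology X) (forget AddCommGrpCat.{u + 1})).map φ
  haveI : Sheaf.IsLocallySurjective ψ :=
    (Presheaf.isLocallySurjective_iff_whisker_forget _ φ.hom).1 ‹_›
  exact hW _ _ ψ inferInstance

variable {Z : Scheme.{u}}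

theorem epi_pushP_map (f : Z ⟶ X) [ProEtS.PCont f]
    (h : ∀ U : X.ProEt, ∃ (ι : Type u) (V : ι → X.ProEt) (g : ∀ i, V i ⟶ U),
      Sieve.generate (Presieve.ofArrows V g) ∈ Scheme.ProEt.topology X U ∧
        ∀ i, ProEtS.IsWC ((ProEtS.bcP f).obj (V i)))
    {F G : ProEtS.AbP Z} (φ : F ⟶ G) [Epi φ] : Epi ((ProEtS.pushP f).map φ) := by
  haveI : Sheaf.IsLocallySurjective ((ProEtS.pushP f).map φ) := ⟨fun {U} s => by
    obtain ⟨ι, V, g, hcov, hV⟩ := h U
    refine GrothendieckTopology.superset_covering _ ?_ hcov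
    rw [Sieve.generate_le_iff]
    rintro _ _ ⟨i⟩
    exact surjective_app_of_epi φ (hV i) _⟩
  infer_instance

theorem exact_pushP (f : Z ⟶ X) [ProEtS.PCont f]
    (h : ∀ U : X.ProEt, ∃ (ι : Type u) (V : ι → X.ProEt) (g : ∀ i, V i ⟶ U),
      Sieve.generate (Presieve.ofArrows V g) ∈ Scheme.ProEt.topology X U ∧
        ∀ i, ProEtS.IsWC ((ProEtS.bcP f).obj (V i))) :
    PreservesFiniteLimits (ProEtS.pushP f) ∧ PreservesFiniteColimits (ProEtS.pushP f) := by
  haveI := (ProEtS.pullPushAdjP f).rightAdjoint_preservesLimits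
  haveI : PreservesFiniteLimits (ProEtS.pushP f) := inferInstance
  refine ((ProEtS.pushP f).exact_tfae.out 0 3).1 fun S hS => ?_
  obtain ⟨he, hm⟩ := ((ProEtS.pushP f).preservesFiniteLimits_iff_forall_exact_map_and_mono).1 inferInstance S hS
  haveI := hS.epi_g
  haveI : Mono (S.map (ProEtS.pushP f)).f := hm
  haveI : Epi (S.map (ProEtS.pushP f)).g := epi_pushP_map f h S.g
  exact { exact := he }

/-- Every object is covered by affine w-contractible objects over affine opens of the base. -/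
theorem exists_family_affine_image (U : X.ProEt) :
    ∃ (ι : Type u) (V : ι → X.ProEt) (g : ∀ i, V i ⟶ U),
      Sieve.generate (Presieve.ofArrows V g) ∈ Scheme.ProEt.topology X U ∧
        ∀ i, IsAffine (V i).left ∧ EtPBC.IsWContractible ↥Γ((V i).left, ⊤) ∧
          ∃ (A : X.Opens) (_ : IsAffineOpen A) (a : (V i).left ⟶ ↑A), a ≫ A.ι = (V i).hom := by
  obtain ⟨V, g, hcov, hV, hl⟩ := exists_family_of_opens' U
    (fun W : {W : U.left.Opens // IsAffineOpen W ∧ ∃ A : X.Opens, IsAffineOpen A ∧ W ≤ U.hom ⁻¹ᵁ A} => W.1)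
    (fun W => W.2.1) fun x => by
      obtain ⟨_, ⟨A, hA, rfl⟩, hxA, -⟩ :=
        X.isBasis_affineOpens.exists_subset_of_mem_open (Set.mem_univ (U.hom x)) isOpen_univ
      obtain ⟨_, ⟨W, hW, rfl⟩, hxW, hle⟩ := U.left.isBasis_affineOpens.exists_subset_of_mem_open
        (a := x) (show x ∈ U.hom ⁻¹ᵁ A from hxA) (U.hom ⁻¹ᵁ A).2
      exact ⟨⟨W, hW, A, hA, hle⟩, hxW⟩
  refine ⟨_, V, g, hcov, fun i => ⟨(hV i).1, (hV i).2, ?_⟩⟩
  obtain ⟨l, hl⟩ := hl i
  obtain ⟨A, hA, hle⟩ := i.2.2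
  refine ⟨A, hA, l ≫ U.hom.resLE A i.1 hle, ?_⟩
  rw [Category.assoc, Scheme.Hom.resLE_comp_ι, ← Category.assoc, hl]
  exact MorphismProperty.Over.w (g i)

theorem isWC_bcP_finite (f : Z ⟶ X) [IsFinite f] [LocallyOfFinitePresentation f] (V : X.ProEt)
    [IsAffine V.left] (hV : EtPBC.IsWContractible ↥Γ(V.left, ⊤)) :
    ProEtS.IsWC ((ProEtS.bcP f).obj V) := by
  let p : ((ProEtS.bcP f).obj V).left ⟶ V.left := pullback.fst V.hom f
  haveI : IsFinite p := MorphismProperty.pullback_fst V.hom f ‹_›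
  haveI : LocallyOfFinitePresentation p := MorphismProperty.pullback_fst V.hom f ‹_›
  haveI : IsAffine ((ProEtS.bcP f).obj V).left := isAffine_of_isAffineHom p
  letI := p.appTop.hom.toAlgebra
  haveI : Module.Finite ↥Γ(V.left, ⊤) ↥Γ(((ProEtS.bcP f).obj V).left, ⊤) :=
    RingHom.finite_algebraMap.1 (IsFinite.finite_app p ⊤ (isAffineOpen_top _))
  haveI : Algebra.FinitePresentation ↥Γ(V.left, ⊤) ↥Γ(((ProEtS.bcP f).obj V).left, ⊤) :=
    RingHom.finitePresentation_algebraMap.1 (HasRingHomProperty.appTop @LocallyOfFinitePresentation p inferInstance)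
  exact isWC_of_isWContractible (WLocal.isWContractible_of_finite _ _ hV)

end GrothLib.ProEtS
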