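import Groth.Agent.Lib.ProEtS.Topology
import Groth.Agent.Lib.WLocal.Contractible
import Mathlib.CategoryTheory.Sites.Pullback

/-!
# Vanishing of extension by zero near a closed subscheme
-/

set_option autoImplicit false
set_option backward.isDefEq.respectTransparency.types false

universe u

open CategoryTheory CategoryTheory.Limits AlgebraicGeometry Opposite

namespace GrothLib.ProEtS

theorem specializes_localization {A : Type u} [CommRing A] (I : Ideal A) (S : Submonoid A)
    (hS : ∀ s ∈ S, s - 1 ∈ I) (hS' : ∀ a ∈ I, 1 + a ∈ S) (q : PrimeSpectrum (Localization S)) :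
    ∃ q' : PrimeSpectrum (Localization S), q ⤳ q' ∧
      (PrimeSpectrum.comap (algebraMap A (Localization S)) q') ∈ PrimeSpectrum.zeroLocus (I : Set A) := by
  obtain ⟨n, hn, hle⟩ := Ideal.exists_le_maximal q.asIdeal q.isPrime.ne_top
  refine ⟨⟨n, hn.isPrime⟩, (PrimeSpectrum.le_iff_specializes _ _).1 hle, fun a ha => ?_⟩
  show algebraMap A (Localization S) a ∈ n
  by_contra h
  obtain ⟨b, c, hc, hbc⟩ := hn.exists_inv h
  obtain ⟨⟨x, s⟩, hx⟩ := IsLocalization.surj S b
  have h1 : algebraMap A (Localization S) (s : A) - algebraMap A (Localization S) (x * a) ∈ n := by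
    have e : algebraMap A (Localization S) (s : A) - algebraMap A (Localization S) (x * a) =
        algebraMap A (Localization S) s * c := by
      rw [map_mul, ← hx]
      linear_combination (algebraMap A (Localization S) (s : A)) * (-hbc)
    rw [e]; exact n.mul_mem_left _ hc
  have hmem : (s : A) - x * a ∈ S := by
    have : (s : A) - x * a = 1 + (((s : A) - 1) - x * a) := by ring
    rw [this]
    exact hS' _ (I.sub_mem (hS _ s.2) (I.mul_mem_left _ ha))
  rw [← map_sub] at h1
  exact hn.ne_top (Ideal.eq_top_of_isUnit_mem _ h1 (IsLocalization.map_units _ ⟨_, hmem⟩))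

theorem mem_range_localization {A : Type u} [CommRing A] (I : Ideal A) (S : Submonoid A)
    (hS : ∀ s ∈ S, s - 1 ∈ I) {p p' : PrimeSpectrum A} (hp : p ⤳ p')
    (hp' : p' ∈ PrimeSpectrum.zeroLocus (I : Set A)) :
    p ∈ Set.range (PrimeSpectrum.comap (algebraMap A (Localization S))) := by
  rw [PrimeSpectrum.localization_comap_range (Localization S) S]
  refine Set.disjoint_left.2 fun s hs hsp => p'.isPrime.ne_top ((Ideal.eq_top_iff_one _).2 ?_)
  have h1 : s ∈ p'.asIdeal := (PrimeSpectrum.le_iff_specializes _ _).2 hp hsp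
  have h2 : s - 1 ∈ p'.asIdeal := hp' (hS s hs)
  simpa using p'.asIdeal.sub_mem h1 h2

/-- The multiplicative set `1 + I`. -/
def oneAdd {A : Type u} [CommRing A] (I : Ideal A) : Submonoid A :=
  (⊥ : Submonoid (A ⧸ I)).comap (Ideal.Quotient.mk I).toMonoidHom

theorem sub_one_mem {A : Type u} [CommRing A] (I : Ideal A) {a : A} (ha : a ∈ oneAdd I) : a - 1 ∈ I := by
  rw [← Ideal.Quotient.eq, map_one]
  exact Submonoid.mem_bot.1 ha

theorem mem_oneAdd {A : Type u} [CommRing A] (I : Ideal A) {a : A} (ha : a ∈ I) : 1 + a ∈ oneAdd I := by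
  show Ideal.Quotient.mk I (1 + a) ∈ (⊥ : Submonoid (A ⧸ I))
  rw [Submonoid.mem_bot, map_add, map_one, Ideal.Quotient.eq_zero_iff_mem.2 ha, add_zero]

/-- The localization of an affine scheme at a closed subset. -/
theorem exists_localization {V : Scheme.{u}} [IsAffine V] {Z : Set V} (hZ : IsClosed Z) :
    ∃ (L : Scheme.{u}) (l : L ⟶ V), IsAffine L ∧ WeaklyEtale l ∧
      (∀ q : L, ∃ q' : L, q ⤳ q' ∧ l q' ∈ Z) ∧ ∀ p p' : V, p ⤳ p' → p' ∈ Z → p ∈ Set.range l := by
  let e := V.isoSpec
  obtain ⟨I, hI⟩ : ∃ I : Ideal Γ(V, ⊤), PrimeSpectrum.zeroLocus (I : Set Γ(V, ⊤)) = e.inv ⁻¹' Z := by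
    obtain ⟨I, hI⟩ := (PrimeSpectrum.isClosed_iff_zeroLocus_ideal _).1 (hZ.preimage e.inv.continuous)
    exact ⟨I, hI.symm⟩
  let S : Submonoid Γ(V, ⊤) := oneAdd I
  let φ : Γ(V, ⊤) ⟶ CommRingCat.of (Localization S) :=
    CommRingCat.ofHom (algebraMap Γ(V, ⊤) (Localization S))
  haveI : WeaklyEtale (Spec.map φ) :=
    WeakEtale.algebra_iff_specMap.2 (IndEt.weaklyEtale (IndEt.isIndEtale_of_isLocalization S))
  refine ⟨Spec (CommRingCat.of (Localization S)), Spec.map φ ≫ e.inv, inferInstance, inferInstance,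
    fun q => ?_, fun p p' hpp hp' => ?_⟩
  · obtain ⟨q', hq, hq'⟩ := specializes_localization I (oneAdd I) (fun _ hs => sub_one_mem I hs)
      (fun _ ha => mem_oneAdd I ha) q
    refine ⟨q', hq, ?_⟩
    rw [hI] at hq'
    exact hq'
  · have h1 : (e.hom p' : PrimeSpectrum Γ(V, ⊤)) ∈ PrimeSpectrum.zeroLocus (I : Set Γ(V, ⊤)) := by
      rw [hI]
      show e.inv (e.hom p') ∈ Z
      rwa [← Scheme.Hom.comp_apply, e.hom_inv_id]
    obtain ⟨q, hq⟩ := mem_range_localization I (oneAdd I) (fun _ hs => sub_one_mem I hs) (hpp.map e.hom.continuous) h1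
    refine ⟨q, ?_⟩
    show e.inv ((Spec.map φ) q) = p
    rw [show (Spec.map φ) q = e.hom p from hq, ← Scheme.Hom.comp_apply, e.hom_inv_id]
    rfl

theorem isZero_lan_of_isEmpty {U X : Scheme.{u}} (j : U ⟶ X) [WeaklyEtale j]
    (G : U.ProEtᵒᵖ ⥤ AddCommGrpCat.{u + 1}) (W : X.ProEt)
    (hW : ∀ V : U.ProEt, IsEmpty (W ⟶ (ProEtS.compP j).obj V)) :
    IsZero (((ProEtS.compP j).op.lan.obj G).obj (op W)) := by
  have hc := Functor.isPointwiseLeftKanExtensionLeftKanExtensionUnit (ProEtS.compP j).op G (op W)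
  rw [IsZero.iff_id_eq_zero]
  exact hc.hom_ext fun k => (hW k.left.unop).elim k.hom.unop

theorem subsingleton_extZeroP {U X Z : Scheme.{u}} (j : U ⟶ X) [WeaklyEtale j] (i : Z ⟶ X)
    [IsClosedImmersion i] (hUZ : Disjoint (Set.range j.base) (Set.range i.base)) [ProEtS.JPCont j]
    (V : X.ProEt) [IsAffine V.left]
    (hV : ∀ v : ↥V.left, ∃ z : ↥V.left, V.hom.base z ∈ Set.range i.base ∧ v ⤳ z)
    (F : ProEtS.AbP U) :
    Subsingleton (ProEtS.sectP ((ProEtS.extZeroP j).obj F) V) := by
  let e := (Functor.sheafPullbackConstruction.sheafPullbackIso (ProEtS.compP j) AddCommGrpCat.{u + 1}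
    (Scheme.ProEt.topology U) (Scheme.ProEt.topology X)).app F
  let P := (ProEtS.compP j).op.lan.obj F.obj
  let G := (presheafToSheaf (Scheme.ProEt.topology X) AddCommGrpCat.{u + 1}).obj P
  suffices h : ∀ s : G.obj.obj (op V), s = 0 by
    haveI : Subsingleton (G.obj.obj (op V)) := ⟨fun a b => (h a).trans (h b).symm⟩
    exact @Equiv.subsingleton _ _ (((sheafToPresheaf _ _).mapIso e).app (op V)).addCommGroupIsoToAddEquiv.toEquiv ‹Subsingleton (G.obj.obj (op V))›
  intro s
  obtain ⟨n, W, g, hW, hs, hsurj⟩ := exists_affine_refinement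
    (Presheaf.imageSieve_mem (Scheme.ProEt.topology X) (toSheafify (Scheme.ProEt.topology X) P) s)
  have hZ : IsClosed (Set.range i.base) := i.isClosedEmbedding.isClosed_range
  choose L l hL hl hLZ hLr using fun k => haveI := hW k
    exists_localization (V := (W k).left) (hZ.preimage (W k).hom.continuous)
  haveI := hl
  haveI := hL
  let W' : Fin n → X.ProEt := fun k => Scheme.ProEt.mk (l k ≫ (W k).hom)
  let q : ∀ k, W' k ⟶ W k := fun k => MorphismProperty.Over.homMk (l k)
  have hempty : ∀ k (Y : U.ProEt), IsEmpty ((W' k).left) ∨ IsEmpty (W' k ⟶ (ProEtS.compP j).obj Y) :=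
    fun k Y => by
      refine (isEmpty_or_nonempty (W' k).left).imp id fun ⟨x⟩ => ⟨fun m => ?_⟩
      obtain ⟨x', -, hx'⟩ := hLZ k x
      refine Set.disjoint_left.1 hUZ ⟨Y.hom.base (m.left x'), ?_⟩ hx'
      exact congr($(MorphismProperty.Over.w m).base x')
  have hcov : Sieve.generate (Presieve.ofArrows W' fun k => q k ≫ g k) ∈ Scheme.ProEt.topology X V := by
    haveI : WeaklyEtale (Sigma.desc fun k => (q k ≫ g k).left) :=
      IsZariskiLocalAtSource.sigmaDesc fun k => weaklyEtale_left (q k ≫ g k)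
    haveI : Surjective (Sigma.desc fun k => (q k ≫ g k).left) := ⟨fun v => by
      obtain ⟨z, hz, hvz⟩ := hV v
      obtain ⟨k, y, hy⟩ := hsurj z
      obtain ⟨y', hy', hyv⟩ : ∃ y', y' ⤳ y ∧ (g k).left y' = v := by
        haveI := weaklyEtale_left (g k)
        exact Flat.generalizingMap (g k).left (hy ▸ hvz) |>.imp fun _ h => h
      have hyZ : (W k).hom.base y ∈ Set.range i.base := by
        have := congr($(MorphismProperty.Over.w (g k)).base y)
        rw [← this]
        show V.hom.base ((g k).left y) ∈ _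
        rw [hy]; exact hz
      obtain ⟨x, hx⟩ := hLr k y' y hy' hyZ
      refine ⟨Sigma.ι (fun k => (W' k).left) k x, ?_⟩
      rw [← Scheme.Hom.comp_apply, Sigma.ι_desc]
      show (g k).left (l k x) = v
      rw [hx, hyv]⟩
    let T : X.ProEt := Scheme.ProEt.mk ((Sigma.desc fun k => (q k ≫ g k).left) ≫ V.hom)
    let t : T ⟶ V := MorphismProperty.Over.homMk (Sigma.desc fun k => (q k ≫ g k).left)
    haveI : Surjective t.left := ‹_›
    haveI : ∀ k, IsAffine (W' k).left := hL
    haveI : IsAffine T.left := inferInstanceAs (IsAffine (∐ fun k => (W' k).left))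
    refine GrothendieckTopology.transitive _ (generate_singleton_mem t) _ ?_
    rintro Y h ⟨_, a, _, ⟨⟩, rfl⟩
    rw [Sieve.pullback_comp]
    refine GrothendieckTopology.pullback_stable _ a ?_
    let T' : ULift.{u} (Fin n) → X.ProEt := fun k => W' k.down
    let tk : ∀ k, T' k ⟶ T := fun k => MorphismProperty.Over.homMk (Sigma.ι (fun k => (W' k).left) k.down)
      (by
        show Sigma.ι (fun k => (W' k).left) k.down ≫ (Sigma.desc fun k => (q k ≫ g k).left) ≫ V.hom = _
        rw [Sigma.ι_desc_assoc, MorphismProperty.Over.w]) trivial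
    refine GrothendieckTopology.superset_covering _ ?_ (ofArrows_mem_of_isOpenMap T' tk
      (fun k => (Sigma.ι (fun k => (W' k).left) k.down).isOpenEmbedding.isOpenMap) fun x => ?_)
    · rw [Sieve.generate_le_iff]
      rintro _ _ ⟨k⟩
      exact ⟨_, 𝟙 _, q k.down ≫ g k.down, ⟨k.down⟩, (Category.id_comp _).trans
        (MorphismProperty.Over.Hom.ext (show (q k.down ≫ g k.down).left = Sigma.ι (fun k => (W' k).left) k.down ≫
          Sigma.desc (fun k => (q k ≫ g k).left) from
            (Sigma.ι_desc (fun k => (q k ≫ g k).left) k.down).symm))⟩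
    · obtain ⟨k, y, hy⟩ := (sigmaOpenCover (fun k => (W' k).left)).exists_eq x
      exact ⟨⟨k⟩, y, hy⟩
  refine (((Presieve.isSheafFor_iff_generate _).2 ((isSheaf_iff_isSheaf_of_type _ _).1
    ((sheafCompose _ (forget AddCommGrpCat.{u + 1})).obj G).property _ hcov)).isSeparatedFor).ext ?_
  rintro _ _ ⟨k⟩
  show G.obj.map (q k ≫ g k).op s = G.obj.map (q k ≫ g k).op 0
  rw [map_zero]
  by_cases hne : IsEmpty (W' k).left
  · exact (((isSheaf_iff_isSheaf_of_type _ _).1
      ((sheafCompose _ (forget AddCommGrpCat.{u + 1})).obj G).property _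
      (Scheme.ProEt.bot_mem_topology (W' k))).isSeparatedFor).ext fun _ _ h => h.elim
  · obtain ⟨t, ht⟩ := hs k
    have h0 : IsZero (P.obj (op (W' k))) :=
      isZero_lan_of_isEmpty j F.obj (W' k) fun Y => (hempty k Y).resolve_left hne
    haveI := AddCommGrpCat.subsingleton_of_isZero h0
    rw [op_comp, Functor.map_comp_apply, ← ht]
    refine (ConcreteCategory.congr_hom ((toSheafify (Scheme.ProEt.topology X) P).naturality (q k).op) t).symm.trans ?_
    show ((toSheafify (Scheme.ProEt.topology X) P).app (op (W' k))) (P.map (q k).op t) = 0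
    rw [Subsingleton.elim (P.map (q k).op t) 0, map_zero]

end GrothLib.ProEtS
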