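import Mathlib.CategoryTheory.Functor.Flat
import Mathlib.CategoryTheory.Functor.KanExtension.Adjunction
import Mathlib.CategoryTheory.Limits.Types.Filtered

/-!
# Elements of left Kan extensions of presheaves along flat functors
-/

set_option autoImplicit false

universe w v₁ v₂ u₁ u₂

open CategoryTheory CategoryTheory.Limits Opposite

namespace GrothLib.LanElements

variable {C : Type u₁} [Category.{v₁} C] {D : Type u₂} [Category.{v₂} D] (L : C ⥤ D)
  (F : Cᵒᵖ ⥤ Type w) [∀ G : Cᵒᵖ ⥤ Type w, L.op.HasPointwiseLeftKanExtension G]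

/-- The element of `lan F` given by `g : Z ⟶ L V` and `s ∈ F V`. -/
noncomputable def mk {Z : D} {V : C} (g : Z ⟶ L.obj V) (s : F.obj (op V)) : (L.op.lan.obj F).obj (op Z) :=
  (L.op.lan.obj F).map g.op ((L.op.lanUnit.app F).app (op V) s)

theorem map_mk {Z Z' : D} (k : Z' ⟶ Z) {V : C} (g : Z ⟶ L.obj V) (s : F.obj (op V)) :
    (L.op.lan.obj F).map k.op (mk L F g s) = mk L F (k ≫ g) s := by
  simp only [mk, op_comp, Functor.map_comp_apply]

theorem mk_comp {Z : D} {V V' : C} (c : V' ⟶ V) (g : Z ⟶ L.obj V') (s : F.obj (op V)) :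
    mk L F (g ≫ L.map c) s = mk L F g (F.map c.op s) := by
  simp only [mk, op_comp, Functor.map_comp_apply]
  exact congrArg _ (ConcreteCategory.congr_hom ((L.op.lanUnit.app F).naturality c.op) s).symm

theorem mk_surjective {Z : D} (a : (L.op.lan.obj F).obj (op Z)) :
    ∃ (V : C) (g : Z ⟶ L.obj V) (s : F.obj (op V)), mk L F g s = a := by
  obtain ⟨j, s, rfl⟩ := Types.jointly_surjective_of_isColimit
    (Functor.isPointwiseLeftKanExtensionLeftKanExtensionUnit L.op F (op Z)) a
  exact ⟨j.left.unop, j.hom.unop, s, rfl⟩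

theorem mk_eq_iff [RepresentablyFlat L] {Z : D} {V : C} (g : Z ⟶ L.obj V) (s t : F.obj (op V)) :
    mk L F g s = mk L F g t ↔
      ∃ (V' : C) (c : V' ⟶ V) (g' : Z ⟶ L.obj V'), g' ≫ L.map c = g ∧ F.map c.op s = F.map c.op t := by
  constructor
  · intro h
    haveI : RepresentablyCoflat L.op := (representablyCoflat_op_iff L).2 ‹_›
    obtain ⟨j, f, e⟩ := (Types.FilteredColimit.isColimit_eq_iff'
      (Functor.isPointwiseLeftKanExtensionLeftKanExtensionUnit L.op F (op Z))
      (i := CostructuredArrow.mk (S := L.op) (Y := op V) g.op) s t).1 h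
    exact ⟨j.left.unop, f.left.unop, j.hom.unop, Quiver.Hom.op_inj (CostructuredArrow.w f), e⟩
  · rintro ⟨V', c, g', rfl, e⟩
    rw [mk_comp, mk_comp, e]

theorem exists_common [RepresentablyFlat L] {Z : D} (a b : (L.op.lan.obj F).obj (op Z)) :
    ∃ (V : C) (g : Z ⟶ L.obj V) (s t : F.obj (op V)), mk L F g s = a ∧ mk L F g t = b := by
  obtain ⟨V₁, g₁, s, rfl⟩ := mk_surjective L F a
  obtain ⟨V₂, g₂, t, rfl⟩ := mk_surjective L F b
  haveI : RepresentablyCoflat L.op := (representablyCoflat_op_iff L).2 ‹_›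
  obtain ⟨j, p, q, -⟩ := IsFilteredOrEmpty.cocone_objs (CostructuredArrow.mk (S := L.op) (Y := op V₁) g₁.op)
    (CostructuredArrow.mk (S := L.op) (Y := op V₂) g₂.op)
  refine ⟨j.left.unop, j.hom.unop, F.map p.left s, F.map q.left t, ?_, ?_⟩
  · refine (mk_comp L F p.left.unop j.hom.unop s).symm.trans ?_
    congr 1
    exact Quiver.Hom.op_inj (CostructuredArrow.w p)
  · refine (mk_comp L F q.left.unop j.hom.unop t).symm.trans ?_
    congr 1
    exact Quiver.Hom.op_inj (CostructuredArrow.w q)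

end GrothLib.LanElements
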