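import Groth.Agent.Lib.ProEtS.Product
import Groth.Agent.Lib.ProEtS.LanElements

/-!
# Left Kan extension along base change turns decompositions into products
-/

set_option autoImplicit false
set_option backward.isDefEq.respectTransparency.types false

universe u

open CategoryTheory CategoryTheory.Limits AlgebraicGeometry Opposite

namespace GrothLib.ProEtS

variable {X Y : Scheme.{u}} (f : X ⟶ Y)

theorem flat_bcP : RepresentablyFlat (ProEtS.bcP f) := by
  haveI : PreservesLimits (CategoryTheory.Over.pullback f) :=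
    (CategoryTheory.Over.mapPullbackAdj f).rightAdjoint_preservesLimits
  haveI : PreservesFiniteLimits (CategoryTheory.Over.pullback f) := inferInstance
  haveI : PreservesFiniteLimits (ProEtS.bcP f ⋙ Scheme.ProEt.forget X) :=
    preservesFiniteLimits_of_natIso
      (F := Scheme.ProEt.forget Y ⋙ CategoryTheory.Over.pullback f)
      (MorphismProperty.Over.pullbackCompForgetIso (P := @WeaklyEtale) (Q := ⊤) f).symm
  haveI : PreservesFiniteLimits (ProEtS.bcP f) :=
    preservesFiniteLimits_of_reflects_of_preserves (ProEtS.bcP f) (Scheme.ProEt.forget X)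
  exact flat_of_preservesFiniteLimits _

/-- Finite coproducts in the pro-étale site. -/
theorem exists_coproduct {n : ℕ} (V : Fin n → Y.ProEt) :
    ∃ (T : Y.ProEt) (j : ∀ i, V i ⟶ T), (∀ i, IsOpenImmersion (j i).left) ∧
      (∀ i k, i ≠ k → Disjoint (Set.range (j i).left) (Set.range (j k).left)) ∧
      ∀ x : T.left, ∃ i y, (j i).left y = x := by
  haveI : WeaklyEtale (Sigma.desc fun i => (V i).hom) := IsZariskiLocalAtSource.sigmaDesc fun i => (V i).prop
  refine ⟨Scheme.ProEt.mk (Sigma.desc fun i => (V i).hom), fun i =>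
    MorphismProperty.Over.homMk (Sigma.ι (fun i => (V i).left) i) (Sigma.ι_desc _ _) trivial,
    fun i => inferInstanceAs (IsOpenImmersion (Sigma.ι (fun i => (V i).left) i)),
    fun i k hik => Set.disjoint_left.2 fun z hz hz' => ?_,
    fun z => (sigmaOpenCover (fun i => (V i).left)).exists_eq z⟩
  exact ((disjoint_opensRange_sigmaι (fun i => (V i).left) i k hik).le_bot
    (show z ∈ _ ⊓ _ from ⟨hz, hz'⟩))

theorem piProp_lan (F : Sheaf (Scheme.ProEt.topology Y) (Type (u + 1))) (W : X.ProEt) :
    PiProp ((ProEtS.bcP f).op.lan.obj F.obj) W := by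
  intro n U hd hu
  haveI := flat_bcP f
  let Wk : Fin n → X.ProEt := fun k => Scheme.ProEt.mk ((U k).ι ≫ W.hom)
  let inc : ∀ k, Wk k ⟶ W := fun k => MorphismProperty.Over.homMk (U k).ι
  haveI : ∀ k, IsOpenImmersion (inc k).left := fun k => inferInstanceAs (IsOpenImmersion (U k).ι)
  obtain ⟨hc⟩ := nonempty_isColimit_cofan Wk inc (fun i j hij => by
      show Disjoint (Set.range (U i).ι) (Set.range (U j).ι)
      rw [Scheme.Opens.range_ι, Scheme.Opens.range_ι]
      exact hd hij)
    (fun x => by
      obtain ⟨k, hk⟩ := Set.mem_iUnion.1 (hu.symm ▸ Set.mem_univ x)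
      exact ⟨k, ⟨x, hk⟩, rfl⟩)
  constructor
  · intro a b h
    obtain ⟨V, g, s, t, rfl, rfl⟩ := LanElements.exists_common (ProEtS.bcP f) F.obj a b
    have hk : ∀ k, ∃ (V' : Y.ProEt) (c : V' ⟶ V) (g' : Wk k ⟶ (ProEtS.bcP f).obj V'),
        g' ≫ (ProEtS.bcP f).map c = inc k ≫ g ∧ F.obj.map c.op s = F.obj.map c.op t := fun k =>
      (LanElements.mk_eq_iff (ProEtS.bcP f) F.obj (inc k ≫ g) s t).1
        (((LanElements.map_mk _ _ (inc k) g s).symm.trans (congrFun h k)).trans
          (LanElements.map_mk _ _ (inc k) g t))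
    choose V' c g' hg hst using hk
    obtain ⟨T, j, hj, hjd, hjs⟩ := exists_coproduct V'
    haveI := hj
    obtain ⟨hT⟩ := nonempty_isColimit_cofan V' j hjd hjs
    refine (LanElements.mk_eq_iff (ProEtS.bcP f) F.obj g s t).2
      ⟨T, Cofan.IsColimit.desc hT c,
        Cofan.IsColimit.desc hc fun k => g' k ≫ (ProEtS.bcP f).map (j k),
        Cofan.IsColimit.hom_ext hc _ _ fun k => ?_,
        (bijective_pi_sheaf F V' j hjd hjs).1 (funext fun k => ?_)⟩
    · rw [Cofan.IsColimit.fac_assoc, Category.assoc, ← Functor.map_comp]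
      exact (congrArg (fun m => g' k ≫ (ProEtS.bcP f).map m) (Cofan.IsColimit.fac hT c k)).trans (hg k)
    · simp only [← Functor.map_comp_apply, ← op_comp]
      have e : j k ≫ Cofan.IsColimit.desc hT c = c k := Cofan.IsColimit.fac hT c k
      rw [e]
      exact hst k
  · intro z
    choose V g s hz using fun k => LanElements.mk_surjective (ProEtS.bcP f) F.obj (z k)
    obtain ⟨T, j, hj, hjd, hjs⟩ := exists_coproduct V
    haveI := hj
    obtain ⟨a, ha⟩ := (bijective_pi_sheaf F V j hjd hjs).2 s
    refine ⟨LanElements.mk (ProEtS.bcP f) F.obj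
      (Cofan.IsColimit.desc hc fun k => g k ≫ (ProEtS.bcP f).map (j k)) a, funext fun k => ?_⟩
    refine (LanElements.map_mk _ _ (inc k) _ a).trans ?_
    have e : inc k ≫ Cofan.IsColimit.desc hc (fun k => g k ≫ (ProEtS.bcP f).map (j k)) =
        g k ≫ (ProEtS.bcP f).map (j k) := Cofan.IsColimit.fac hc _ k
    rw [e, LanElements.mk_comp, ← hz k]
    exact congrArg _ (congrFun ha k)

end GrothLib.ProEtS
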