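import Groth.Agent.Lib.ProEtS.Topology
import Mathlib.CategoryTheory.Adjunction.Triple

/-!
# Open immersions and the small pro-étale site
-/

set_option autoImplicit false
set_option backward.isDefEq.respectTransparency.types false

universe u

open CategoryTheory CategoryTheory.Limits AlgebraicGeometry Opposite

namespace GrothLib.ProEtS

variable {U X : Scheme.{u}} (j : U ⟶ X) [WeaklyEtale j]

/-- `compP j ⊣ bcP j`. -/
noncomputable def compBCAdjP : ProEtS.compP j ⊣ ProEtS.bcP j :=
  MorphismProperty.Over.mapPullbackAdj @WeaklyEtale ⊤ j ‹_› trivial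

/-- `j⁻¹ ⊣ j_*` with restriction as the left adjoint. -/
noncomputable def restrPushAdjP [ProEtS.JPCont j] [ProEtS.PCont j] : ProEtS.restrP j ⊣ ProEtS.pushP j :=
  (compBCAdjP j).sheafPushforwardContinuous (Scheme.ProEt.topology U) (Scheme.ProEt.topology X)

theorem isIso_compBCAdjP_unit [Mono j] : IsIso (compBCAdjP j).unit := by
  haveI : (ProEtS.compP j).Faithful := ⟨fun {A B} a b h =>
    MorphismProperty.Over.Hom.ext (congrArg (fun m : (ProEtS.compP j).obj A ⟶ (ProEtS.compP j).obj B => m.left) h)⟩
  haveI : (ProEtS.compP j).Full := ⟨fun {A B} h =>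
    ⟨MorphismProperty.Over.homMk h.left ((cancel_mono j).1 <| by
        rw [Category.assoc]
        exact MorphismProperty.Over.w h) trivial,
      MorphismProperty.Over.Hom.ext rfl⟩⟩
  infer_instance

theorem fullyFaithful_unit_counit [Mono j] [ProEtS.JPCont j] [ProEtS.PCont j] (F G : ProEtS.AbP U) :
    IsIso ((ProEtS.extZeroPAdj j).unit.app F) ∧ IsIso ((ProEtS.pullPushAdjP j).counit.app G) := by
  haveI := isIso_compBCAdjP_unit j
  haveI : IsIso (restrPushAdjP j).counit := by
    haveI : ∀ P : ProEtS.AbP U, IsIso ((restrPushAdjP j).counit.app P) := fun P => by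
      haveI : ∀ V, IsIso (((restrPushAdjP j).counit.app P).hom.app V) := fun V => by
        show IsIso (P.obj.map ((compBCAdjP j).op.counit.app V))
        haveI : IsIso ((compBCAdjP j).op.counit.app V) :=
          inferInstanceAs (IsIso ((compBCAdjP j).unit.app V.unop).op)
        infer_instance
      haveI : IsIso ((sheafToPresheaf _ _).map ((restrPushAdjP j).counit.app P)) :=
        show IsIso ((restrPushAdjP j).counit.app P).hom from NatIso.isIso_of_isIso_app _
      exact isIso_of_reflects_iso _ (sheafToPresheaf _ _)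
    exact NatIso.isIso_of_isIso_app _
  let t : Adjunction.Triple (ProEtS.extZeroP j) (ProEtS.restrP j) (ProEtS.pushP j) :=
    ⟨ProEtS.extZeroPAdj j, restrPushAdjP j⟩
  haveI : IsIso (ProEtS.extZeroPAdj j).unit := t.isIso_unit_iff_isIso_counit.2 inferInstance
  haveI := (restrPushAdjP j).fullyFaithfulROfIsIsoCounit.full
  haveI := (restrPushAdjP j).fullyFaithfulROfIsIsoCounit.faithful
  exact ⟨inferInstance, inferInstance⟩

end GrothLib.ProEtS
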