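import Groth.Agent.Lib.ProEtS.Cover
import Mathlib.CategoryTheory.Sites.Point.Conservative
import Mathlib.CategoryTheory.Sites.Point.OfIsCofiltered
import Mathlib.Topology.Sets.Closeds

/-!
# Points of the small pro-étale site
-/

set_option autoImplicit false
set_option backward.isDefEq.respectTransparency.types false

universe u

open CategoryTheory CategoryTheory.Limits AlgebraicGeometry Opposite TopologicalSpace

namespace GrothLib.ProEtS

variable {X : Scheme.{u}}

/-- The clopen neighbourhoods of a point. -/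
def Nbhd (W : X.ProEt) (x : W.left) : Type u := {O : Clopens W.left // x ∈ O}

variable (W : X.ProEt) (x : W.left)

instance : Preorder (Nbhd W x) := inferInstanceAs (Preorder {O : Clopens W.left // x ∈ O})

instance : Nonempty (Nbhd W x) := ⟨⟨⊤, trivial⟩⟩

instance : IsDirected (Nbhd W x) (· ≥ ·) :=
  ⟨fun a b => ⟨⟨a.1 ⊓ b.1, a.2, b.2⟩, fun _ h => h.1, fun _ h => h.2⟩⟩

instance : IsCofiltered (Nbhd W x) := isCofiltered_of_directed_ge_nonempty _

variable {W x}

/-- The open subscheme of a neighbourhood. -/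
abbrev Nbhd.opens (O : Nbhd W x) : W.left.Opens := ⟨(O.1 : Set W.left), O.1.isClopen.isOpen⟩

theorem Nbhd.opens_mono {O O' : Nbhd W x} (h : O ⟶ O') : O.opens ≤ O'.opens := fun _ hy => h.le hy

variable (W x)

/-- The diagram of clopen neighbourhoods in the pro-étale site. -/
@[reducible] noncomputable def nbhdFunctor : Nbhd W x ⥤ X.ProEt where
  obj O := Scheme.ProEt.mk (O.opens.ι ≫ W.hom)
  map {O O'} h := MorphismProperty.Over.homMk (W.left.homOfLE (Nbhd.opens_mono h)) (Scheme.homOfLE_ι_assoc _ _ _) trivial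
  map_id O := MorphismProperty.Over.Hom.ext (W.left.homOfLE_rfl _)
  map_comp f g := MorphismProperty.Over.Hom.ext (W.left.homOfLE_homOfLE (Nbhd.opens_mono f) (Nbhd.opens_mono g)).symm

noncomputable def nbhdIncl (O : Nbhd W x) : (nbhdFunctor W x).obj O ⟶ W :=
  (MorphismProperty.Over.homMk O.opens.ι : Scheme.ProEt.mk (O.opens.ι ≫ W.hom) ⟶ W)

theorem map_nbhdIncl {O O' : Nbhd W x} (h : O ⟶ O') :
    (nbhdFunctor W x).map h ≫ nbhdIncl W x O' = nbhdIncl W x O :=
  MorphismProperty.Over.Hom.ext (show W.left.homOfLE (Nbhd.opens_mono h) ≫ O'.opens.ι = O.opens.ι from W.left.homOfLE_ι _)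

instance (O : Nbhd W x) : Mono (nbhdIncl W x O) :=
  ⟨fun {Z} a b h => MorphismProperty.Over.Hom.ext <| by
    exact (cancel_mono O.opens.ι).1 (congrArg (fun m : Z ⟶ W => m.left) h)⟩

theorem exists_refinement (hW : ClopenRefined W) {Y : X.ProEt} {R : Sieve Y}
    (hR : R ∈ Scheme.ProEt.topology X Y) {O : Nbhd W x} (f : (nbhdFunctor W x).obj O ⟶ Y) :
    ∃ (Z : X.ProEt) (g : Z ⟶ Y) (_ : R g) (O' : Nbhd W x) (q : O' ⟶ O)
      (a : (nbhdFunctor W x).obj O' ⟶ Z), a ≫ g = (nbhdFunctor W x).map q ≫ f := by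
  let Oc : W.left.Opens := ⟨(O.1 : Set W.left)ᶜ, O.1.isClopen.compl.isOpen⟩
  let C : X.ProEt := Scheme.ProEt.mk (Oc.ι ≫ W.hom)
  let c : C ⟶ W := MorphismProperty.Over.homMk Oc.ι
  let R' : Sieve W := (R.pullback f).pushforward (nbhdIncl W x O) ⊔ Sieve.generate (Presieve.singleton c)
  let P : ULift.{u} Bool → X.ProEt := fun b => Bool.rec C ((nbhdFunctor W x).obj O) b.down
  let ι : ∀ b, P b ⟶ W := fun b => Bool.rec (motive := fun t => P ⟨t⟩ ⟶ W) c (nbhdIncl W x O) b.down
  have hcov : R' ∈ Scheme.ProEt.topology X W := by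
    refine GrothendieckTopology.transitive _
      (ofArrows_mem_of_isOpenMap P ι (fun b => ?_) fun y => ?_) _ ?_
    · obtain ⟨_ | _⟩ := b
      · exact Oc.ι.isOpenEmbedding.isOpenMap
      · exact O.opens.ι.isOpenEmbedding.isOpenMap
    · by_cases h : y ∈ O.1
      · exact ⟨⟨true⟩, (⟨y, h⟩ : O.opens), rfl⟩
      · exact ⟨⟨false⟩, (⟨y, h⟩ : Oc), rfl⟩
    · rintro Z h ⟨_, a, _, ⟨b⟩, rfl⟩
      rw [Sieve.pullback_comp]
      refine GrothendieckTopology.pullback_stable _ a ?_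
      obtain ⟨_ | _⟩ := b
      · refine GrothendieckTopology.superset_covering _ (S := ⊤) ?_ (GrothendieckTopology.top_mem _ _)
        exact fun V g _ => Or.inr ⟨_, g, c, ⟨⟩, rfl⟩
      · refine GrothendieckTopology.superset_covering _ ?_
          ((Scheme.ProEt.topology X).pullback_stable f hR)
        exact fun V g hg => Or.inl ⟨g, rfl, hg⟩
  obtain ⟨n, Wk, hclop, -, hu, hmem⟩ := hW R' hcov
  obtain ⟨k, hk⟩ := Set.mem_iUnion.1 (hu.symm ▸ Set.mem_univ x)
  rcases hmem k with ⟨a, hac, ha⟩ | ⟨_, a, _, ⟨⟩, hac⟩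
  · have hsub : (Wk k : Set W.left) ⊆ (O.1 : Set W.left) := fun y hy => by
      have e := congr($(hac).left.base ⟨y, hy⟩)
      exact (show (a.left ⟨y, hy⟩).1 = y from e) ▸ (a.left ⟨y, hy⟩).2
    refine ⟨_, a ≫ f, ha, ⟨⟨_, hclop k⟩, hk⟩, homOfLE hsub, 𝟙 _, ?_⟩
    refine (Category.id_comp _).trans ?_
    congr 1
    rw [← cancel_mono (nbhdIncl W x O), hac, map_nbhdIncl]
    rfl
  · have e := congr($(hac).left.base ⟨x, hk⟩)
    have h3 : (a.left ⟨x, hk⟩).1 ∈ (Oc : Set W.left) := (a.left ⟨x, hk⟩).2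
    rw [show (a.left ⟨x, hk⟩).1 = x from e] at h3
    exact absurd O.2 h3

instance : InitiallySmall.{u + 1} (Nbhd W x) := by
  haveI : EssentiallySmall.{u + 1} (Nbhd W x) := EssentiallySmall.mk' (AsSmall.equiv : Nbhd W x ≌ AsSmall.{u + 1} (Nbhd W x))
  exact initiallySmall_of_essentiallySmall _

/-- The point attached to a point of a weakly contractible affine object. -/
noncomputable def point (hW : ClopenRefined W) :
    GrothendieckTopology.Point.{u + 1} (Scheme.ProEt.topology X) :=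
  GrothendieckTopology.Point.ofIsCofiltered.{u + 1} (nbhdFunctor W x)
    fun _ _ hR _ f => exists_refinement W x hW hR f

open GrothendieckTopology.Point.ofIsCofiltered in
theorem mem_of_points {Y : X.ProEt} (S : Sieve Y)
    (hS : ∀ (W : X.ProEt) (x : W.left) (hW : ClopenRefined W) (z : (point W x hW).fiber.obj Y),
      ∃ (Z : X.ProEt) (g : Z ⟶ Y) (_ : S g) (y : (point W x hW).fiber.obj Z),
        (point W x hW).fiber.map g y = z) :
    S ∈ Scheme.ProEt.topology X Y := by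
  obtain ⟨ι, V, g, hcov, hV⟩ := exists_family_wContractible Y
  refine GrothendieckTopology.transitive _ hcov _ ?_
  rintro Z h ⟨_, a, _, ⟨i⟩, rfl⟩
  rw [Sieve.pullback_comp]
  refine GrothendieckTopology.pullback_stable _ a ?_
  haveI := (hV i).1
  have key : ∀ y : (V i).left, ∃ O : Nbhd (V i) y, S (nbhdIncl (V i) y O ≫ g i) := fun y => by
    obtain ⟨Z', g', hg', z', hz'⟩ := hS (V i) y (clopenRefined_of_isWContractible (hV i).2)
      (fiberMk.{u + 1} (p := nbhdFunctor (V i) y) (nbhdIncl (V i) y ⟨⊤, trivial⟩ ≫ g i))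
    obtain ⟨O, b, rfl⟩ := fiberMk_jointly_surjective.{u + 1} z'
    obtain ⟨O₁, q₁, q₂, -⟩ := IsCofilteredOrEmpty.cone_objs O (⟨⊤, trivial⟩ : Nbhd (V i) y)
    have e : fiberMk.{u + 1} (p := nbhdFunctor (V i) y) ((nbhdFunctor (V i) y).map q₁ ≫ b ≫ g') =
        fiberMk.{u + 1} ((nbhdFunctor (V i) y).map q₂ ≫ nbhdIncl (V i) y ⟨⊤, trivial⟩ ≫ g i) := by
      rw [fiberMk_map_comp.{u + 1}, fiberMk_map_comp.{u + 1}]
      exact (fiber_map_fiberMk.{u + 1} _ _ _).symm.trans hz'
    obtain ⟨O₂, r, hr⟩ := exists_of_fiberMk_eq_fiberMk.{u + 1} e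
    refine ⟨O₂, ?_⟩
    rw [← map_nbhdIncl (V i) y (r ≫ q₂), Functor.map_comp, Category.assoc, Category.assoc, ← hr]
    exact S.downward_closed (S.downward_closed (S.downward_closed hg' b) _) _
  choose O hO using key
  refine GrothendieckTopology.superset_covering _ ?_
    (ofArrows_mem_of_isOpenMap (fun y => (nbhdFunctor (V i) y).obj (O y))
      (fun y => nbhdIncl (V i) y (O y)) (fun y => (O y).opens.ι.isOpenEmbedding.isOpenMap)
      fun y => ⟨y, ⟨y, (O y).2⟩, rfl⟩)
  rw [Sieve.generate_le_iff]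
  rintro _ _ ⟨y⟩
  exact hO y

theorem hasEnoughPoints (X : Scheme.{u}) :
    GrothendieckTopology.HasEnoughPoints.{u + 1} (Scheme.ProEt.topology X) := by
  let Φ : (Σ W : {W : X.ProEt // ClopenRefined W}, W.1.left) →
      GrothendieckTopology.Point.{u + 1} (Scheme.ProEt.topology X) :=
    fun i => point i.1.1 i.2 i.1.2
  refine ⟨⟨ObjectProperty.ofObj Φ, inferInstance,
    ObjectProperty.IsConservativeFamilyOfPoints.mk' fun Y S h => mem_of_points S fun W x hW z => ?_⟩⟩
  exact h ⟨_, ObjectProperty.ofObj_apply Φ ⟨⟨W, hW⟩, x⟩⟩ z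

end GrothLib.ProEtS
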