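import Groth.Agent.S0707
import Groth.Agent.Lib.ProEtS.ClosedDense
import Groth.Agent.Lib.ProEtS.Closed
import Groth.Agent.Lib.ProEtS.ExtZero
import Groth.Agent.Lib.ProEtS.OpenImm
import Groth.Agent.Lib.ProEtS.LanPi
import Groth.Agent.Lib.ProEtS.LanAb
import Groth.Agent.Lib.ProEtS.Points
import Groth.Agent.Lib.ProEtS.EpsUnit

/-!
# Open and closed pieces of the small pro-étale site

For a closed immersion `i` with quasi-compact open complement `j`, every object is covered by
objects over the open part and by affine w-contractible objects all of whose points specialise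
into the closed part.  On the latter `F → i_* i⁻¹ F` is bijective and `j_!` vanishes.
-/

set_option autoImplicit false
set_option linter.style.haveILetI false
set_option backward.isDefEq.respectTransparency.types false

universe u

open CategoryTheory CategoryTheory.Limits AlgebraicGeometry Opposite

noncomputable section

namespace GrothLib.ProEtS

variable {X Z U : Scheme.{u}}

/-- Lying over the open part. -/
def OverU (j : U ⟶ X) (T : X.ProEt) : Prop := Set.range T.hom.base ⊆ Set.range j.base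

/-- Affine w-contractible, all points specialising into the closed part. -/
def ZLoc (i : Z ⟶ X) (T : X.ProEt) : Prop :=
  IsAffine T.left ∧ ProEtS.IsWC T ∧
    ∀ v : ↥T.left, ∃ z : ↥T.left, T.hom.base z ∈ Set.range i.base ∧ v ⤳ z

/-- The localization of an affine w-contractible object along a constructible closed set is
w-contractible. -/
theorem exists_wc_localization {V : X.ProEt} [IsAffine V.left] (hV : EtPBC.IsWContractible ↥Γ(V.left, ⊤))
    {C : Set V.left} (hC : IsClosed C) (hqc : IsCompact Cᶜ) :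
    ∃ (L : X.ProEt) (l : L ⟶ V), IsAffine L.left ∧ ProEtS.IsWC L ∧
      (∀ q : L.left, ∃ q' : L.left, q ⤳ q' ∧ l.left q' ∈ C) ∧
      ∀ p p' : V.left, p ⤳ p' → p' ∈ C → p ∈ Set.range l.left := by
  classical
  let A := ↥Γ(V.left, ⊤)
  let e := V.left.isoSpec
  have hC' : IsClosed (e.inv ⁻¹' C) := hC.preimage e.inv.continuous
  have hqc' : IsCompact (e.inv ⁻¹' C : Set (PrimeSpectrum A))ᶜ := by
    have := hqc.image e.hom.continuous
    refine (?_ : (e.inv ⁻¹' C : Set (PrimeSpectrum A))ᶜ = e.hom '' Cᶜ) ▸ this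
    refine Set.ext fun x => ?_
    refine ⟨fun hx => ⟨e.inv x, hx, by rw [← Scheme.Hom.comp_apply, e.inv_hom_id]; rfl⟩, ?_⟩
    rintro ⟨y, hy, rfl⟩ h
    apply hy
    have h' : e.inv (e.hom y) ∈ C := h
    rwa [← Scheme.Hom.comp_apply, e.hom_inv_id] at h'
  obtain ⟨t, ht⟩ := PrimeSpectrum.isCompact_isOpen_iff.1 ⟨hqc', hC'.isOpen_compl⟩
  have hI : PrimeSpectrum.zeroLocus (t : Set A) = e.inv ⁻¹' C := compl_inj_iff.1 ht
  let I : Ideal A := Ideal.span (t : Set A)
  have hI' : PrimeSpectrum.zeroLocus (I : Set A) = e.inv ⁻¹' C := by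
    rw [PrimeSpectrum.zeroLocus_span]; exact hI
  let S : Submonoid A := oneAdd I
  let φ : Γ(V.left, ⊤) ⟶ CommRingCat.of (Localization S) :=
    CommRingCat.ofHom (algebraMap A (Localization S))
  haveI : WeaklyEtale (Spec.map φ) :=
    WeakEtale.algebra_iff_specMap.2 (IndEt.weaklyEtale (IndEt.isIndEtale_of_isLocalization S))
  haveI : WeaklyEtale V.hom := V.prop
  let L : X.ProEt := Scheme.ProEt.mk ((Spec.map φ ≫ e.inv) ≫ V.hom)
  let l : L ⟶ V := MorphismProperty.Over.homMk (Spec.map φ ≫ e.inv)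
  have hspec := fun q => specializes_localization I S (fun _ hs => sub_one_mem I hs)
      (fun _ ha => mem_oneAdd I ha) q
  haveI : IsAffine L.left := inferInstanceAs (IsAffine (Spec (CommRingCat.of (Localization S))))
  have hB : EtPBC.IsWContractible (Localization S) := by
    refine Groth.Agent.S0707.result A (Localization S) S t ?_ hV
    ext p
    constructor
    · rintro ⟨q, rfl⟩
      obtain ⟨q', hq, hq'⟩ := hspec q
      exact ⟨_, hI.symm ▸ (hI' ▸ hq'), hq.map (PrimeSpectrum.continuous_comap _)⟩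
    · rintro ⟨z, hz, hpz⟩
      exact mem_range_localization I S (fun _ hs => sub_one_mem I hs) hpz
        (hI'.symm ▸ (hI ▸ hz))
  refine ⟨L, l, inferInstance, ?_, fun q => ?_, fun p p' hpp hp' => ?_⟩
  · exact isWC_of_isWContractible (isWContractible_of_ringEquiv
      (Scheme.ΓSpecIso (CommRingCat.of (Localization S))).symm.commRingCatIsoToRingEquiv hB)
  · obtain ⟨q', hq, hq'⟩ := hspec q
    refine ⟨q', hq, ?_⟩
    rw [hI'] at hq'
    exact hq'
  · have h1 : (e.hom p' : PrimeSpectrum A) ∈ PrimeSpectrum.zeroLocus (I : Set A) := by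
      rw [hI']
      show e.inv (e.hom p') ∈ C
      rwa [← Scheme.Hom.comp_apply, e.hom_inv_id]
    obtain ⟨q, hq⟩ := mem_range_localization I S (fun _ hs => sub_one_mem I hs) (hpp.map e.hom.continuous) h1
    refine ⟨q, ?_⟩
    show e.inv ((Spec.map φ) q) = p
    rw [show (Spec.map φ) q = e.hom p from hq, ← Scheme.Hom.comp_apply, e.hom_inv_id]
    rfl

/-- Finite reindexing of affine covers of an affine. -/
theorem ofArrows_mem_of_affine_finite {T : X.ProEt} [IsAffine T.left] {κ : Type*} [Finite κ]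
    (V : κ → X.ProEt) (hV : ∀ k, IsAffine (V k).left) (f : ∀ k, V k ⟶ T)
    (hs : ∀ x : T.left, ∃ k y, (f k).left y = x) :
    Sieve.generate (Presieve.ofArrows V f) ∈ Scheme.ProEt.topology X T := by
  obtain ⟨n, ⟨e⟩⟩ := Finite.exists_equiv_fin κ
  haveI := fun m => hV (e.symm m)
  refine GrothendieckTopology.superset_covering _ ?_
    (ofArrows_mem_of_affine (fun m => V (e.symm m)) (fun m => f (e.symm m)) fun x => ?_)
  · rw [Sieve.generate_le_iff]
    rintro _ _ ⟨m⟩
    exact ⟨_, 𝟙 _, f (e.symm m), ⟨e.symm m⟩, Category.id_comp _⟩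
  · obtain ⟨k, y, hy⟩ := hs x
    obtain ⟨m, rfl⟩ := e.symm.surjective k
    exact ⟨m, y, hy⟩

variable (i : Z ⟶ X) [IsClosedImmersion i] (j : U ⟶ X) [IsOpenImmersion j]

omit [IsOpenImmersion j] in
/-- Every object is covered by objects of the two classes. -/
theorem exists_class_cover [QuasiCompact j] (hc : Set.range j.base = (Set.range i.base)ᶜ) (T : X.ProEt) :
    ∃ R ∈ Scheme.ProEt.topology X T, ∀ ⦃W : X.ProEt⦄ (f : W ⟶ T), R f →
      ∃ (W' : X.ProEt) (a : W ⟶ W') (f' : W' ⟶ T), a ≫ f' = f ∧ (OverU j W' ∨ ZLoc i W') := by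
  obtain ⟨ι, V, g, hcov, hV⟩ := exists_family_wContractible T
  let R : Sieve T :=
    { arrows := fun W f => ∃ (W' : X.ProEt) (a : W ⟶ W') (f' : W' ⟶ T),
        a ≫ f' = f ∧ (OverU j W' ∨ ZLoc i W')
      downward_closed := by
        rintro W W₁ f ⟨W', a, f', rfl, h⟩ b
        exact ⟨W', b ≫ a, f', Category.assoc _ _ _, h⟩ }
  refine ⟨R, ?_, fun W f h => h⟩
  refine GrothendieckTopology.transitive _ hcov _ ?_
  rintro Y h ⟨_, b, _, ⟨k⟩, rfl⟩
  rw [Sieve.pullback_comp]
  refine GrothendieckTopology.pullback_stable _ b ?_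
  haveI := (hV k).1
  let C : Set (V k).left := (V k).hom ⁻¹' Set.range i.base
  have hC : IsClosed C := i.isClosedEmbedding.isClosed_range.preimage (V k).hom.continuous
  have hqc : IsCompact Cᶜ := by
    have h1 : Cᶜ = Set.range (pullback.fst (V k).hom j).base := by
      rw [Scheme.Pullback.range_fst, hc]
      rfl
    rw [h1]
    haveI : QuasiCompact (pullback.fst (V k).hom j) := MorphismProperty.pullback_fst _ _ ‹_›
    haveI : CompactSpace ↥((𝟭 Scheme).obj (V k).left) := inferInstanceAs (CompactSpace ↥(V k).left)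
    haveI : CompactSpace ↥(pullback (V k).hom j) := QuasiCompact.compactSpace_of_compactSpace (pullback.fst (V k).hom j)
    exact isCompact_range (pullback.fst (V k).hom j).continuous
  obtain ⟨L, l, hL, hLwc, hLs, hLr⟩ := exists_wc_localization (hV k).2 hC hqc
  obtain ⟨t, ht⟩ := hqc.elim_finite_subcover
    (fun O : {O : (V k).left.Opens // IsAffineOpen O ∧ (O : Set (V k).left) ⊆ Cᶜ} => (O.1 : Set (V k).left))
    (fun O => O.1.2) fun x hx => by
      obtain ⟨_, ⟨O, hO, rfl⟩, hxO, hle⟩ :=
        (V k).left.isBasis_affineOpens.exists_subset_of_mem_open hx hC.isOpen_compl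
      exact Set.mem_iUnion.2 ⟨⟨O, hO, hle⟩, hxO⟩
  let W : Option ↥t → X.ProEt := fun o => o.elim L fun O => Scheme.ProEt.mk (O.1.1.ι ≫ (V k).hom)
  let w : ∀ o, W o ⟶ V k := fun o => match o with
    | none => l
    | some O => MorphismProperty.Over.homMk O.1.1.ι
  have hW : ∀ o, IsAffine (W o).left := fun o => match o with
    | none => hL
    | some O => O.1.2.1
  refine GrothendieckTopology.superset_covering _ ?_ (ofArrows_mem_of_affine_finite W hW w fun x => ?_)
  · rw [Sieve.generate_le_iff]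
    rintro _ _ ⟨o⟩
    refine ⟨W o, 𝟙 _, w o ≫ g k, Category.id_comp _, ?_⟩
    cases o with
    | none =>
      refine Or.inr ⟨hL, hLwc, fun v => ?_⟩
      obtain ⟨z, hvz, hz⟩ := hLs v
      refine ⟨z, ?_, hvz⟩
      have hw : (V k).hom.base (l.left z) = L.hom.base z := congr($(MorphismProperty.Over.w l).base z)
      show L.hom.base z ∈ _
      rw [← hw]
      exact hz
    | some O =>
      refine Or.inl ?_
      rintro _ ⟨y, rfl⟩
      rw [hc]
      exact O.1.2.2 y.2
  · by_cases hx : x ∈ C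
    · obtain ⟨y, hy⟩ := hLr x x (specializes_rfl) hx
      exact ⟨none, y, hy⟩
    · obtain ⟨O, hO, hxO⟩ := Set.mem_iUnion₂.1 (ht hx)
      exact ⟨some ⟨O, hO⟩, ⟨x, hxO⟩, rfl⟩

/-- Sections are separated for covers by the classes. -/
theorem sections_ext (G : ProEtS.AbP X) {T : X.ProEt} {R : Sieve T}
    (hR : R ∈ Scheme.ProEt.topology X T) {x y : G.obj.obj (op T)}
    (h : ∀ ⦃W : X.ProEt⦄ (f : W ⟶ T), R f → G.obj.map f.op x = G.obj.map f.op y) : x = y :=
  ((((isSheaf_iff_isSheaf_of_type _ _).1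
    ((sheafCompose (Scheme.ProEt.topology X) (forget AddCommGrpCat.{u + 1})).obj G).property) _ hR).isSeparatedFor).ext h

section Criterion

variable [QuasiCompact j] (hc : Set.range j.base = (Set.range i.base)ᶜ)

include hc in
theorem hom_ext_of_class {A B : ProEtS.AbP X} (φ ψ : A ⟶ B)
    (h : ∀ T, OverU j T ∨ ZLoc i T → φ.hom.app (op T) = ψ.hom.app (op T)) : φ = ψ := by
  apply Sheaf.hom_ext
  ext T s
  obtain ⟨R, hR, hR'⟩ := exists_class_cover i j hc T.unop
  refine sections_ext B hR fun W f hf => ?_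
  obtain ⟨W', a, f', rfl, hW'⟩ := hR' f hf
  rw [op_comp, Functor.map_comp_apply, Functor.map_comp_apply]
  refine congrArg _ ?_
  erw [← NatTrans.naturality_apply φ.hom f'.op s, ← NatTrans.naturality_apply ψ.hom f'.op s, h W' hW']

include hc in
theorem mono_of_class {A B : ProEtS.AbP X} (φ : A ⟶ B)
    (h : ∀ T, OverU j T ∨ ZLoc i T → Function.Injective (φ.hom.app (op T))) : Mono φ := by
  haveI : Sheaf.IsLocallyInjective φ := ⟨fun {T} x y hxy => by
    obtain ⟨R, hR, hR'⟩ := exists_class_cover i j hc T.unop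
    refine GrothendieckTopology.superset_covering _ (fun W f hf => ?_) hR
    obtain ⟨W', a, f', rfl, hW'⟩ := hR' f hf
    show A.obj.map (a ≫ f').op x = A.obj.map (a ≫ f').op y
    rw [op_comp, Functor.map_comp_apply, Functor.map_comp_apply]
    refine congrArg _ (h W' hW' ?_)
    erw [NatTrans.naturality_apply φ.hom f'.op x, NatTrans.naturality_apply φ.hom f'.op y, hxy]⟩
  exact Sheaf.mono_of_isLocallyInjective φ

include hc in
theorem epi_of_class {A B : ProEtS.AbP X} (φ : A ⟶ B)
    (h : ∀ T, OverU j T ∨ ZLoc i T → Function.Surjective (φ.hom.app (op T))) : Epi φ := by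
  haveI : Sheaf.IsLocallySurjective φ := ⟨fun {T} s => by
    obtain ⟨R, hR, hR'⟩ := exists_class_cover i j hc T
    refine GrothendieckTopology.superset_covering _ (fun W f hf => ?_) hR
    obtain ⟨W', a, f', rfl, hW'⟩ := hR' f hf
    obtain ⟨r, hr⟩ := h W' hW' (B.obj.map f'.op s)
    refine ⟨A.obj.map a.op r, ?_⟩
    erw [NatTrans.naturality_apply φ.hom a.op r, hr]
    rw [op_comp, Functor.map_comp_apply]⟩
  infer_instance

include hc in
theorem isIso_of_class {A B : ProEtS.AbP X} (φ : A ⟶ B)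
    (h : ∀ T, OverU j T ∨ ZLoc i T → Function.Bijective (φ.hom.app (op T))) : IsIso φ :=
  haveI := mono_of_class i j hc φ fun T hT => (h T hT).1
  haveI := epi_of_class i j hc φ fun T hT => (h T hT).2
  isIso_of_mono_of_epi φ

end Criterion

/-! ### Values on the classes -/

omit [IsClosedImmersion i] [IsOpenImmersion j] in
theorem subsingleton_pushP_overU [ProEtS.PCont i]
    (hd : Disjoint (Set.range j.base) (Set.range i.base))
    (K : ProEtS.AbP Z) (T : X.ProEt) (hT : OverU j T) :
    Subsingleton (((ProEtS.pushP i).obj K).obj.obj (op T)) := by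
  haveI : IsEmpty ↥((ProEtS.bcP i).obj T).left := ⟨fun p => by
    change ↥(pullback T.hom i) at p
    refine Set.disjoint_left.1 hd (hT ⟨pullback.fst T.hom i p, rfl⟩) ⟨pullback.snd T.hom i p, ?_⟩
    show (pullback.snd T.hom i ≫ i) p = (pullback.fst T.hom i ≫ T.hom) p
    rw [pullback.condition]⟩
  exact ⟨fun a b => (((isSheaf_iff_isSheaf_of_type _ _).1
    ((sheafCompose _ (forget AddCommGrpCat.{u + 1})).obj K).property _
    (Scheme.ProEt.bot_mem_topology ((ProEtS.bcP i).obj T))).isSeparatedFor).ext fun _ _ h => h.elim⟩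

theorem exists_iso_compP (T : X.ProEt) (hT : OverU j T) :
    ∃ T₀ : U.ProEt, Nonempty ((ProEtS.compP j).obj T₀ ≅ T) := by
  let l : T.left ⟶ U := IsOpenImmersion.lift j T.hom hT
  have hl : l ≫ j = T.hom := IsOpenImmersion.lift_fac _ _ _
  haveI : WeaklyEtale (l ≫ j) := hl.symm ▸ T.prop
  haveI : WeaklyEtale l := MorphismProperty.of_postcomp (W := @WeaklyEtale) (W' := @WeaklyEtale) l j inferInstance inferInstance
  exact ⟨Scheme.ProEt.mk l, ⟨MorphismProperty.Over.isoMk (Iso.refl _) ((Category.id_comp _).trans hl.symm)⟩⟩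

theorem bijective_of_isIso_restr [ProEtS.JPCont j] {A B : ProEtS.AbP X} (φ : A ⟶ B)
    [IsIso ((ProEtS.restrP j).map φ)] (T : X.ProEt) (hT : OverU j T) :
    Function.Bijective (φ.hom.app (op T)) := by
  obtain ⟨T₀, ⟨e⟩⟩ := exists_iso_compP j T hT
  haveI h0 : IsIso (φ.hom.app (op ((ProEtS.compP j).obj T₀))) :=
    inferInstanceAs (IsIso ((sheafToPresheaf _ _ ⋙ (evaluation _ _).obj (op T₀)).map
      ((ProEtS.restrP j).map φ)))
  haveI : IsIso (φ.hom.app (op T)) := IsIso.of_isIso_fac_right ((φ.hom.naturality e.hom.op).symm)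
  exact ConcreteCategory.bijective_of_isIso _

theorem bijective_counit_overU [ProEtS.JPCont j] [ProEtS.PCont j] (F : ProEtS.AbP X) (T : X.ProEt)
    (hT : OverU j T) : Function.Bijective (((ProEtS.extZeroPAdj j).counit.app F).hom.app (op T)) := by
  haveI := (fullyFaithful_unit_counit j ((ProEtS.restrP j).obj F) ((ProEtS.restrP j).obj F)).1
  haveI : IsIso ((ProEtS.restrP j).map ((ProEtS.extZeroPAdj j).counit.app F)) :=
    IsIso.of_isIso_fac_left ((ProEtS.extZeroPAdj j).right_triangle_components F)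
  exact bijective_of_isIso_restr j _ T hT

theorem subsingleton_extZeroP_zLoc [ProEtS.JPCont j]
    (hd : Disjoint (Set.range j.base) (Set.range i.base)) (G : ProEtS.AbP U) (T : X.ProEt)
    (hT : ZLoc i T) : Subsingleton (((ProEtS.extZeroP j).obj G).obj.obj (op T)) :=
  haveI := hT.1
  subsingleton_extZeroP j i hd T hT.2.2 G

omit [IsOpenImmersion j] in
/-- If the fibres of a sieve cover the special fibre of an object all of whose points specialise
into it, the sieve is covering. -/
theorem sieve_mem_of_fibre {T : X.ProEt} (hT : ZLoc i T) (G : Sieve T)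
    (hG : G.functorPushforward (ProEtS.bcP i) ∈ Scheme.ProEt.topology Z ((ProEtS.bcP i).obj T)) :
    G ∈ Scheme.ProEt.topology X T := by
  obtain ⟨hTa, -, hTs⟩ := hT
  let p : ((ProEtS.bcP i).obj T).left ⟶ T.left := pullback.fst T.hom i
  haveI : IsClosedImmersion p := MorphismProperty.pullback_fst T.hom i ‹_›
  haveI : IsAffine ((ProEtS.bcP i).obj T).left := isAffine_of_isAffineHom p
  obtain ⟨n, W, m, hW, hm, hms⟩ := exists_affine_refinement hG
  choose T' q h hq hfac using hm
  let a : ∀ k, (W k).left ⟶ (T' k).left := fun k => (h k).left ≫ pullback.fst (T' k).hom i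
  have ha : ∀ k, a k ≫ (q k).left = (m k).left ≫ p := fun k => by
    rw [hfac k]
    simp only [a, Category.assoc]
    exact congrArg ((h k).left ≫ ·) (pullback.lift_fst _ _ _).symm
  have hfin : ∀ k, ∃ t : Finset {O : (T' k).left.Opens // IsAffineOpen O},
      ∀ y : (W k).left, ∃ O ∈ t, a k y ∈ O.1 := fun k => by
    haveI := hW k
    obtain ⟨t, ht⟩ := isCompact_univ.elim_finite_subcover
      (fun O : {O : (T' k).left.Opens // IsAffineOpen O} => (a k) ⁻¹' (O.1 : Set (T' k).left))
      (fun O => O.1.2.preimage (a k).continuous) fun y _ => by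
        obtain ⟨_, ⟨O, hO, rfl⟩, hyO, -⟩ :=
          (T' k).left.isBasis_affineOpens.exists_subset_of_mem_open (Set.mem_univ (a k y)) isOpen_univ
        exact Set.mem_iUnion.2 ⟨⟨O, hO⟩, hyO⟩
    refine ⟨t, fun y => ?_⟩
    obtain ⟨O, hO, hy⟩ := Set.mem_iUnion₂.1 (ht (Set.mem_univ y))
    exact ⟨O, hO, hy⟩
  choose t ht using hfin
  let κ := Σ k, ↥(t k)
  let V : κ → X.ProEt := fun x => Scheme.ProEt.mk (x.2.1.1.ι ≫ (T' x.1).hom)
  let v : ∀ x, V x ⟶ T := fun x =>
    (MorphismProperty.Over.homMk x.2.1.1.ι : V x ⟶ T' x.1) ≫ q x.1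
  haveI := hTa
  refine GrothendieckTopology.superset_covering _ ?_
    (ofArrows_mem_of_affine_finite V (fun x => x.2.1.2) v fun x => ?_)
  · rw [Sieve.generate_le_iff]
    rintro _ _ ⟨x⟩
    exact G.downward_closed (hq x.1) _
  · obtain ⟨z, ⟨z', hz'⟩, hxz⟩ := hTs x
    obtain ⟨p₀, hp₀, -⟩ := Scheme.Pullback.exists_preimage_pullback z z' hz'.symm
    obtain ⟨k, y, hy⟩ := hms p₀
    obtain ⟨O, hO, hyO⟩ := ht k y
    have hval : (v ⟨k, O, hO⟩).left ⟨a k y, hyO⟩ = z := by
      show (q k).left (a k y) = z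
      rw [← Scheme.Hom.comp_apply, ha k, Scheme.Hom.comp_apply, hy]
      exact hp₀
    haveI := weaklyEtale_left (v ⟨k, O, hO⟩)
    obtain ⟨y', -, hy'⟩ := Flat.generalizingMap (v ⟨k, O, hO⟩).left (hval ▸ hxz)
    exact ⟨⟨k, O, hO⟩, y', hy'⟩

section Unit

variable [ProEtS.PCont i] (F : ProEtS.AbP X)

/-- The unit, through the construction of the inverse image. -/
theorem exists_unit_eq :
    ∃ (e : (ProEtS.pullP i).obj F ≅ (presheafToSheaf (Scheme.ProEt.topology Z) AddCommGrpCat.{u + 1}).obj
        ((ProEtS.bcP i).op.lan.obj F.obj)),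
      ∀ (T : X.ProEt) (s : F.obj.obj (op T)),
        e.hom.hom.app (op ((ProEtS.bcP i).obj T)) (((ProEtS.pullPushAdjP i).unit.app F).hom.app (op T) s) =
          (toSheafify (Scheme.ProEt.topology Z) ((ProEtS.bcP i).op.lan.obj F.obj)).app
            (op ((ProEtS.bcP i).obj T)) (LanAb.mk (ProEtS.bcP i) F.obj (𝟙 _) s) := by
  let adj := Functor.sheafPullbackConstruction.sheafAdjunctionContinuous (ProEtS.bcP i)
    AddCommGrpCat.{u + 1} (Scheme.ProEt.topology X) (Scheme.ProEt.topology Z)
  refine ⟨((ProEtS.pullPushAdjP i).leftAdjointUniq adj).app F, fun T s => ?_⟩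
  have h0 := Adjunction.unit_leftAdjointUniq_hom_app (ProEtS.pullPushAdjP i) adj F
  have e := Adjunction.map_restrictFullyFaithful_unit_app
      (((ProEtS.bcP i).op.lanAdjunction AddCommGrpCat.{u + 1}).comp
        (sheafificationAdjunction (Scheme.ProEt.topology Z) AddCommGrpCat.{u + 1}))
      (fullyFaithfulSheafToPresheaf (Scheme.ProEt.topology X) AddCommGrpCat.{u + 1}) (Functor.FullyFaithful.id _)
      (L := Functor.sheafPullbackConstruction.sheafPullback (ProEtS.bcP i) AddCommGrpCat.{u + 1}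
        (Scheme.ProEt.topology X) (Scheme.ProEt.topology Z))
      (R := (ProEtS.bcP i).sheafPushforwardContinuous AddCommGrpCat.{u + 1} (Scheme.ProEt.topology X)
        (Scheme.ProEt.topology Z))
      (Iso.refl _) (Iso.refl _) F
  have h1 : ((adj.unit.app F).hom.app (op T)) s = (toSheafify (Scheme.ProEt.topology Z)
      ((ProEtS.bcP i).op.lan.obj F.obj)).app (op ((ProEtS.bcP i).obj T)) (LanAb.mk (ProEtS.bcP i) F.obj (𝟙 _) s) := by
    rw [LanAb.mk_id]
    refine (ConcreteCategory.congr_hom (NatTrans.congr_app e (op T)) s).trans ?_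
    rw [Adjunction.comp_unit_app, Functor.lanAdjunction_unit]
    rfl
  exact (ConcreteCategory.congr_hom (congrArg (fun φ : F ⟶ _ => φ.hom.app (op T)) h0) s).trans h1

theorem bijective_unit_zLoc {T : X.ProEt} (hT : ZLoc i T) :
    Function.Bijective (((ProEtS.pullPushAdjP i).unit.app F).hom.app (op T)) := by
  haveI := flat_bcP i
  haveI : ∀ W : (Z.ProEt)ᵒᵖ, PreservesColimitsOfShape (CostructuredArrow (ProEtS.bcP i).op W)
      (forget AddCommGrpCat.{u + 1}) := fun W => by
    haveI : IsFiltered (CostructuredArrow (ProEtS.bcP i).op W) :=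
      ((representablyCoflat_op_iff (ProEtS.bcP i)).2 inferInstance).filtered W
    let e := (AsSmall.equiv : CostructuredArrow (ProEtS.bcP i).op W ≌
      AsSmall.{u + 1} (CostructuredArrow (ProEtS.bcP i).op W))
    haveI : IsFiltered (AsSmall.{u + 1} (CostructuredArrow (ProEtS.bcP i).op W)) := IsFiltered.of_equivalence e
    exact preservesColimitsOfShape_of_equiv e.symm _
  obtain ⟨e, he⟩ := exists_unit_eq i F
  let η := ((ProEtS.pullPushAdjP i).unit.app F).hom
  let P := (ProEtS.bcP i).op.lan.obj F.obj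
  let τ := toSheafify (Scheme.ProEt.topology Z) P
  constructor
  · refine (injective_iff_map_eq_zero (η.app (op T)).hom).2 fun s hs => ?_
    have h0 : τ.app _ (LanAb.mk (ProEtS.bcP i) F.obj (𝟙 _) s) =
        τ.app _ (LanAb.mk (ProEtS.bcP i) F.obj (𝟙 _) (0 : F.obj.obj (op T))) := by
      rw [← he T s, map_zero, map_zero]
      exact (congrArg _ hs).trans (map_zero _)
    let G : Sieve T :=
      { arrows := fun T' q => F.obj.map q.op s = 0
        downward_closed := fun {_ _ q} hq b => by
          rw [op_comp, Functor.map_comp_apply, hq, map_zero] }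
    refine sections_ext F (sieve_mem_of_fibre i hT G ?_) fun W f hf => hf.trans (map_zero _).symm
    refine GrothendieckTopology.superset_covering _ (fun W m hm => ?_)
      (Presheaf.equalizerSieve_mem (Scheme.ProEt.topology Z) τ _ _ h0)
    have hm' : P.map m.op (LanAb.mk (ProEtS.bcP i) F.obj (𝟙 _) s) =
        P.map m.op (LanAb.mk (ProEtS.bcP i) F.obj (𝟙 _) (0 : F.obj.obj (op T))) := hm
    rw [LanAb.map_mk, LanAb.map_mk] at hm'
    obtain ⟨T', c₁, c₂, g, h₁, -, hst⟩ := LanAb.exists_of_mk_eq _ _ _ _ _ _ hm'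
    exact ⟨T', c₁, g, hst.trans (map_zero _), ((Category.comp_id _).symm.trans h₁.symm)⟩
  · intro t
    haveI := hT.1
    let t' := e.hom.hom.app _ t
    let G : Sieve T := Presheaf.imageSieve η t
    have hG : G ∈ Scheme.ProEt.topology X T := by
      refine sieve_mem_of_fibre i hT G ?_
      refine GrothendieckTopology.transitive _ (Presheaf.imageSieve_mem (Scheme.ProEt.topology Z) τ t') _ ?_
      rintro W m ⟨z, hz⟩
      obtain ⟨V, g, x, rfl⟩ := LanAb.mk_surjective (ProEtS.bcP i) F.obj z
      obtain ⟨A, p₁, p₂, -⟩ := IsCofilteredOrEmpty.cone_objs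
        (StructuredArrow.mk (T := ProEtS.bcP i) m) (StructuredArrow.mk (T := ProEtS.bcP i) g)
      refine covering_lifts i A.right W A.hom fun T' q b hb => ?_
      refine ⟨T', q ≫ p₁.right, 𝟙 _, ⟨F.obj.map (q ≫ p₂.right).op x, ?_⟩, ?_⟩
      · apply (ConcreteCategory.bijective_of_isIso (e.hom.hom.app (op ((ProEtS.bcP i).obj T')))).1
        refine (he T' _).trans ?_
        rw [← LanAb.mk_comp, Category.id_comp, Functor.map_comp]
        erw [NatTrans.naturality_apply e.hom.hom ((ProEtS.bcP i).map (q ≫ p₁.right)).op t]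
        have e₁ : A.hom ≫ (ProEtS.bcP i).map p₁.right = m := StructuredArrow.w p₁
        have e₂ : A.hom ≫ (ProEtS.bcP i).map p₂.right = g := StructuredArrow.w p₂
        rw [Functor.map_comp, ← hb, Category.assoc, Category.assoc, e₁, e₂, op_comp, Functor.map_comp_apply]
        refine Eq.trans ?_ (congrArg _ hz)
        rw [← LanAb.map_mk]
        exact NatTrans.naturality_apply τ b.op _
      · rw [Category.id_comp, Functor.map_comp, ← hb, Category.assoc]
        exact congrArg (b ≫ ·) (StructuredArrow.w p₁).symm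
    obtain ⟨n, W, -, hd, hu, hR⟩ := (wContractible_tfae.2.1 (wContractible_tfae.1.2 hT.2.1)) _ hG
    let V : Fin n → X.ProEt := fun k => Scheme.ProEt.mk ((W k).ι ≫ T.hom)
    let f : ∀ k, V k ⟶ T := fun k => MorphismProperty.Over.homMk (W k).ι
    haveI : ∀ k, IsOpenImmersion (f k).left := fun k => inferInstanceAs (IsOpenImmersion (W k).ι)
    have hd' : ∀ a b, a ≠ b → Disjoint (Set.range (f a).left) (Set.range (f b).left) := fun a b hab => by
      show Disjoint (Set.range (W a).ι) (Set.range (W b).ι)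
      rw [Scheme.Opens.range_ι, Scheme.Opens.range_ι]
      exact hd hab
    have hs : ∀ x : T.left, ∃ k y, (f k).left y = x := fun x => by
      obtain ⟨k, hk⟩ := Set.mem_iUnion.1 (hu.symm ▸ Set.mem_univ x)
      exact ⟨k, ⟨x, hk⟩, rfl⟩
    choose r hr using hR
    obtain ⟨s, hs'⟩ := (bijective_pi_sheaf
      ((sheafCompose _ (forget AddCommGrpCat.{u + 1})).obj F) V f hd' hs).2 r
    refine ⟨s, ?_⟩
    refine (bijective_pi_sheaf ((sheafCompose _ (forget AddCommGrpCat.{u + 1})).obj
      ((ProEtS.pushP i).obj ((ProEtS.pullP i).obj F))) V f hd' hs).1 (funext fun k => ?_)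
    refine ((NatTrans.naturality_apply η (f k).op s).symm.trans ?_).trans (hr k)
    exact congrArg _ (congrFun hs' k)

end Unit

end GrothLib.ProEtS
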