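import Groth.Agent.Lib.ProEtS.QuotMod
import Groth.Agent.Lib.ProEtS.Recollement

/-!
# Extension by zero of sheaves of modules on pro-étale sites
-/

set_option autoImplicit false
set_option linter.style.haveILetI false
set_option linter.unusedSectionVars false
set_option backward.isDefEq.respectTransparency.types false

universe u w v v' u₁ u₂

open CategoryTheory CategoryTheory.Limits AlgebraicGeometry Opposite

noncomputable section

namespace GrothLib.ProEtS

open _root_.ARSys

section General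

variable {C : Type u₁} [Category.{v} C] [Abelian C] {D : Type u₂} [Category.{v'} D] [Abelian D]
  {A : Type w} [CommRing A] [Linear A C] [Linear A D] {L : C ⥤ D} {R : D ⥤ C} (adj : L ⊣ R)
  [R.Additive] [R.Linear A]

include adj in
/-- A left adjoint of a linear functor carries quotient maps to quotient maps. -/
theorem isQuot_map_leftAdjoint [L.Additive] {I : Ideal A} {X Q : C} {p : X ⟶ Q} (h : IsQuot I p) :
    IsQuot I (L.map p) := by
  have key : ∀ {M : C} {N : D} (a : A) (φ : L.obj M ⟶ N), adj.homEquiv M N (a • φ) = a • adj.homEquiv M N φ :=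
    fun a φ => by rw [Adjunction.homEquiv_unit, Adjunction.homEquiv_unit, Functor.map_smul, Linear.comp_smul]
  have hz : ∀ {M : C} {N : D}, adj.homEquiv M N 0 = 0 := fun {M N} => by
    rw [Adjunction.homEquiv_unit, Functor.map_zero, comp_zero]
  refine ⟨fun a ha => (adj.homEquiv _ _).injective ?_, fun Y φ hφ => ?_⟩
  · rw [key, hz, Adjunction.homEquiv_unit, CategoryTheory.Functor.map_id]
    erw [Category.comp_id]
    exact GrothLib.ARSys.homKilledBy_of_src h.1 _ a ha
  · obtain ⟨ψ, hψ, huniq⟩ := h.2 (R.obj Y) (adj.homEquiv _ _ φ) fun a ha => by rw [← key, hφ a ha, hz]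
    refine ⟨(adj.homEquiv _ _).symm ψ, ?_, fun y hy => ?_⟩
    · show L.map p ≫ _ = φ
      rw [← adj.homEquiv_naturality_left_symm, hψ, Equiv.symm_apply_apply]
    · rw [← huniq (adj.homEquiv _ _ y) ((adj.homEquiv_naturality_left p y).symm.trans (congrArg _ hy)), Equiv.symm_apply_apply]

end General

variable {X U : Scheme.{u}} {Λ : Type (u + 1)} [CommRing Λ]

/-- `j_!` on sheaves of modules. -/
abbrev extZeroM (j : U ⟶ X) [WeaklyEtale j] [ProEtS.JPCont j] (Λ : Type (u + 1)) [CommRing Λ] :
    EtModW.ModP Λ U ⥤ EtModW.ModP Λ X :=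
  (ProEtS.compP j).sheafPullback (ModuleCat.{u + 1} Λ) (Scheme.ProEt.topology U) (Scheme.ProEt.topology X)

/-- `j⁻¹` on sheaves of modules. -/
abbrev restrM (j : U ⟶ X) [WeaklyEtale j] [ProEtS.JPCont j] (Λ : Type (u + 1)) [CommRing Λ] :
    EtModW.ModP Λ X ⥤ EtModW.ModP Λ U :=
  (ProEtS.compP j).sheafPushforwardContinuous (ModuleCat.{u + 1} Λ) (Scheme.ProEt.topology U) (Scheme.ProEt.topology X)

/-- `j_! ⊣ j⁻¹` on sheaves of modules. -/
abbrev extZeroMAdj (j : U ⟶ X) [WeaklyEtale j] [ProEtS.JPCont j] (Λ : Type (u + 1)) [CommRing Λ] :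
    extZeroM j Λ ⊣ restrM j Λ :=
  (ProEtS.compP j).sheafAdjunctionContinuous (ModuleCat.{u + 1} Λ) (Scheme.ProEt.topology U) (Scheme.ProEt.topology X)

instance additive_restrM (j : U ⟶ X) [WeaklyEtale j] [ProEtS.JPCont j] : (restrM j Λ).Additive where

instance linear_restrM (j : U ⟶ X) [WeaklyEtale j] [ProEtS.JPCont j] : (restrM j Λ).Linear Λ where

theorem isIso_extZeroMAdj_unit (j : U ⟶ X) [WeaklyEtale j] [Mono j] [ProEtS.JPCont j] :
    IsIso (extZeroMAdj j Λ).unit := by
  haveI := isIso_compBCAdjP_unit j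
  haveI : ProEtS.PCont j := pCont j
  let r := (compBCAdjP j).sheafPushforwardContinuous (Scheme.ProEt.topology U) (Scheme.ProEt.topology X)
    (E := ModuleCat.{u + 1} Λ)
  haveI : IsIso r.counit := by
    haveI : ∀ P : EtModW.ModP Λ U, IsIso (r.counit.app P) := fun P => by
      haveI : ∀ V, IsIso ((r.counit.app P).hom.app V) := fun V => by
        show IsIso (P.obj.map ((compBCAdjP j).op.counit.app V))
        haveI : IsIso ((compBCAdjP j).op.counit.app V) :=
          inferInstanceAs (IsIso ((compBCAdjP j).unit.app V.unop).op)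
        infer_instance
      haveI : IsIso ((sheafToPresheaf _ _).map (r.counit.app P)) :=
        show IsIso (r.counit.app P).hom from NatIso.isIso_of_isIso_app _
      exact isIso_of_reflects_iso _ (sheafToPresheaf _ _)
    exact NatIso.isIso_of_isIso_app _
  let t : Adjunction.Triple (extZeroM j Λ) (restrM j Λ) _ := ⟨extZeroMAdj j Λ, r⟩
  exact t.isIso_unit_iff_isIso_counit.2 inferInstance

/-- `j_!` commutes with `ε⁻¹`. -/
theorem nonempty_extZeroM_eps_iso (j : U ⟶ X) [hje : Etale j] [WeaklyEtale j] [ProEtS.EpsCont U] [ProEtS.EpsCont X]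
    [ProEtS.JPCont j]
    [(MorphismProperty.Over.map (P := EtCoh.etaleMP.{u}) ⊤ (f := j) hje).IsContinuous U.smallEtaleTopology X.smallEtaleTopology]
    [((MorphismProperty.Over.map (P := EtCoh.etaleMP.{u}) ⊤ (f := j) hje).sheafPushforwardContinuous (ModuleCat.{u + 1} Λ) U.smallEtaleTopology X.smallEtaleTopology).IsRightAdjoint] :
    Nonempty ((MorphismProperty.Over.map (P := EtCoh.etaleMP.{u}) ⊤ (f := j) hje).sheafPullback (ModuleCat.{u + 1} Λ) U.smallEtaleTopology X.smallEtaleTopology ⋙ EtModW.epsPullMod Λ X ≅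
      EtModW.epsPullMod Λ U ⋙ extZeroM j Λ) := by
  let F : U.Etale ⥤ X.Etale := MorphismProperty.Over.map (P := EtCoh.etaleMP.{u}) ⊤ (f := j) hje
  haveI : F.IsContinuous U.smallEtaleTopology X.smallEtaleTopology :=
    ‹(MorphismProperty.Over.map (P := EtCoh.etaleMP.{u}) ⊤ (f := j) hje).IsContinuous U.smallEtaleTopology X.smallEtaleTopology›
  haveI : (F.sheafPushforwardContinuous (ModuleCat.{u + 1} Λ) U.smallEtaleTopology X.smallEtaleTopology).IsRightAdjoint :=
    ‹((MorphismProperty.Over.map (P := EtCoh.etaleMP.{u}) ⊤ (f := j) hje).sheafPushforwardContinuous (ModuleCat.{u + 1} Λ) U.smallEtaleTopology X.smallEtaleTopology).IsRightAdjoint›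
  let e : F ⋙ ProEtS.eps X ≅ ProEtS.eps U ⋙ ProEtS.compP j :=
    NatIso.ofComponents (fun V => MorphismProperty.Over.isoMk (Iso.refl V.left) (Category.id_comp _))
      (fun {V W} g => by
        apply MorphismProperty.Over.Hom.ext
        exact (Category.comp_id _).trans (Category.id_comp _).symm)
  haveI := Functor.isContinuous_comp (ProEtS.eps U) (ProEtS.compP j) U.smallEtaleTopology
    (Scheme.ProEt.topology U) (Scheme.ProEt.topology X)
  refine ⟨Adjunction.leftAdjointUniq (((F.sheafAdjunctionContinuous (ModuleCat.{u + 1} Λ) U.smallEtaleTopology X.smallEtaleTopology).comp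
    (epsAdjMod Λ X)).ofNatIsoRight ?_) ((epsAdjMod Λ U).comp (extZeroMAdj j Λ))⟩
  exact Functor.sheafPushforwardContinuousComp' (F := F) (G := ProEtS.eps X) (FG := ProEtS.eps U ⋙ ProEtS.compP j) e (ModuleCat.{u + 1} Λ)
      U.smallEtaleTopology X.smallEtaleTopology (Scheme.ProEt.topology X) ≪≫
    (Functor.sheafPushforwardContinuousComp (ProEtS.eps U) (ProEtS.compP j) (ModuleCat.{u + 1} Λ)
      U.smallEtaleTopology (Scheme.ProEt.topology U) (Scheme.ProEt.topology X)).symm

theorem isZero_lan_of_isEmpty_mod {U X : Scheme.{u}} (j : U ⟶ X) [WeaklyEtale j]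
    (G : U.ProEtᵒᵖ ⥤ (ModuleCat.{u + 1} Λ)) (W : X.ProEt)
    (hW : ∀ V : U.ProEt, IsEmpty (W ⟶ (ProEtS.compP j).obj V)) :
    IsZero (((ProEtS.compP j).op.lan.obj G).obj (op W)) := by
  have hc := Functor.isPointwiseLeftKanExtensionLeftKanExtensionUnit (ProEtS.compP j).op G (op W)
  rw [IsZero.iff_id_eq_zero]
  exact hc.hom_ext fun k => (hW k.left.unop).elim k.hom.unop

theorem subsingleton_extZeroM {U X Z : Scheme.{u}} (j : U ⟶ X) [WeaklyEtale j] (i : Z ⟶ X)
    [IsClosedImmersion i] (hUZ : Disjoint (Set.range j.base) (Set.range i.base)) [ProEtS.JPCont j]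
    (V : X.ProEt) [IsAffine V.left]
    (hV : ∀ v : ↥V.left, ∃ z : ↥V.left, V.hom.base z ∈ Set.range i.base ∧ v ⤳ z)
    (F : EtModW.ModP Λ U) :
    Subsingleton (((extZeroM j Λ).obj F).obj.obj (op V)) := by
  let e := (Functor.sheafPullbackConstruction.sheafPullbackIso (ProEtS.compP j) (ModuleCat.{u + 1} Λ)
    (Scheme.ProEt.topology U) (Scheme.ProEt.topology X)).app F
  let P := (ProEtS.compP j).op.lan.obj F.obj
  let G := (presheafToSheaf (Scheme.ProEt.topology X) (ModuleCat.{u + 1} Λ)).obj P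
  suffices h : ∀ s : G.obj.obj (op V), s = 0 by
    haveI : Subsingleton (G.obj.obj (op V)) := ⟨fun a b => (h a).trans (h b).symm⟩
    exact @Equiv.subsingleton _ _ (((sheafToPresheaf _ _).mapIso e).app (op V)).toLinearEquiv.toEquiv ‹Subsingleton (G.obj.obj (op V))›
  intro s
  obtain ⟨n, W, g, hW, hs, hsurj⟩ := exists_affine_refinement
    (Presheaf.imageSieve_mem (Scheme.ProEt.topology X) (toSheafify (Scheme.ProEt.topology X) P) s)
  have hZ : IsClosed (Set.range i.base) := i.isClosedEmbedding.isClosed_range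
  choose L l hL hl hLZ hLr using fun k => haveI := hW k
    exists_localization (V := (W k).left) (hZ.preimage (W k).hom.continuous)
  haveI := hl
  haveI := hL
  let W' : Fin n → X.ProEt := fun k => Scheme.ProEt.mk (l k ≫ (W k).hom)
  let q : ∀ k, W' k ⟶ W k := fun k => MorphismProperty.Over.homMk (l k)
  have hempty : ∀ k (Y : U.ProEt), IsEmpty ((W' k).left) ∨ IsEmpty (W' k ⟶ (ProEtS.compP j).obj Y) :=
    fun k Y => by
      refine (isEmpty_or_nonempty (W' k).left).imp id fun ⟨x⟩ => ⟨fun m => ?_⟩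
      obtain ⟨x', -, hx'⟩ := hLZ k x
      refine Set.disjoint_left.1 hUZ ⟨Y.hom.base (m.left x'), ?_⟩ hx'
      exact congr($(MorphismProperty.Over.w m).base x')
  have hcov : Sieve.generate (Presieve.ofArrows W' fun k => q k ≫ g k) ∈ Scheme.ProEt.topology X V := by
    haveI : WeaklyEtale (Sigma.desc fun k => (q k ≫ g k).left) :=
      IsZariskiLocalAtSource.sigmaDesc fun k => weaklyEtale_left (q k ≫ g k)
    haveI : Surjective (Sigma.desc fun k => (q k ≫ g k).left) := ⟨fun v => by
      obtain ⟨z, hz, hvz⟩ := hV v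
      obtain ⟨k, y, hy⟩ := hsurj z
      obtain ⟨y', hy', hyv⟩ : ∃ y', y' ⤳ y ∧ (g k).left y' = v := by
        haveI := weaklyEtale_left (g k)
        exact Flat.generalizingMap (g k).left (hy ▸ hvz) |>.imp fun _ h => h
      have hyZ : (W k).hom.base y ∈ Set.range i.base := by
        have := congr($(MorphismProperty.Over.w (g k)).base y)
        rw [← this]
        show V.hom.base ((g k).left y) ∈ _
        rw [hy]; exact hz
      obtain ⟨x, hx⟩ := hLr k y' y hy' hyZ
      refine ⟨Sigma.ι (fun k => (W' k).left) k x, ?_⟩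
      rw [← Scheme.Hom.comp_apply, Sigma.ι_desc]
      show (g k).left (l k x) = v
      rw [hx, hyv]⟩
    let T : X.ProEt := Scheme.ProEt.mk ((Sigma.desc fun k => (q k ≫ g k).left) ≫ V.hom)
    let t : T ⟶ V := MorphismProperty.Over.homMk (Sigma.desc fun k => (q k ≫ g k).left)
    haveI : Surjective t.left := ‹_›
    haveI : ∀ k, IsAffine (W' k).left := hL
    haveI : IsAffine T.left := inferInstanceAs (IsAffine (∐ fun k => (W' k).left))
    refine GrothendieckTopology.transitive _ (generate_singleton_mem t) _ ?_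
    rintro Y h ⟨_, a, _, ⟨⟩, rfl⟩
    rw [Sieve.pullback_comp]
    refine GrothendieckTopology.pullback_stable _ a ?_
    let T' : ULift.{u} (Fin n) → X.ProEt := fun k => W' k.down
    let tk : ∀ k, T' k ⟶ T := fun k => MorphismProperty.Over.homMk (Sigma.ι (fun k => (W' k).left) k.down)
      (by
        show Sigma.ι (fun k => (W' k).left) k.down ≫ (Sigma.desc fun k => (q k ≫ g k).left) ≫ V.hom = _
        rw [Sigma.ι_desc_assoc, MorphismProperty.Over.w]) trivial
    refine GrothendieckTopology.superset_covering _ ?_ (ofArrows_mem_of_isOpenMap T' tk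
      (fun k => (Sigma.ι (fun k => (W' k).left) k.down).isOpenEmbedding.isOpenMap) fun x => ?_)
    · rw [Sieve.generate_le_iff]
      rintro _ _ ⟨k⟩
      exact ⟨_, 𝟙 _, q k.down ≫ g k.down, ⟨k.down⟩, (Category.id_comp _).trans
        (MorphismProperty.Over.Hom.ext (show (q k.down ≫ g k.down).left = Sigma.ι (fun k => (W' k).left) k.down ≫
          Sigma.desc (fun k => (q k ≫ g k).left) from
            (Sigma.ι_desc (fun k => (q k ≫ g k).left) k.down).symm))⟩
    · obtain ⟨k, y, hy⟩ := (sigmaOpenCover (fun k => (W' k).left)).exists_eq x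
      exact ⟨⟨k⟩, y, hy⟩
  refine (((Presieve.isSheafFor_iff_generate _).2 ((isSheaf_iff_isSheaf_of_type _ _).1
    ((sheafCompose _ (forget (ModuleCat.{u + 1} Λ))).obj G).property _ hcov)).isSeparatedFor).ext ?_
  rintro _ _ ⟨k⟩
  show G.obj.map (q k ≫ g k).op s = G.obj.map (q k ≫ g k).op 0
  rw [map_zero]
  by_cases hne : IsEmpty (W' k).left
  · exact (((isSheaf_iff_isSheaf_of_type _ _).1
      ((sheafCompose _ (forget (ModuleCat.{u + 1} Λ))).obj G).property _
      (Scheme.ProEt.bot_mem_topology (W' k))).isSeparatedFor).ext fun _ _ h => h.elim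
  · obtain ⟨t, ht⟩ := hs k
    have h0 : IsZero (P.obj (op (W' k))) :=
      isZero_lan_of_isEmpty_mod j F.obj (W' k) fun Y => (hempty k Y).resolve_left hne
    haveI := ModuleCat.subsingleton_of_isZero h0
    rw [op_comp, Functor.map_comp_apply, ← ht]
    refine (ConcreteCategory.congr_hom ((toSheafify (Scheme.ProEt.topology X) P).naturality (q k).op) t).symm.trans ?_
    show ((toSheafify (Scheme.ProEt.topology X) P).app (op (W' k))) (P.map (q k).op t) = 0
    rw [Subsingleton.elim (P.map (q k).op t) 0, map_zero]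

/-- `j_!` commutes with limits of towers of its values. -/
theorem isIso_lift_extZeroM {X U : Scheme.{u}} {Λ : Type (u + 1)} [CommRing Λ] (j : U ⟶ X) [IsOpenImmersion j]
    [QuasiCompact j] [WeaklyEtale j] [ProEtS.JPCont j] {F : EtModW.ModP Λ U} {Q : ℕᵒᵖ ⥤ EtModW.ModP Λ U}
    (p : (Functor.const ℕᵒᵖ).obj F ⟶ Q) (hl : IsIso (limit.lift Q (Cone.mk F p)))
    (p' : (Functor.const ℕᵒᵖ).obj ((extZeroM j Λ).obj F) ⟶ Q ⋙ extZeroM j Λ)
    (hp' : ∀ n, p'.app n = (extZeroM j Λ).map (p.app n)) :
    IsIso (limit.lift (Q ⋙ extZeroM j Λ) (Cone.mk ((extZeroM j Λ).obj F) p')) := by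
  let L := extZeroM j Λ
  let R := restrM j Λ
  haveI hu := isIso_extZeroMAdj_unit (Λ := Λ) j
  let Zs : TopologicalSpace.Closeds X := ⟨(Set.range j.base)ᶜ, j.isOpenEmbedding.isOpen_range.isClosed_compl⟩
  let I := Scheme.IdealSheafData.vanishingIdeal Zs
  let i := I.subschemeι
  have hri : Set.range i.base = (Set.range j.base)ᶜ := by
    refine I.range_subschemeι.trans ?_
    rw [Scheme.IdealSheafData.coe_support_vanishingIdeal]
    rfl
  have hc : Set.range j.base = (Set.range i.base)ᶜ := by rw [hri, compl_compl]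
  have hd : Disjoint (Set.range j.base) (Set.range i.base) := by rw [hc]; exact disjoint_compl_left
  let c := limit.lift (Q ⋙ L) (Cone.mk (L.obj F) p')
  haveI : R.IsRightAdjoint := (extZeroMAdj j Λ).isRightAdjoint
  let hl0 : IsLimit (Cone.mk F p) := IsLimit.ofPointIso (i := hl) (limit.isLimit Q)
  let η : Q ≅ (Q ⋙ L) ⋙ R := Functor.isoWhiskerLeft Q (asIso (extZeroMAdj j Λ).unit)
  let h2 := (IsLimit.postcomposeHomEquiv η (Cone.mk F p)).symm hl0
  let h1 : IsLimit (R.mapCone (limit.cone (Q ⋙ L))) := isLimitOfPreserves R (limit.isLimit _)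
  haveI : IsIso (R.map c) := by
    refine IsIso.of_isIso_fac_left (f := (extZeroMAdj j Λ).unit.app F)
      (h := (h2.conePointUniqueUpToIso h1).hom) (h1.hom_ext fun n => ?_)
    rw [IsLimit.conePointUniqueUpToIso_hom_comp, Category.assoc]
    show (extZeroMAdj j Λ).unit.app F ≫ R.map c ≫ R.map (limit.π (Q ⋙ L) n) = p.app n ≫ (extZeroMAdj j Λ).unit.app (Q.obj n)
    rw [← R.map_comp, limit.lift_π]
    show _ ≫ R.map (p'.app n) = _
    rw [hp']
    exact ((extZeroMAdj j Λ).unit.naturality (p.app n)).symm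
  haveI : IsIso ((ProEtS.restrP j).map ((fgtP Λ X).map c)) :=
    inferInstanceAs (IsIso ((fgtP Λ U).map (R.map c)))
  have hsub : ∀ (T : X.ProEt), ZLoc i T → ∀ G : EtModW.ModP Λ U, Subsingleton ((L.obj G).obj.obj (op T)) :=
    fun T hT G => haveI := hT.1; subsingleton_extZeroM j i hd T hT.2.2 G
  haveI : IsIso ((fgtP Λ X).map c) := by
    refine isIso_of_class i j hc _ fun T hT => ?_
    rcases hT with hT | hT
    · exact bijective_of_isIso_restr j _ T hT
    · have h1' : Subsingleton ((L.obj F).obj.obj (op T)) := hsub T hT F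
      have h2' : Subsingleton ((limit (Q ⋙ L)).obj.obj (op T)) := ⟨fun x y => by
        refine Concrete.isLimit_ext _ (isLimitOfPreserves (evalP Λ T) (limit.isLimit (Q ⋙ L))) x y fun n => ?_
        exact (hsub T hT (Q.obj n)).elim _ _⟩
      exact ⟨fun x y _ => h1'.elim x y, fun y => ⟨0, h2'.elim _ _⟩⟩
  exact isIso_of_reflects_iso c (fgtP Λ X)

end GrothLib.ProEtS
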