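import Groth.Agent.Lib.ProEtS.Recollement
import Groth.Agent.Lib.IndEt.Lift
import Groth.Agent.Lib.IndEt.Comp
import Groth.Agent.Lib.WLocal.WCover
import Groth.Agent.S0778

/-!
# Covering the pro-étale site of a closed subscheme by special fibres of henselian w-contractibles

For an arbitrary closed immersion every object of the small site of the closed subscheme is
covered by special fibres of affine w-contractible objects all of whose points specialise into it.
-/

set_option autoImplicit false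
set_option linter.style.haveILetI false
set_option backward.isDefEq.respectTransparency.types false

universe u

open CategoryTheory CategoryTheory.Limits AlgebraicGeometry Opposite TensorProduct

noncomputable section

namespace GrothLib.ProEtS

/-- An ind-étale algebra is its own hull. -/
theorem bijective_proj_of_isIndEtale {A B : Type u} [CommRing A] [CommRing B] [Algebra A B]
    (h : EtPBC.IsIndEtale A B) : Function.Bijective (Hensel.Hull.proj (A := A) (C := B)) := by
  refine ⟨(injective_iff_map_eq_zero _).2 fun z hz => ?_, fun y => ?_⟩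
  · obtain ⟨N, x, rfl⟩ := Hensel.Hull.exists_ι z
    rw [Hensel.Hull.proj_ι] at hz
    obtain ⟨V, _, _, _, a, b, hab, hx⟩ := IndEt.exists_etale_ker h N.pt (fun _ : Unit => x) (fun _ => hz)
    obtain ⟨M, e, he⟩ := Hensel.Nbhd.exists_iso V b
    let f : N ⟶ M := ⟨e.toAlgHom.comp a, by rw [← AlgHom.comp_assoc, he, hab]⟩
    rw [← Hensel.Hull.ι_map f x]
    show Hensel.Hull.ι M (e (a x)) = 0
    rw [hx (), map_zero, map_zero]
  · obtain ⟨V, _, _, _, b, x, hx⟩ := IndEt.exists_etale_lift h (fun _ : Unit => y)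
    obtain ⟨M, e, he⟩ := Hensel.Nbhd.exists_iso V b
    refine ⟨Hensel.Hull.ι M (e (x ())), ?_⟩
    rw [Hensel.Hull.proj_ι, ← hx ()]
    exact AlgHom.congr_fun he (x ())

/-- A ring henselian along an ideal with w-contractible quotient is w-contractible. -/
theorem isWContractible_of_henselian {H : Type u} [CommRing H] (J : Ideal H) [HenselianRing H J]
    (hJ : EtPBC.IsWContractible (H ⧸ J)) : EtPBC.IsWContractible H := by
  refine (Groth.Agent.S0778.result H).2 fun B _ _ hff hie => ?_
  haveI := hff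
  haveI : Algebra.WeaklyEtale (H ⧸ J) ((H ⧸ J) ⊗[H] B) :=
    IndEt.weaklyEtale (IndEt.isIndEtale_baseChange hie)
  obtain ⟨r⟩ := hJ ((H ⧸ J) ⊗[H] B) inferInstance inferInstance
  let γ : B →ₐ[H] H ⧸ J := (r.restrictScalars H).comp Algebra.TensorProduct.includeRight
  obtain ⟨g, -, -⟩ := Hensel.Hull.existsUnique_lift J γ
  exact ⟨g.comp (AlgEquiv.ofBijective _ (bijective_proj_of_isIndEtale hie)).symm.toAlgHom⟩

/-- Weakly étale ring maps `A → H`, `H` w-contractible, with all points specialising into the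
preimage of `V(I)` and covering `V(I)`. -/
theorem exists_henselian_cover {A : Type u} [CommRing A] (I : Ideal A) :
    ∃ (H : Type u) (_ : CommRing H) (_ : Algebra A H), Algebra.WeaklyEtale A H ∧
      EtPBC.IsWContractible H ∧
      (∀ q : PrimeSpectrum H, ∃ q' : PrimeSpectrum H, q ⤳ q' ∧
        PrimeSpectrum.comap (algebraMap A H) q' ∈ PrimeSpectrum.zeroLocus (I : Set A)) ∧
      PrimeSpectrum.zeroLocus (I : Set A) ⊆ Set.range (PrimeSpectrum.comap (algebraMap A H)) := by
  obtain ⟨C, _, _, hff, hie, hC⟩ := WLocal.exists_wContractible_cover (A ⧸ I)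
  letI : Algebra A C := ((algebraMap (A ⧸ I) C).comp (Ideal.Quotient.mk I)).toAlgebra
  haveI : IsScalarTower A (A ⧸ I) C := IsScalarTower.of_algebraMap_eq fun _ => rfl
  obtain ⟨hs, hk⟩ := IndEt.ker_proj_eq_map I C hie
  let H := Hensel.Hull A C
  let π : H →ₐ[A] C := Hensel.Hull.proj
  let J : Ideal H := RingHom.ker π.toRingHom
  haveI : HenselianRing H J := Hensel.Hull.henselianRing
  haveI := hff
  refine ⟨H, inferInstance, inferInstance, IndEt.weaklyEtale (Hensel.Hull.isIndEtale A C), ?_,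
    fun q => ?_, fun p hp => ?_⟩
  · exact isWContractible_of_henselian J (isWContractible_of_ringEquiv
      (RingHom.quotientKerEquivOfSurjective (f := π.toRingHom) hs).symm hC)
  · obtain ⟨n, hn, hle⟩ := Ideal.exists_le_maximal q.asIdeal q.isPrime.ne_top
    refine ⟨⟨n, hn.isPrime⟩, (PrimeSpectrum.le_iff_specializes _ _).1 hle, fun a ha => ?_⟩
    show algebraMap A H a ∈ n
    have h1 : algebraMap A H a ∈ J := hk.symm.le (Ideal.mem_map_of_mem _ ha)
    have h2 : (⊥ : Ideal H).jacobson ≤ n := sInf_le ⟨bot_le, hn⟩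
    exact h2 (Hensel.Hull.ker_proj_le_jacobson h1)
  · let p' : PrimeSpectrum (A ⧸ I) :=
      ⟨p.asIdeal.map (Ideal.Quotient.mk I), Ideal.map_isPrime_of_surjective Ideal.Quotient.mk_surjective
        (by rw [Ideal.mk_ker]; exact hp)⟩
    obtain ⟨c, hc⟩ := PrimeSpectrum.comap_surjective_of_faithfullyFlat (A := A ⧸ I) (B := C) p'
    refine ⟨PrimeSpectrum.comap π.toRingHom c, PrimeSpectrum.ext ?_⟩
    show Ideal.comap (algebraMap A H) (Ideal.comap π.toRingHom c.asIdeal) = p.asIdeal
    rw [Ideal.comap_comap, show π.toRingHom.comp (algebraMap A H) =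
      (algebraMap (A ⧸ I) C).comp (Ideal.Quotient.mk I) from π.comp_algebraMap, ← Ideal.comap_comap]
    have hc' : c.asIdeal.comap (algebraMap (A ⧸ I) C) = p'.asIdeal := congrArg PrimeSpectrum.asIdeal hc
    rw [hc']
    show Ideal.comap _ (Ideal.map _ p.asIdeal) = _
    rw [Ideal.comap_map_of_surjective _ Ideal.Quotient.mk_surjective, ← RingHom.ker_eq_comap_bot,
      Ideal.mk_ker, sup_eq_left]
    exact hp

variable {X Z : Scheme.{u}} (i : Z ⟶ X) [IsClosedImmersion i]

/-- Over an affine object there is such a henselian object covering its special fibre. -/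
theorem exists_zLoc_over (V : X.ProEt) [IsAffine V.left] :
    ∃ (T : X.ProEt) (l : T ⟶ V), ZLoc i T ∧
      Sieve.generate (Presieve.singleton ((ProEtS.bcP i).map l)) ∈
        Scheme.ProEt.topology Z ((ProEtS.bcP i).obj V) := by
  let e := V.left.isoSpec
  let C : Set V.left := V.hom ⁻¹' Set.range i.base
  have hC : IsClosed (e.inv ⁻¹' C) :=
    (i.isClosedEmbedding.isClosed_range.preimage V.hom.continuous).preimage e.inv.continuous
  obtain ⟨I, hI⟩ := (PrimeSpectrum.isClosed_iff_zeroLocus_ideal _).1 hC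
  obtain ⟨H, _, _, hwe, hwc, hsp, hsur⟩ := exists_henselian_cover I
  let φ : Γ(V.left, ⊤) ⟶ CommRingCat.of H := CommRingCat.ofHom (algebraMap Γ(V.left, ⊤) H)
  haveI : WeaklyEtale (Spec.map φ) := WeakEtale.algebra_iff_specMap.2 hwe
  haveI : WeaklyEtale V.hom := V.prop
  let T : X.ProEt := Scheme.ProEt.mk ((Spec.map φ ≫ e.inv) ≫ V.hom)
  let l : T ⟶ V := MorphismProperty.Over.homMk (Spec.map φ ≫ e.inv)
  haveI hTa : IsAffine T.left := inferInstanceAs (IsAffine (Spec (CommRingCat.of H)))
  have hmem : ∀ q : PrimeSpectrum H,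
      PrimeSpectrum.comap (algebraMap Γ(V.left, ⊤) H) q ∈ PrimeSpectrum.zeroLocus (I : Set Γ(V.left, ⊤)) →
        T.hom.base q ∈ Set.range i.base := fun q hq => by
    rw [← hI] at hq
    exact hq
  refine ⟨T, l, ⟨hTa, isWC_of_isWContractible (isWContractible_of_ringEquiv
      (Scheme.ΓSpecIso (CommRingCat.of H)).symm.commRingCatIsoToRingEquiv hwc), fun v => ?_⟩, ?_⟩
  · obtain ⟨q', hq, hq'⟩ := hsp v
    exact ⟨q', hmem q' hq', hq⟩
  · let p : ((ProEtS.bcP i).obj T).left ⟶ T.left := pullback.fst T.hom i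
    let pV : ((ProEtS.bcP i).obj V).left ⟶ V.left := pullback.fst V.hom i
    haveI : IsClosedImmersion p := MorphismProperty.pullback_fst T.hom i ‹_›
    haveI : IsClosedImmersion pV := MorphismProperty.pullback_fst V.hom i ‹_›
    haveI : IsAffine ((ProEtS.bcP i).obj T).left := isAffine_of_isAffineHom p
    haveI : IsAffine ((ProEtS.bcP i).obj V).left := isAffine_of_isAffineHom pV
    haveI : Surjective ((ProEtS.bcP i).map l).left := ⟨fun x => by
      have hfac : ((ProEtS.bcP i).map l).left ≫ pV = p ≫ l.left := pullback.lift_fst _ _ _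
      have hx : pV x ∈ C := ⟨pullback.snd V.hom i x, by
        show (pullback.snd V.hom i ≫ i) x = (pullback.fst V.hom i ≫ V.hom) x
        rw [pullback.condition]⟩
      have hx' : e.hom (pV x) ∈ e.inv ⁻¹' C := by
        show e.inv (e.hom (pV x)) ∈ C
        rwa [← Scheme.Hom.comp_apply, e.hom_inv_id]
      rw [hI] at hx'
      obtain ⟨q, hq⟩ := hsur hx'
      have hlq : l.left q = pV x := by
        show e.inv ((Spec.map φ) q) = pV x
        rw [show (Spec.map φ) q = e.hom (pV x) from hq, ← Scheme.Hom.comp_apply, e.hom_inv_id]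
        rfl
      obtain ⟨z, hz⟩ := hmem q (hq ▸ hx')
      obtain ⟨y, hy, -⟩ := Scheme.Pullback.exists_preimage_pullback (f := T.hom) (g := i) q z hz.symm
      refine ⟨y, pV.isClosedEmbedding.injective ?_⟩
      refine (congr($(hfac).base y)).trans ?_
      show l.left (p y) = pV x
      rw [show p y = q from hy, hlq]⟩
    exact generate_singleton_mem ((ProEtS.bcP i).map l)

/-- Every object is covered by special fibres of henselian w-contractible objects. -/
theorem exists_zLoc_cover [ProEtS.PCont i] (W : Z.ProEt) :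
    ∃ R ∈ Scheme.ProEt.topology Z W, ∀ ⦃W' : Z.ProEt⦄ (f : W' ⟶ W), R f →
      ∃ (T : X.ProEt) (a : W' ⟶ (ProEtS.bcP i).obj T) (f' : (ProEtS.bcP i).obj T ⟶ W),
        a ≫ f' = f ∧ ZLoc i T := by
  let R : Sieve W :=
    { arrows := fun W' f => ∃ (T : X.ProEt) (a : W' ⟶ (ProEtS.bcP i).obj T)
        (f' : (ProEtS.bcP i).obj T ⟶ W), a ≫ f' = f ∧ ZLoc i T
      downward_closed := by
        rintro W' W₁ f ⟨T, a, f', rfl, h⟩ b
        exact ⟨T, b ≫ a, f', Category.assoc _ _ _, h⟩ }
  refine ⟨R, ?_, fun W' f h => h⟩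
  have hcond : W.hom ≫ i = (W.hom ≫ i) ≫ 𝟙 X := (Category.comp_id _).symm
  haveI := flat_bcP i
  let R₀ : Sieve W :=
    { arrows := fun W' f => ∃ (T : X.ProEt) (a : W' ⟶ (ProEtS.bcP i).obj T)
        (f' : (ProEtS.bcP i).obj T ⟶ W), a ≫ f' = f
      downward_closed := by
        rintro W' W₁ f ⟨T, a, f', rfl⟩ b
        exact ⟨T, b ≫ a, f', Category.assoc _ _ _⟩ }
  have hR₀ : R₀ ∈ Scheme.ProEt.topology Z W := covering_lifts i (Scheme.ProEt.mk (𝟙 X)) W
    (MorphismProperty.Over.homMk (pullback.lift (W.hom ≫ i) W.hom hcond.symm) (pullback.lift_snd _ _ _) trivial)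
    fun T' q m hm => ⟨T', 𝟙 _, m, Category.id_comp _⟩
  refine GrothendieckTopology.transitive _ hR₀ _ ?_
  rintro Y₀ h₀ ⟨T', a, m, rfl⟩
  rw [Sieve.pullback_comp]
  refine GrothendieckTopology.pullback_stable _ a ?_
  obtain ⟨ι, V, g, hcov, hV⟩ := exists_family_wContractible T'
  refine GrothendieckTopology.transitive _
    ((Functor.isContinuous_iff_coverPreserving.1 ‹ProEtS.PCont i›).cover_preserve hcov) _ ?_
  rintro Y h ⟨V', g', b, ⟨_, c, _, ⟨k⟩, rfl⟩, rfl⟩
  rw [Sieve.pullback_comp]
  refine GrothendieckTopology.pullback_stable _ b ?_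
  rw [Functor.map_comp, Sieve.pullback_comp]
  refine GrothendieckTopology.pullback_stable _ _ ?_
  haveI := (hV k).1
  obtain ⟨T, l, hT, hl⟩ := exists_zLoc_over i (V k)
  refine GrothendieckTopology.superset_covering _ ?_ hl
  rw [Sieve.generate_le_iff]
  rintro _ _ ⟨⟩
  exact ⟨T, 𝟙 _, _, Category.id_comp _, hT⟩

/-- A morphism bijective on these special fibres is an isomorphism. -/
theorem isIso_of_zLoc [ProEtS.PCont i] {A B : ProEtS.AbP Z} (φ : A ⟶ B)
    (h : ∀ T, ZLoc i T → Function.Bijective (φ.hom.app (op ((ProEtS.bcP i).obj T)))) : IsIso φ := by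
  haveI : Sheaf.IsLocallyInjective φ := ⟨fun {W} x y hxy => by
    obtain ⟨R, hR, hR'⟩ := exists_zLoc_cover i W.unop
    refine GrothendieckTopology.superset_covering _ (fun W' f hf => ?_) hR
    obtain ⟨T, a, f', rfl, hT⟩ := hR' f hf
    show A.obj.map (a ≫ f').op x = A.obj.map (a ≫ f').op y
    rw [op_comp, Functor.map_comp_apply, Functor.map_comp_apply]
    refine congrArg _ ((h T hT).1 ?_)
    erw [NatTrans.naturality_apply φ.hom f'.op x, NatTrans.naturality_apply φ.hom f'.op y, hxy]⟩
  haveI : Sheaf.IsLocallySurjective φ := ⟨fun {W} s => by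
    obtain ⟨R, hR, hR'⟩ := exists_zLoc_cover i W
    refine GrothendieckTopology.superset_covering _ (fun W' f hf => ?_) hR
    obtain ⟨T, a, f', rfl, hT⟩ := hR' f hf
    obtain ⟨r, hr⟩ := (h T hT).2 (B.obj.map f'.op s)
    refine ⟨A.obj.map a.op r, ?_⟩
    erw [NatTrans.naturality_apply φ.hom a.op r, hr]
    rw [op_comp, Functor.map_comp_apply]⟩
  exact (Sheaf.isLocallyBijective_iff_isIso φ).1 ⟨inferInstance, inferInstance⟩

end GrothLib.ProEtS
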