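import Mathlib.CategoryTheory.Functor.Flat
import Mathlib.CategoryTheory.Functor.KanExtension.Adjunction
import Mathlib.CategoryTheory.Limits.ConcreteCategory.Basic
import Mathlib.Algebra.Category.ModuleCat.FilteredColimits
import Mathlib.Algebra.Category.ModuleCat.Limits
import Mathlib.CategoryTheory.Limits.Types.Filtered

/-!
# Elements of left Kan extensions of presheaves of modules along flat functors
-/

set_option autoImplicit false

universe w v₁ v₂ u₁ u₂

open CategoryTheory CategoryTheory.Limits Opposite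

namespace GrothLib.LanMod

variable {R : Type w} [Ring R] {C : Type w} [Category.{v₁} C] {D : Type u₂} [Category.{v₂} D] (L : C ⥤ D)
  (F : Cᵒᵖ ⥤ (ModuleCat.{w} R)) [∀ G : Cᵒᵖ ⥤ (ModuleCat.{w} R), L.op.HasPointwiseLeftKanExtension G]

/-- The element of `lan F` given by `g : Z ⟶ L V` and `s ∈ F V`, additive in `s`. -/
noncomputable def mk {Z : D} {V : C} (g : Z ⟶ L.obj V) : F.obj (op V) ⟶ (L.op.lan.obj F).obj (op Z) :=
  (L.op.lanUnit.app F).app (op V) ≫ (L.op.lan.obj F).map g.op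

theorem map_mk {Z Z' : D} (k : Z' ⟶ Z) {V : C} (g : Z ⟶ L.obj V) (s : F.obj (op V)) :
    (L.op.lan.obj F).map k.op (mk L F g s) = mk L F (k ≫ g) s := by
  simp only [mk, op_comp, ConcreteCategory.comp_apply, Functor.map_comp]

theorem mk_comp {Z : D} {V V' : C} (c : V' ⟶ V) (g : Z ⟶ L.obj V') (s : F.obj (op V)) :
    mk L F (g ≫ L.map c) s = mk L F g (F.map c.op s) := by
  simp only [mk, op_comp, ConcreteCategory.comp_apply, Functor.map_comp]
  exact congrArg _ (ConcreteCategory.congr_hom ((L.op.lanUnit.app F).naturality c.op) s).symm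

theorem mk_id {V : C} (s : F.obj (op V)) :
    mk L F (𝟙 (L.obj V)) s = (L.op.lanUnit.app F).app (op V) s := by
  simp [mk]

variable [LocallySmall.{w} D]

theorem mk_surjective [RepresentablyFlat L] [∀ Z : Dᵒᵖ, Small.{w} (CostructuredArrow L.op Z)]
    [∀ Z : Dᵒᵖ, PreservesColimitsOfShape (CostructuredArrow L.op Z) (forget (ModuleCat.{w} R))]
    {Z : D} (a : (L.op.lan.obj F).obj (op Z)) :
    ∃ (V : C) (g : Z ⟶ L.obj V) (s : F.obj (op V)), mk L F g s = a := by
  obtain ⟨j, s, rfl⟩ := Concrete.isColimit_exists_rep _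
    (Functor.isPointwiseLeftKanExtensionLeftKanExtensionUnit L.op F (op Z)) a
  exact ⟨j.left.unop, j.hom.unop, s, rfl⟩

theorem exists_of_mk_eq [RepresentablyFlat L] [∀ Z : Dᵒᵖ, Small.{w} (CostructuredArrow L.op Z)]
    [∀ Z : Dᵒᵖ, PreservesColimitsOfShape (CostructuredArrow L.op Z) (forget (ModuleCat.{w} R))]
    {Z : D} {V₁ V₂ : C} (g₁ : Z ⟶ L.obj V₁) (g₂ : Z ⟶ L.obj V₂) (s : F.obj (op V₁)) (t : F.obj (op V₂))
    (h : mk L F g₁ s = mk L F g₂ t) :
    ∃ (V' : C) (c₁ : V' ⟶ V₁) (c₂ : V' ⟶ V₂) (g' : Z ⟶ L.obj V'),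
      g' ≫ L.map c₁ = g₁ ∧ g' ≫ L.map c₂ = g₂ ∧ F.map c₁.op s = F.map c₂.op t := by
  haveI : RepresentablyCoflat L.op := (representablyCoflat_op_iff L).2 ‹_›
  obtain ⟨j, p, q, e⟩ := Concrete.isColimit_exists_of_rep_eq _
    (Functor.isPointwiseLeftKanExtensionLeftKanExtensionUnit L.op F (op Z))
    (i := CostructuredArrow.mk (S := L.op) (Y := op V₁) g₁.op)
    (j := CostructuredArrow.mk (S := L.op) (Y := op V₂) g₂.op) s t h
  exact ⟨j.left.unop, p.left.unop, q.left.unop, j.hom.unop, Quiver.Hom.op_inj (CostructuredArrow.w p),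
    Quiver.Hom.op_inj (CostructuredArrow.w q), e⟩

end GrothLib.LanMod
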