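import Groth.Agent.Lib.ProEtS.Topology
import Groth.Agent.Lib.FibPow.Basic
import Groth.Agent.Lib.IndEt.WeaklyEtaleCover
import Mathlib.AlgebraicGeometry.AffineTransitionLimit

/-!
# Objects of the pro-étale site which are limits of qcqs étale schemes along affine maps
-/

set_option autoImplicit false
set_option backward.isDefEq.respectTransparency.types false

universe u

open CategoryTheory CategoryTheory.Limits AlgebraicGeometry Opposite

noncomputable section

namespace GrothLib.ProEtS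

variable {X : Scheme.{u}}

/-- The schemes underlying étale schemes. -/
abbrev etSch (X : Scheme.{u}) : X.Etale ⥤ Scheme.{u} :=
  MorphismProperty.Over.forget @Etale ⊤ X ⋙ CategoryTheory.Over.forget X

/-- A presentation as a cofiltered limit of qcqs étale schemes with affine transition maps. -/
structure Pres (Y : X.ProEt) : Type (u + 1) where
  I : Type u
  [cat : SmallCategory I]
  [cof : IsCofiltered I]
  D : I ⥤ X.Etale
  [compact : ∀ i, CompactSpace ↥(D.obj i).left]
  [qs : ∀ i, QuasiSeparatedSpace ↥(D.obj i).left]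
  [affineHom : ∀ {i j : I} (a : i ⟶ j), IsAffineHom (D.map a).left]
  π : ∀ i, Y ⟶ (ProEtS.eps X).obj (D.obj i)
  w : ∀ {i j : I} (a : i ⟶ j), π i ≫ (ProEtS.eps X).map (D.map a) = π j
  isLimit : IsLimit (C := Scheme.{u})
    { pt := Y.left
      π :=
        { app := fun i => (π i).left
          naturality := fun i j a => by
            refine (Category.id_comp _).trans ?_
            exact (congrArg (fun m : Y ⟶ (ProEtS.eps X).obj (D.obj j) => m.left) (w a)).symm } :
      Cone (D ⋙ etSch X) }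

attribute [instance] Pres.cat Pres.cof Pres.compact Pres.qs Pres.affineHom

namespace Pres

variable {Y : X.ProEt} (p : Pres Y)

/-- The diagram of schemes. -/
abbrev diag : p.I ⥤ Scheme.{u} := p.D ⋙ etSch X

/-- The limit cone of schemes. -/
abbrev cone : Cone p.diag :=
  { pt := Y.left
    π :=
      { app := fun i => (p.π i).left
        naturality := fun i j a => (Category.id_comp _).trans
          (congrArg (fun m : Y ⟶ (ProEtS.eps X).obj (p.D.obj j) => m.left) (p.w a)).symm } }

instance (i : p.I) : CompactSpace ↥(p.diag.obj i) := p.compact i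

instance (i : p.I) : QuasiSeparatedSpace ↥(p.diag.obj i) := p.qs i

instance {i j : p.I} (a : i ⟶ j) : IsAffineHom (p.diag.map a) := p.affineHom a

theorem w_left {i : p.I} : (p.π i).left ≫ (p.D.obj i).hom = Y.hom := MorphismProperty.Over.w (p.π i)

/-- The structure maps. -/
abbrev toConst : p.diag ⟶ (Functor.const p.I).obj X where
  app i := (p.D.obj i).hom
  naturality i j a := (MorphismProperty.Over.w (p.D.map a)).trans (Category.comp_id _).symm

theorem exists_hom {V : X.Etale} (g : Y ⟶ (ProEtS.eps X).obj V) :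
    ∃ (i : p.I) (g' : p.D.obj i ⟶ V), p.π i ≫ (ProEtS.eps X).map g' = g := by
  haveI : Etale V.hom := V.prop
  obtain ⟨i, g', h1, h2⟩ := Scheme.exists_π_app_comp_eq_of_locallyOfFinitePresentation p.diag
    p.toConst V.hom p.cone p.isLimit g.left (by
      ext i : 2
      exact p.w_left.trans (MorphismProperty.Over.w g).symm)
  exact ⟨i, MorphismProperty.Over.homMk g' h2 trivial, MorphismProperty.Over.Hom.ext h1⟩

theorem exists_eq {V : X.Etale} {i : p.I} (a b : p.D.obj i ⟶ V)
    (h : p.π i ≫ (ProEtS.eps X).map a = p.π i ≫ (ProEtS.eps X).map b) :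
    ∃ (j : p.I) (t : j ⟶ i), p.D.map t ≫ a = p.D.map t ≫ b := by
  haveI : Etale V.hom := V.prop
  obtain ⟨j, t, ht⟩ := Scheme.exists_hom_comp_eq_comp_of_locallyOfFiniteType p.diag
    p.toConst V.hom p.cone p.isLimit a.left b.left (MorphismProperty.Over.w a).symm (MorphismProperty.Over.w b).symm
    (congrArg (fun m : Y ⟶ (ProEtS.eps X).obj V => m.left) h)
  exact ⟨j, t, MorphismProperty.Over.Hom.ext ht⟩

include p in
theorem compactSpace : CompactSpace ↥Y.left :=
  Scheme.compactSpace_of_isLimit p.diag p.cone p.isLimit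

theorem hom_ext {W : Scheme.{u}} {a b : W ⟶ Y.left} (h : ∀ i, a ≫ (p.π i).left = b ≫ (p.π i).left) : a = b :=
  p.isLimit.hom_ext h

end Pres

/-- A morphism between stages of presentations compatible with `f`. -/
structure Model {T Y : X.ProEt} (f : T ⟶ Y) (pT : Pres T) (pY : Pres Y) : Type u where
  l : pT.I
  m : pY.I
  φ : pT.D.obj l ⟶ pY.D.obj m
  comm : pT.π l ≫ (ProEtS.eps X).map φ = f ≫ pY.π m

namespace Model

variable {T Y : X.ProEt} {f : T ⟶ Y} {pT : Pres T} {pY : Pres Y}

/-- Morphisms of models. -/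
@[ext]
structure Hom (k k' : Model f pT pY) : Type u where
  a : k.l ⟶ k'.l
  b : k.m ⟶ k'.m
  comm : pT.D.map a ≫ k'.φ = k.φ ≫ pY.D.map b

attribute [reassoc] Hom.comm

instance : SmallCategory (Model f pT pY) where
  Hom := Hom
  id k := ⟨𝟙 _, 𝟙 _, by simp⟩
  comp u v := ⟨u.a ≫ v.a, u.b ≫ v.b, by simp [v.comm, u.comm_assoc]⟩
  id_comp u := Hom.ext (Category.id_comp u.a) (Category.id_comp u.b)
  comp_id u := Hom.ext (Category.comp_id u.a) (Category.comp_id u.b)
  assoc u v w := Hom.ext (Category.assoc u.a v.a w.a) (Category.assoc u.b v.b w.b)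

/-- Over any stage of the target and any stage of the source there is a model. -/
theorem exists_over (f : T ⟶ Y) (pT : Pres T) (pY : Pres Y) (l : pT.I) (m : pY.I) :
    ∃ k : Model f pT pY, Nonempty (k.l ⟶ l) ∧ k.m = m := by
  obtain ⟨i, g, hg⟩ := pT.exists_hom (f ≫ pY.π m)
  refine ⟨⟨IsCofiltered.min l i, m, pT.D.map (IsCofiltered.minToRight l i) ≫ g, ?_⟩, ⟨IsCofiltered.minToLeft l i⟩, rfl⟩
  rw [Functor.map_comp, ← Category.assoc, pT.w, hg]

theorem exists_pair (k k₀ : Model f pT pY) (a : k₀.l ⟶ k.l) (b : k₀.m ⟶ k.m) :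
    ∃ (k₁ : Model f pT pY) (u : k₁ ⟶ k₀) (v : k₁ ⟶ k), v.a = u.a ≫ a ∧ v.b = u.b ≫ b := by
  obtain ⟨j, t, ht⟩ := pT.exists_eq (pT.D.map a ≫ k.φ) (k₀.φ ≫ pY.D.map b) (by
    rw [Functor.map_comp, ← Category.assoc, pT.w, k.comm, Functor.map_comp, ← Category.assoc, k₀.comm,
      Category.assoc, pY.w])
  let k₁ : Model f pT pY := ⟨j, k₀.m, pT.D.map t ≫ k₀.φ, by
    rw [Functor.map_comp, ← Category.assoc, pT.w, k₀.comm]⟩
  refine ⟨k₁, ⟨t, 𝟙 _, by simp [k₁]⟩, ⟨t ≫ a, b, ?_⟩, rfl, (Category.id_comp _).symm⟩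
  show pT.D.map (t ≫ a) ≫ k.φ = (pT.D.map t ≫ k₀.φ) ≫ pY.D.map b
  rw [Functor.map_comp, Category.assoc, ht, Category.assoc]

instance : IsCofiltered (Model f pT pY) :=
  { nonempty := by
      obtain ⟨l⟩ := IsCofiltered.nonempty (C := pT.I)
      obtain ⟨m⟩ := IsCofiltered.nonempty (C := pY.I)
      obtain ⟨k, -, -⟩ := exists_over f pT pY l m
      exact ⟨k⟩
    cone_objs := fun k k' => by
      obtain ⟨k₀, ⟨α⟩, e⟩ := exists_over f pT pY (IsCofiltered.min k.l k'.l) (IsCofiltered.min k.m k'.m)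
      obtain ⟨k₁, u, v, -, -⟩ := exists_pair k k₀ (α ≫ IsCofiltered.minToLeft _ _)
        (eqToHom e ≫ IsCofiltered.minToLeft _ _)
      obtain ⟨k₂, u', v', -, -⟩ := exists_pair k' k₁ (u.a ≫ α ≫ IsCofiltered.minToRight _ _)
        (u.b ≫ eqToHom e ≫ IsCofiltered.minToRight _ _)
      exact ⟨k₂, u' ≫ v, v', trivial⟩
    cone_maps := fun k k' u v => by
      obtain ⟨k₀, ⟨α⟩, e⟩ := exists_over f pT pY (IsCofiltered.eq u.a v.a) (IsCofiltered.eq u.b v.b)
      obtain ⟨k₁, w, z, hza, hzb⟩ := exists_pair k k₀ (α ≫ IsCofiltered.eqHom u.a v.a)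
        (eqToHom e ≫ IsCofiltered.eqHom u.b v.b)
      refine ⟨k₁, z, Hom.ext ?_ ?_⟩
      · show z.a ≫ u.a = z.a ≫ v.a
        rw [hza, Category.assoc, Category.assoc, Category.assoc, Category.assoc, IsCofiltered.eq_condition]
      · show z.b ≫ u.b = z.b ≫ v.b
        rw [hzb, Category.assoc, Category.assoc, Category.assoc, Category.assoc, IsCofiltered.eq_condition] }

end Model

end GrothLib.ProEtS
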