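import Groth.Agent.Lib.ProEtS.Pres
import Groth.Agent.Lib.FibPow.Pullback

/-!
# Fibre powers of pro-affine-étale objects
-/

set_option autoImplicit false
set_option backward.isDefEq.respectTransparency.types false

universe u

open CategoryTheory CategoryTheory.Limits AlgebraicGeometry Opposite

noncomputable section

namespace GrothLib.ProEtS

variable {X : Scheme.{u}}

theorem preservesFiniteLimits_eps (X : Scheme.{u}) : PreservesFiniteLimits (ProEtS.eps X) := by
  haveI : PreservesFiniteLimits (ProEtS.eps X ⋙ Scheme.ProEt.forget X) :=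
    inferInstanceAs (PreservesFiniteLimits (MorphismProperty.Over.forget @Etale ⊤ X))
  exact preservesFiniteLimits_of_reflects_of_preserves (ProEtS.eps X) (Scheme.ProEt.forget X)

theorem preservesPullbacks_etSch (X : Scheme.{u}) : PreservesLimitsOfShape WalkingCospan (etSch X) :=
  inferInstanceAs (PreservesLimitsOfShape WalkingCospan
    (MorphismProperty.Over.forget @Etale ⊤ X ⋙ CategoryTheory.Over.forget X))

/-- Pullbacks of affine maps over a separated map of bases are affine. -/
theorem isAffineHom_pullback_map {A B S A' B' S' : Scheme.{u}} (f : A ⟶ S) (g : B ⟶ S) (f' : A' ⟶ S')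
    (g' : B' ⟶ S') (a : A ⟶ A') (b : B ⟶ B') (c : S ⟶ S') [IsAffineHom a] [IsAffineHom b] [IsSeparated c]
    (e₁ : f ≫ c = a ≫ f') (e₂ : g ≫ c = b ≫ g') : IsAffineHom (pullback.map f g f' g' a b c e₁ e₂) := by
  haveI : IsAffineHom (pullback.map (f ≫ c) (g ≫ c) f' g' a b (𝟙 S') ((Category.comp_id _).trans e₁)
      ((Category.comp_id _).trans e₂)) := MorphismProperty.pullbackMap ‹IsAffineHom a› ‹IsAffineHom b› e₁ e₂
  have h : pullback.map f g f' g' a b c e₁ e₂ = pullback.mapDesc f g c ≫
      pullback.map (f ≫ c) (g ≫ c) f' g' a b (𝟙 S') ((Category.comp_id _).trans e₁) ((Category.comp_id _).trans e₂) := by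
    apply pullback.hom_ext
    · simp only [pullback.mapDesc, Category.assoc, pullback.lift_fst, pullback.lift_fst_assoc, Category.comp_id]
    · simp only [pullback.mapDesc, Category.assoc, pullback.lift_snd, pullback.lift_snd_assoc, Category.comp_id]
  rw [h]
  infer_instance

theorem compact_qs_pullback {P T Y : X.Etale} (a : P ⟶ Y) (φ : T ⟶ Y) [CompactSpace ↥P.left]
    [QuasiSeparatedSpace ↥P.left] [CompactSpace ↥T.left] [QuasiSeparatedSpace ↥T.left] [QuasiSeparatedSpace ↥Y.left] :
    CompactSpace ↥(pullback a φ).left ∧ QuasiSeparatedSpace ↥(pullback a φ).left := by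
  haveI := preservesPullbacks_etSch X
  let e := PreservesPullback.iso (etSch X) a φ
  have h₁ : QuasiCompact φ.left := inferInstance
  have h₂ : QuasiSeparated φ.left := .of_quasiSeparatedSpace _
  haveI : QuasiCompact ((etSch X).map φ) := h₁
  haveI : QuasiSeparated ((etSch X).map φ) := h₂
  haveI : CompactSpace ↥((etSch X).obj P) := ‹CompactSpace ↥P.left›
  haveI : QuasiSeparatedSpace ↥((etSch X).obj P) := ‹QuasiSeparatedSpace ↥P.left›
  haveI : QuasiCompact (pullback.fst ((etSch X).map a) ((etSch X).map φ)) :=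
    MorphismProperty.pullback_fst _ _ ‹QuasiCompact ((etSch X).map φ)›
  haveI : QuasiSeparated (pullback.fst ((etSch X).map a) ((etSch X).map φ)) :=
    MorphismProperty.pullback_fst _ _ ‹QuasiSeparated ((etSch X).map φ)›
  exact ⟨QuasiCompact.compactSpace_of_compactSpace (e.hom ≫ pullback.fst _ _),
    quasiSeparatedSpace_of_quasiSeparated (e.hom ≫ pullback.fst _ _)⟩

theorem isAffineHom_left_of_pullback {P Q T T' S S' : X.Etale} {a : P ⟶ S} {φ : T ⟶ S} {a' : Q ⟶ S'}
    {φ' : T' ⟶ S'} (m : P ⟶ Q) (t : T ⟶ T') (s : S ⟶ S') [IsAffineHom m.left] [IsAffineHom t.left]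
    [IsSeparated s.left] (c₁ : a ≫ s = m ≫ a') (c₂ : φ ≫ s = t ≫ φ') (M : pullback a φ ⟶ pullback a' φ')
    (hfst : M ≫ pullback.fst a' φ' = pullback.fst a φ ≫ m) (hsnd : M ≫ pullback.snd a' φ' = pullback.snd a φ ≫ t) :
    IsAffineHom M.left := by
  haveI := preservesPullbacks_etSch X
  haveI : IsAffineHom ((etSch X).map m) := ‹IsAffineHom m.left›
  haveI : IsAffineHom ((etSch X).map t) := ‹IsAffineHom t.left›
  haveI : IsSeparated ((etSch X).map s) := ‹IsSeparated s.left›
  have d₁ : (etSch X).map a ≫ (etSch X).map s = (etSch X).map m ≫ (etSch X).map a' := by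
    rw [← Functor.map_comp, ← Functor.map_comp, c₁]
  have d₂ : (etSch X).map φ ≫ (etSch X).map s = (etSch X).map t ≫ (etSch X).map φ' := by
    rw [← Functor.map_comp, ← Functor.map_comp, c₂]
  haveI := isAffineHom_pullback_map _ _ _ _ _ _ _ d₁ d₂
  have hM : (etSch X).map M ≫ (PreservesPullback.iso (etSch X) a' φ').hom =
      (PreservesPullback.iso (etSch X) a φ).hom ≫ pullback.map _ _ _ _ _ _ _ d₁ d₂ := by
    apply pullback.hom_ext
    · rw [Category.assoc, Category.assoc, pullback.lift_fst, PreservesPullback.iso_hom_fst,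
        PreservesPullback.iso_hom_fst_assoc, ← Functor.map_comp, ← Functor.map_comp, hfst]
    · rw [Category.assoc, Category.assoc, pullback.lift_snd, PreservesPullback.iso_hom_snd,
        PreservesPullback.iso_hom_snd_assoc, ← Functor.map_comp, ← Functor.map_comp, hsnd]
  have : IsAffineHom ((etSch X).map M ≫ (PreservesPullback.iso (etSch X) a' φ').hom) := by rw [hM]; infer_instance
  exact (MorphismProperty.cancel_right_of_respectsIso @IsAffineHom _ (PreservesPullback.iso (etSch X) a' φ').hom).1 this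

theorem compact_qs_powAux {T Y : X.Etale} (φ : T ⟶ Y) [CompactSpace ↥T.left] [QuasiSeparatedSpace ↥T.left]
    [QuasiSeparatedSpace ↥Y.left] :
    ∀ n, CompactSpace ↥(FibPow.powAux φ n).1.left ∧ QuasiSeparatedSpace ↥(FibPow.powAux φ n).1.left
  | 0 => ⟨‹CompactSpace ↥T.left›, ‹QuasiSeparatedSpace ↥T.left›⟩
  | n + 1 => by
    obtain ⟨_, _⟩ := compact_qs_powAux φ n
    exact compact_qs_pullback ((FibPow.powAux φ n).2 0 ≫ φ) φ

namespace Model

variable {T Y : X.ProEt} {f : T ⟶ Y} {pT : Pres T} {pY : Pres Y}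

/-- The fibre powers of a model. -/
abbrev pow (k : Model f pT pY) : FibPow k.φ := FibPow.ofPullbacks k.φ

theorem isPow_eps (k : Model f pT pY) (n : ℕ) :
    FibPow.IsPow ((ProEtS.eps X).map k.φ) ((ProEtS.eps X).obj (k.pow.P n))
      (fun i => (ProEtS.eps X).map (k.pow.π n i)) := by
  haveI := preservesFiniteLimits_eps X
  exact FibPow.isPow_map k.φ (ProEtS.eps X) k.pow n

/-- The diagram of fibre powers of models. -/
def powDiag (f : T ⟶ Y) (pT : Pres T) (pY : Pres Y) (n : ℕ) : Model f pT pY ⥤ X.Etale where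
  obj k := k.pow.P n
  map {k k'} u := k'.pow.lift n (fun i => k.pow.π n i ≫ pT.D.map u.a) fun i j => by
    rw [Category.assoc, Category.assoc, u.comm, ← Category.assoc, ← Category.assoc, k.pow.w]
  map_id k := k.pow.hom_ext _ _ _ fun i => by
    rw [FibPow.lift_π, Category.id_comp]
    exact (congrArg (_ ≫ ·) (pT.D.map_id _)).trans (Category.comp_id _)
  map_comp {k k' k''} u v := k''.pow.hom_ext _ _ _ fun i => by
    rw [FibPow.lift_π, Category.assoc, FibPow.lift_π, FibPow.lift_π_assoc, Category.assoc]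
    exact congrArg (_ ≫ ·) (pT.D.map_comp _ _)

theorem isAffineHom_powDiag_map {k k' : Model f pT pY} (u : k ⟶ k') : ∀ n,
    IsAffineHom ((powDiag f pT pY n).map u).left
  | 0 => by
    have h : (powDiag f pT pY 0).map u = pT.D.map u.a := by
      have h' := k'.pow.lift_π 0 (fun i => k.pow.π 0 i ≫ pT.D.map u.a) (fun i j => by
        rw [Category.assoc, Category.assoc, u.comm, ← Category.assoc, ← Category.assoc, k.pow.w]) 0
      exact (Category.comp_id _).symm.trans (h'.trans (Category.id_comp _))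
    exact (congrArg (fun m : k.pow.P 0 ⟶ k'.pow.P 0 => IsAffineHom m.left) h).mpr (pT.affineHom u.a)
  | n + 1 => by
    have hπ : ∀ l i, (powDiag f pT pY l).map u ≫ k'.pow.π l i = k.pow.π l i ≫ pT.D.map u.a := fun l i =>
      k'.pow.lift_π l (fun i => k.pow.π l i ≫ pT.D.map u.a) (fun i j => by
        rw [Category.assoc, Category.assoc, u.comm, ← Category.assoc, ← Category.assoc, k.pow.w]) i
    let m : (FibPow.powAux k.φ n).1 ⟶ (FibPow.powAux k'.φ n).1 := (powDiag f pT pY n).map u
    haveI : IsAffineHom m.left := isAffineHom_powDiag_map u n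
    haveI := pT.affineHom u.a
    haveI := pY.affineHom u.b
    have hm : ∀ i, m ≫ (FibPow.powAux k'.φ n).2 i = (FibPow.powAux k.φ n).2 i ≫ pT.D.map u.a := hπ n
    refine isAffineHom_left_of_pullback m (pT.D.map u.a) (pY.D.map u.b) ?_ u.comm.symm
      ((powDiag f pT pY (n + 1)).map u) ?_ ((hπ (n + 1) 0).trans rfl)
    · rw [Category.assoc, ← u.comm, ← Category.assoc, ← hm 0, Category.assoc]
    · refine (FibPow.isPow_powAux k'.φ n).hom_ext _ _ fun i => ?_
      refine (Category.assoc _ _ _).trans ((hπ (n + 1) i.succ).trans ?_)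
      refine Eq.trans ?_ ((congrArg (pullback.fst _ _ ≫ ·) (hm i)).symm.trans (Category.assoc _ _ _).symm)
      exact Category.assoc _ _ _

variable (E : FibPow f)

theorem exists_proj (k : Model f pT pY) (n : ℕ) : ∃ q : E.P n ⟶ (ProEtS.eps X).obj (k.pow.P n),
    ∀ i, q ≫ (ProEtS.eps X).map (k.pow.π n i) = E.π n i ≫ pT.π k.l :=
  (k.isPow_eps n).exists_lift _ fun i j => by
    rw [Category.assoc, Category.assoc, k.comm, ← Category.assoc, ← Category.assoc, E.w]

/-- The projection to the fibre power of a model. -/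
def proj (k : Model f pT pY) (n : ℕ) : E.P n ⟶ (ProEtS.eps X).obj (k.pow.P n) := (k.exists_proj E n).choose

theorem proj_π (k : Model f pT pY) (n : ℕ) (i : Fin (n + 1)) :
    k.proj E n ≫ (ProEtS.eps X).map (k.pow.π n i) = E.π n i ≫ pT.π k.l :=
  (k.exists_proj E n).choose_spec i

theorem exists_le (k : Model f pT pY) {l : pT.I} (a : l ⟶ k.l) :
    ∃ (k₁ : Model f pT pY) (u : k₁ ⟶ k) (α : k₁.l ⟶ l), u.a = α ≫ a := by
  obtain ⟨k₀, ⟨α⟩, e⟩ := exists_over f pT pY l k.m
  obtain ⟨k₁, u, v, h, -⟩ := exists_pair k k₀ (α ≫ a) (eqToHom e)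
  exact ⟨k₁, v, u.a ≫ α, h.trans (Category.assoc _ _ _).symm⟩

omit E in
theorem powDiag_map_π {k k' : Model f pT pY} (u : k ⟶ k') (n : ℕ) (i : Fin (n + 1)) :
    (powDiag f pT pY n).map u ≫ k'.pow.π n i = k.pow.π n i ≫ pT.D.map u.a :=
  k'.pow.lift_π n (fun i => k.pow.π n i ≫ pT.D.map u.a) (fun i j => by
    rw [Category.assoc, Category.assoc, u.comm, ← Category.assoc, ← Category.assoc, k.pow.w]) i

theorem proj_map {k k' : Model f pT pY} (u : k ⟶ k') (n : ℕ) :
    k.proj E n ≫ (ProEtS.eps X).map ((powDiag f pT pY n).map u) = k'.proj E n := by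
  refine (k'.isPow_eps n).hom_ext _ _ fun i => ?_
  have h := powDiag_map_π u n i
  refine (Category.assoc _ _ _).trans ?_
  refine (congrArg (k.proj E n ≫ ·) (((ProEtS.eps X).map_comp _ _).symm.trans (congrArg (ProEtS.eps X).map h))).trans ?_
  rw [Functor.map_comp, ← Category.assoc, proj_π, Category.assoc, pT.w, proj_π]

section

variable {n : ℕ} {W : Scheme.{u}} (s : ∀ k : Model f pT pY, W ⟶ (k.pow.P n).left)
  (hs : ∀ {k k' : Model f pT pY} (u : k ⟶ k'), s k ≫ ((powDiag f pT pY n).map u).left = s k')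

include hs in
theorem component_natural {k k' : Model f pT pY} (u : k ⟶ k') (i : Fin (n + 1)) :
    s k' ≫ (k'.pow.π n i).left = s k ≫ (k.pow.π n i).left ≫ (pT.D.map u.a).left := by
  refine (congrArg (· ≫ (k'.pow.π n i).left) (hs u)).symm.trans ?_
  refine (Category.assoc _ _ _).trans (congrArg (s k ≫ ·) ?_)
  exact congrArg (fun m : k.pow.P n ⟶ pT.D.obj k'.l => m.left) (powDiag_map_π u n i)

include hs in
theorem component_eq (i : Fin (n + 1)) {l : pT.I} (k k' : Model f pT pY) (α : k.l ⟶ l) (α' : k'.l ⟶ l) :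
    s k ≫ (k.pow.π n i).left ≫ (pT.D.map α).left = s k' ≫ (k'.pow.π n i).left ≫ (pT.D.map α').left := by
  obtain ⟨k₂, u, u', -⟩ := IsCofilteredOrEmpty.cone_objs k k'
  obtain ⟨k₃, z, β, hz⟩ := exists_le k₂ (IsCofiltered.eqHom (u.a ≫ α) (u'.a ≫ α'))
  have e : z.a ≫ u.a ≫ α = z.a ≫ u'.a ≫ α' := by
    rw [hz, Category.assoc, Category.assoc, IsCofiltered.eq_condition]
  have h1 : ∀ (k₀ : Model f pT pY) (w : k₃ ⟶ k₀) (γ : k₀.l ⟶ l),
      s k₀ ≫ (k₀.pow.π n i).left ≫ (pT.D.map γ).left =
        s k₃ ≫ (k₃.pow.π n i).left ≫ (pT.D.map (w.a ≫ γ)).left := fun k₀ w γ => by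
    rw [reassoc_of% (component_natural s hs w i), Functor.map_comp]
    rfl
  rw [h1 k (z ≫ u) α, h1 k' (z ≫ u') α', show (z ≫ u).a ≫ α = (z ≫ u').a ≫ α' from
    (Category.assoc _ _ _).trans (e.trans (Category.assoc _ _ _).symm)]

include hs in
theorem exists_component (i : Fin (n + 1)) : ∃ t : W ⟶ T.left,
    ∀ (k : Model f pT pY) (l : pT.I) (α : k.l ⟶ l),
      t ≫ (pT.π l).left = s k ≫ (k.pow.π n i).left ≫ (pT.D.map α).left := by
  have hover : ∀ l, ∃ k : Model f pT pY, Nonempty (k.l ⟶ l) := fun l => by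
    obtain ⟨k, h, -⟩ := exists_over f pT pY l (IsCofiltered.nonempty (C := pY.I)).some
    exact ⟨k, h⟩
  choose ko hko using hover
  let c : Cone pT.diag :=
    { pt := W
      π :=
        { app := fun l => s (ko l) ≫ ((ko l).pow.π n i).left ≫ (pT.D.map (hko l).some).left
          naturality := fun l l' a => by
            refine (Category.id_comp _).trans
              ((component_eq s hs i (ko l') (ko l) (hko l').some ((hko l).some ≫ a)).trans ?_)
            rw [Functor.map_comp]
            simp only [Category.assoc]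
            rfl } }
  exact ⟨pT.isLimit.lift c, fun k l α => (pT.isLimit.fac c l).trans (component_eq s hs i _ _ _ _)⟩

theorem proj_left_π (k : Model f pT pY) (i : Fin (n + 1)) :
    (k.proj E n).left ≫ (k.pow.π n i).left = (E.π n i).left ≫ (pT.π k.l).left :=
  congrArg (fun m : E.P n ⟶ (ProEtS.eps X).obj (pT.D.obj k.l) => m.left) (k.proj_π E n i)

include hs in
theorem existsUnique_lift : ∃! g : W ⟶ (E.P n).left, ∀ k : Model f pT pY, g ≫ (k.proj E n).left = s k := by
  haveI := preservesPullbacks_etSch X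
  have hP := FibPow.isPow_map f (Scheme.ProEt.forget X ⋙ CategoryTheory.Over.forget X) E n
  choose t ht using fun i => exists_component s hs i
  obtain ⟨g, hg⟩ := hP.exists_lift t fun i j => pY.hom_ext fun m => by
    obtain ⟨k, -, rfl⟩ := exists_over f pT pY (IsCofiltered.nonempty (C := pT.I)).some m
    have hc : f.left ≫ (pY.π k.m).left = (pT.π k.l).left ≫ k.φ.left :=
      (congrArg (fun m : T ⟶ (ProEtS.eps X).obj (pY.D.obj k.m) => m.left) k.comm).symm
    have hw : ∀ i, (t i ≫ f.left) ≫ (pY.π k.m).left = s k ≫ (k.pow.π n i ≫ k.φ).left := fun i => by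
      have h2 : t i ≫ (pT.π k.l).left = s k ≫ (k.pow.π n i).left := by
        refine (ht i k k.l (𝟙 _)).trans ?_
        rw [CategoryTheory.Functor.map_id]
        exact congrArg (s k ≫ ·) (Category.comp_id _)
      refine (Category.assoc _ _ _).trans ((congrArg (t i ≫ ·) hc).trans ((Category.assoc _ _ _).symm.trans
        ((congrArg (· ≫ k.φ.left) h2).trans (Category.assoc _ _ _))))
    show (t i ≫ f.left) ≫ _ = (t j ≫ f.left) ≫ _
    rw [hw, hw, k.pow.w n i j]
  refine ⟨g, fun k => ?_, fun g' hg' => hP.hom_ext _ _ fun i => ?_⟩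
  · refine (FibPow.isPow_map k.φ (etSch X) k.pow n).hom_ext _ _ fun i => ?_
    show (g ≫ (k.proj E n).left) ≫ (k.pow.π n i).left = s k ≫ (k.pow.π n i).left
    refine (Category.assoc _ _ _).trans ((congrArg (g ≫ ·) (proj_left_π E k i)).trans
      ((Category.assoc _ _ _).symm.trans ((congrArg (· ≫ (pT.π k.l).left) (hg i)).trans ((ht i k k.l (𝟙 _)).trans ?_))))
    rw [CategoryTheory.Functor.map_id]
    exact congrArg (s k ≫ ·) (Category.comp_id _)
  · refine Eq.trans ?_ (hg i).symm
    refine pT.hom_ext fun l => ?_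
    obtain ⟨k, ⟨α⟩, -⟩ := exists_over f pT pY l (IsCofiltered.nonempty (C := pY.I)).some
    have hl : (pT.π k.l).left ≫ (pT.D.map α).left = (pT.π l).left :=
      congrArg (fun m : T ⟶ (ProEtS.eps X).obj (pT.D.obj l) => m.left) (pT.w α)
    rw [ht i k l α, ← hg' k]
    show (g' ≫ (E.π n i).left) ≫ (pT.π l).left = (g' ≫ (k.proj E n).left) ≫ _
    refine (congrArg ((g' ≫ (E.π n i).left) ≫ ·) hl).symm.trans ?_
    refine (Category.assoc _ _ _).trans ((congrArg (g' ≫ ·) ((Category.assoc _ _ _).symm.trans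
      (congrArg (· ≫ (pT.D.map α).left) (proj_left_π E k i).symm))).trans ?_)
    exact (congrArg (g' ≫ ·) (Category.assoc _ _ _)).trans (Category.assoc _ _ _).symm

end

/-- The presentation of a fibre power by those of models. -/
def powPres (pT : Pres T) (pY : Pres Y) (n : ℕ) : Pres (E.P n) where
  I := Model f pT pY
  D := powDiag f pT pY n
  compact k := (compact_qs_powAux k.φ n).1
  qs k := (compact_qs_powAux k.φ n).2
  affineHom u := isAffineHom_powDiag_map u n
  π k := k.proj E n
  w u := proj_map E u n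
  isLimit := IsLimit.ofExistsUnique fun c => existsUnique_lift E (fun k => c.π.app k) fun u => c.w u

end Model

end GrothLib.ProEtS
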