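import Groth.Agent.Lib.ProEtS.HenselCover
import Groth.Agent.Lib.ProEtS.LanElements
import Mathlib.CategoryTheory.Adjunction.PartialAdjoint
import Mathlib.CategoryTheory.Sites.RegularEpi

/-!
# Inverse image of sheaves of sets along a closed immersion has a left adjoint
-/

set_option autoImplicit false
set_option linter.style.haveILetI false
set_option backward.isDefEq.respectTransparency.types false

universe u

open CategoryTheory CategoryTheory.Limits AlgebraicGeometry Opposite

noncomputable section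

namespace GrothLib.ProEtS

variable {X Z : Scheme.{u}} (i : Z ⟶ X) [IsClosedImmersion i] [ProEtS.PCont i]

/-- `i⁻¹` on sheaves of sets. -/
abbrev pullT : Sheaf (Scheme.ProEt.topology X) (Type (u + 1)) ⥤ Sheaf (Scheme.ProEt.topology Z) (Type (u + 1)) :=
  (ProEtS.bcP i).sheafPullback (Type (u + 1)) (Scheme.ProEt.topology X) (Scheme.ProEt.topology Z)

/-- `i_*` on sheaves of sets. -/
abbrev pushT : Sheaf (Scheme.ProEt.topology Z) (Type (u + 1)) ⥤ Sheaf (Scheme.ProEt.topology X) (Type (u + 1)) :=
  (ProEtS.bcP i).sheafPushforwardContinuous (Type (u + 1)) (Scheme.ProEt.topology X) (Scheme.ProEt.topology Z)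

/-- The adjunction. -/
abbrev adjT : pullT i ⊣ pushT i :=
  (ProEtS.bcP i).sheafAdjunctionContinuous (Type (u + 1)) (Scheme.ProEt.topology X) (Scheme.ProEt.topology Z)

variable (F : Sheaf (Scheme.ProEt.topology X) (Type (u + 1)))

set_option maxHeartbeats 1000000 in
omit [IsClosedImmersion i] in
theorem exists_unit_eqT :
    ∃ (e : (pullT i).obj F ≅ (presheafToSheaf (Scheme.ProEt.topology Z) (Type (u + 1))).obj
        ((ProEtS.bcP i).op.lan.obj F.obj)),
      ∀ (T : X.ProEt) (s : F.obj.obj (op T)),
        e.hom.hom.app (op ((ProEtS.bcP i).obj T)) (((adjT i).unit.app F).hom.app (op T) s) =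
          (toSheafify (Scheme.ProEt.topology Z) ((ProEtS.bcP i).op.lan.obj F.obj)).app
            (op ((ProEtS.bcP i).obj T)) (LanElements.mk (ProEtS.bcP i) F.obj (𝟙 _) s) := by
  let adj := Functor.sheafPullbackConstruction.sheafAdjunctionContinuous (ProEtS.bcP i)
    (Type (u + 1)) (Scheme.ProEt.topology X) (Scheme.ProEt.topology Z)
  refine ⟨((adjT i).leftAdjointUniq adj).app F, fun T s => ?_⟩
  have h0 := Adjunction.unit_leftAdjointUniq_hom_app (adjT i) adj F
  have e := Adjunction.map_restrictFullyFaithful_unit_app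
      (((ProEtS.bcP i).op.lanAdjunction (Type (u + 1))).comp
        (sheafificationAdjunction (Scheme.ProEt.topology Z) (Type (u + 1))))
      (fullyFaithfulSheafToPresheaf (Scheme.ProEt.topology X) (Type (u + 1))) (Functor.FullyFaithful.id _)
      (L := Functor.sheafPullbackConstruction.sheafPullback (ProEtS.bcP i) (Type (u + 1))
        (Scheme.ProEt.topology X) (Scheme.ProEt.topology Z))
      (R := (ProEtS.bcP i).sheafPushforwardContinuous (Type (u + 1)) (Scheme.ProEt.topology X)
        (Scheme.ProEt.topology Z))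
      (Iso.refl _) (Iso.refl _) F
  have h1 : ((adj.unit.app F).hom.app (op T)) s = (toSheafify (Scheme.ProEt.topology Z)
      ((ProEtS.bcP i).op.lan.obj F.obj)).app (op ((ProEtS.bcP i).obj T)) (LanElements.mk (ProEtS.bcP i) F.obj (𝟙 _) s) := by
    simp only [LanElements.mk, op_id, Functor.map_id_apply]
    refine (ConcreteCategory.congr_hom (NatTrans.congr_app e (op T)) s).trans ?_
    rw [Adjunction.comp_unit_app, Functor.lanAdjunction_unit]
    rfl
  exact (ConcreteCategory.congr_hom (congrArg (fun φ : F ⟶ _ => φ.hom.app (op T)) h0) s).trans h1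

theorem bijective_unit_zLocT {T : X.ProEt} (hT : ZLoc i T) :
    Function.Bijective (((adjT i).unit.app F).hom.app (op T)) := by
  haveI := flat_bcP i
  obtain ⟨e, he⟩ := exists_unit_eqT i F
  let η := ((adjT i).unit.app F).hom
  let P := (ProEtS.bcP i).op.lan.obj F.obj
  let τ := toSheafify (Scheme.ProEt.topology Z) P
  constructor
  · intro s s' hs
    have h0 : τ.app _ (LanElements.mk (ProEtS.bcP i) F.obj (𝟙 _) s) =
        τ.app _ (LanElements.mk (ProEtS.bcP i) F.obj (𝟙 _) s') := by
      rw [← he T s, ← he T s']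
      exact congrArg _ hs
    let G : Sieve T :=
      { arrows := fun T' q => F.obj.map q.op s = F.obj.map q.op s'
        downward_closed := fun {_ _ q} hq b => by
          rw [op_comp, Functor.map_comp_apply, Functor.map_comp_apply, hq] }
    refine ((((isSheaf_iff_isSheaf_of_type _ _).1 F.property) _
      (sieve_mem_of_fibre i hT G ?_)).isSeparatedFor).ext fun W f hf => hf
    refine GrothendieckTopology.superset_covering _ (fun W m hm => ?_)
      (Presheaf.equalizerSieve_mem (Scheme.ProEt.topology Z) τ _ _ h0)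
    have hm' : P.map m.op (LanElements.mk (ProEtS.bcP i) F.obj (𝟙 _) s) =
        P.map m.op (LanElements.mk (ProEtS.bcP i) F.obj (𝟙 _) s') := hm
    rw [LanElements.map_mk, LanElements.map_mk] at hm'
    obtain ⟨T', c, g, h₁, hst⟩ := (LanElements.mk_eq_iff _ _ _ _ _).1 hm'
    exact ⟨T', c, g, hst, ((Category.comp_id _).symm.trans h₁.symm)⟩
  · intro t
    haveI := hT.1
    let t' := e.hom.hom.app _ t
    let G : Sieve T := Presheaf.imageSieve η t
    have hG : G ∈ Scheme.ProEt.topology X T := by
      refine sieve_mem_of_fibre i hT G ?_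
      refine GrothendieckTopology.transitive _ (Presheaf.imageSieve_mem (Scheme.ProEt.topology Z) τ t') _ ?_
      rintro W m ⟨z, hz⟩
      obtain ⟨V, g, x, rfl⟩ := LanElements.mk_surjective (ProEtS.bcP i) F.obj z
      obtain ⟨A, p₁, p₂, -⟩ := IsCofilteredOrEmpty.cone_objs
        (StructuredArrow.mk (T := ProEtS.bcP i) m) (StructuredArrow.mk (T := ProEtS.bcP i) g)
      refine covering_lifts i A.right W A.hom fun T' q b hb => ?_
      refine ⟨T', q ≫ p₁.right, 𝟙 _, ⟨F.obj.map (q ≫ p₂.right).op x, ?_⟩, ?_⟩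
      · apply (ConcreteCategory.bijective_of_isIso (e.hom.hom.app (op ((ProEtS.bcP i).obj T')))).1
        refine (he T' _).trans ?_
        rw [← LanElements.mk_comp, Category.id_comp, Functor.map_comp]
        erw [NatTrans.naturality_apply e.hom.hom ((ProEtS.bcP i).map (q ≫ p₁.right)).op t]
        have e₁ : A.hom ≫ (ProEtS.bcP i).map p₁.right = m := StructuredArrow.w p₁
        have e₂ : A.hom ≫ (ProEtS.bcP i).map p₂.right = g := StructuredArrow.w p₂
        rw [Functor.map_comp, ← hb, Category.assoc, Category.assoc, e₁, e₂, op_comp, Functor.map_comp_apply]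
        refine Eq.trans ?_ (congrArg _ hz)
        rw [← LanElements.map_mk]
        exact NatTrans.naturality_apply τ b.op _
      · rw [Category.id_comp, Functor.map_comp, ← hb, Category.assoc]
        exact congrArg (b ≫ ·) (StructuredArrow.w p₁).symm
    obtain ⟨n, W, -, hd, hu, hR⟩ := (wContractible_tfae.2.1 (wContractible_tfae.1.2 hT.2.1)) _ hG
    let V : Fin n → X.ProEt := fun k => Scheme.ProEt.mk ((W k).ι ≫ T.hom)
    let f : ∀ k, V k ⟶ T := fun k => MorphismProperty.Over.homMk (W k).ι
    haveI : ∀ k, IsOpenImmersion (f k).left := fun k => inferInstanceAs (IsOpenImmersion (W k).ι)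
    have hd' : ∀ a b, a ≠ b → Disjoint (Set.range (f a).left) (Set.range (f b).left) := fun a b hab => by
      show Disjoint (Set.range (W a).ι) (Set.range (W b).ι)
      rw [Scheme.Opens.range_ι, Scheme.Opens.range_ι]
      exact hd hab
    have hs : ∀ x : T.left, ∃ k y, (f k).left y = x := fun x => by
      obtain ⟨k, hk⟩ := Set.mem_iUnion.1 (hu.symm ▸ Set.mem_univ x)
      exact ⟨k, ⟨x, hk⟩, rfl⟩
    choose r hr using hR
    obtain ⟨s, hs'⟩ := (bijective_pi_sheaf
      F V f hd' hs).2 r
    refine ⟨s, ?_⟩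
    refine (bijective_pi_sheaf ((pushT i).obj ((pullT i).obj F)) V f hd' hs).1 (funext fun k => ?_)
    refine ((NatTrans.naturality_apply η (f k).op s).symm.trans ?_).trans (hr k)
    exact congrArg _ (congrFun hs' k)

/-- The sheaf of sets of an object. -/
abbrev epsT {Y : Scheme.{u}} (W : Y.ProEt) : Sheaf (Scheme.ProEt.topology Y) (Type (u + 1)) :=
  (presheafToSheaf _ _).obj (uliftYoneda.{u + 1}.obj W)

/-- Maps out of the sheaf of an object are sections. -/
def epsEquiv {Y : Scheme.{u}} (W : Y.ProEt) (G : Sheaf (Scheme.ProEt.topology Y) (Type (u + 1))) :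
    (epsT W ⟶ G) ≃ G.obj.obj (op W) :=
  ((sheafificationAdjunction _ _).homEquiv _ G).trans uliftYonedaEquiv

theorem epsEquiv_comp {Y : Scheme.{u}} (W : Y.ProEt) {G G' : Sheaf (Scheme.ProEt.topology Y) (Type (u + 1))}
    (f : epsT W ⟶ G) (g : G ⟶ G') : epsEquiv W G' (f ≫ g) = g.hom.app (op W) (epsEquiv W G f) := by
  simp only [epsEquiv, Equiv.trans_apply, Adjunction.homEquiv_naturality_right]
  rfl

theorem leftAdjointObjIsDefined_epsT {T : X.ProEt} (hT : ZLoc i T) :
    (pullT i).leftAdjointObjIsDefined (epsT ((ProEtS.bcP i).obj T)) := by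
  rw [Functor.leftAdjointObjIsDefined_iff]
  let θ := fun Y => Equiv.ofBijective _ (bijective_unit_zLocT i Y hT)
  exact Functor.CorepresentableBy.isCorepresentable (X := epsT T)
    { homEquiv := fun {Y} => ((epsEquiv T Y).trans (θ Y)).trans (epsEquiv ((ProEtS.bcP i).obj T) ((pullT i).obj Y)).symm
      homEquiv_comp := fun {Y Y'} g f => by
        apply (epsEquiv ((ProEtS.bcP i).obj T) ((pullT i).obj Y')).injective
        simp only [Equiv.trans_apply]
        refine Eq.trans ?_ (epsEquiv_comp _ _ ((pullT i).map g)).symm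
        refine Eq.trans ?_ (congrArg _ ((epsEquiv _ _).apply_symm_apply _)).symm
        rw [epsEquiv_comp]
        refine ((epsEquiv _ _).apply_symm_apply _).trans ?_
        exact ConcreteCategory.congr_hom (congrArg (fun φ => φ.hom.app (op T)) ((adjT i).unit.naturality g)) _ }

/-- Every sheaf is covered by the sheaves of the special fibres. -/
theorem exists_presentation_epi (G : Sheaf (Scheme.ProEt.topology Z) (Type (u + 1))) :
    ∃ (κ : Type (u + 1)) (T : κ → X.ProEt)
      (π : ∐ (fun k => epsT ((ProEtS.bcP i).obj (T k))) ⟶ G), (∀ k, ZLoc i (T k)) ∧ Epi π := by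
  refine ⟨Σ T : {T : X.ProEt // ZLoc i T}, G.obj.obj (op ((ProEtS.bcP i).obj T.1)), fun k => k.1.1,
    Sigma.desc fun k => (epsEquiv _ G).symm k.2, fun k => k.1.2, ⟨fun {G'} a b hab => ?_⟩⟩
  apply Sheaf.hom_ext
  ext W s
  obtain ⟨R, hR, hR'⟩ := exists_zLoc_cover i W.unop
  refine ((((isSheaf_iff_isSheaf_of_type _ _).1 G'.property) _ hR).isSeparatedFor).ext fun W' f hf => ?_
  obtain ⟨T, l, f', rfl, hT⟩ := hR' f hf
  rw [op_comp, Functor.map_comp_apply, Functor.map_comp_apply]
  refine congrArg _ ?_
  erw [← NatTrans.naturality_apply a.hom f'.op s, ← NatTrans.naturality_apply b.hom f'.op s]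
  have h := congrArg (Sigma.ι (fun k : Σ T : {T : X.ProEt // ZLoc i T}, G.obj.obj (op ((ProEtS.bcP i).obj T.1)) =>
    epsT ((ProEtS.bcP i).obj k.1.1)) ⟨⟨T, hT⟩, G.obj.map f'.op s⟩ ≫ ·) hab
  simp only [Sigma.ι_desc_assoc] at h
  have h' := congrArg (epsEquiv _ G') h
  rw [epsEquiv_comp, epsEquiv_comp, Equiv.apply_symm_apply] at h'
  exact h'

theorem isRightAdjoint_pullT : (pullT i).IsRightAdjoint := by
  refine Functor.isRightAdjoint_of_leftAdjointObjIsDefined_eq_top (top_le_iff.1 fun G _ => ?_)
  obtain ⟨κ, T, π, hT, hπ⟩ := exists_presentation_epi i G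
  let rg := IsRegularEpiCategory.regularEpiOfEpi π
  have hr : IsRegularEpi π := rg
  obtain ⟨r⟩ := hr.regularEpi
  obtain ⟨κ', T', ψ, hT', hψ⟩ := exists_presentation_epi i r.W
  have hdef : ∀ (κ : Type (u + 1)) (T : κ → X.ProEt), (∀ k, ZLoc i (T k)) →
      (pullT i).leftAdjointObjIsDefined (∐ fun k => epsT ((ProEtS.bcP i).obj (T k))) := fun κ T hT =>
    Functor.leftAdjointObjIsDefined_colimit _ fun k => leftAdjointObjIsDefined_epsT i (hT k.as)
  have hw : (ψ ≫ r.left) ≫ π = (ψ ≫ r.right) ≫ π := by
    rw [Category.assoc, Category.assoc, r.w]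
  have hc : IsColimit (Cofork.ofπ π hw) := Cofork.IsColimit.mk' _ fun s =>
    ⟨r.isColimit.desc (Cofork.ofπ s.π ((cancel_epi ψ).1 (by simpa using s.condition))),
      r.isColimit.fac _ WalkingParallelPair.one,
      fun {m} hm => (cancel_epi π).1 (hm.trans (r.isColimit.fac
        (Cofork.ofπ s.π ((cancel_epi ψ).1 (by simpa using s.condition))) WalkingParallelPair.one).symm)⟩
  exact Functor.leftAdjointObjIsDefined_of_isColimit hc fun j =>
    match j with
    | WalkingParallelPair.zero => hdef κ' T' hT'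
    | WalkingParallelPair.one => hdef κ T hT

end GrothLib.ProEtS
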