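import Groth.Agent.Lib.ProEtS.PushPres
import Mathlib.CategoryTheory.Sites.LocallySurjective
import Mathlib.CategoryTheory.Sites.LocallyBijective

/-!
# `ε⁻¹ f_* = f_* ε⁻¹` for qcqs `f`
-/

set_option autoImplicit false
set_option backward.isDefEq.respectTransparency.types false

universe u

open CategoryTheory CategoryTheory.Limits AlgebraicGeometry Opposite

noncomputable section

namespace GrothLib.ProEtS

variable {X Y : Scheme.{u}} (f : X ⟶ Y) [ProEtS.EpsCont X] [ProEtS.EpsCont Y] [ProEtS.PCont f]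

/-- The unit, pushed forward. -/
def bcUnit (F : EtCoh.Ab X) :
    (EtCoh.push f).obj F ⟶ (ProEtS.epsPush Y).obj ((ProEtS.pushP f).obj ((ProEtS.epsPull X).obj F)) :=
  ⟨{ app := fun V => unitSect F ((EtCoh.bc f).obj V.unop)
     naturality := fun V V' a => by
       refine (((ProEtS.epsAdj X).unit.app F).hom.naturality ((EtCoh.bc f).map a.unop).op).trans ?_
       exact congrArg (fun m => unitSect F _ ≫ ((ProEtS.epsPull X).obj F).obj.map m.op) (eps_map_bc f a.unop) }⟩

/-- The base change map `ε⁻¹ f_* ⟶ f_* ε⁻¹`. -/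
def pushEps : EtCoh.push f ⋙ ProEtS.epsPull Y ⟶ ProEtS.epsPull X ⋙ ProEtS.pushP f where
  app F := ((ProEtS.epsAdj Y).homEquiv _ _).symm (bcUnit f F)
  naturality F G φ := by
    refine ((ProEtS.epsAdj Y).homEquiv_naturality_left_symm ((EtCoh.push f).map φ) (bcUnit f G)).symm.trans ?_
    refine Eq.trans (congrArg ((ProEtS.epsAdj Y).homEquiv _ _).symm ?_)
      ((ProEtS.epsAdj Y).homEquiv_naturality_right_symm (bcUnit f F)
        ((ProEtS.pushP f).map ((ProEtS.epsPull X).map φ)))
    ext V : 3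
    exact congr_app (congrArg (fun m => m.hom) ((ProEtS.epsAdj X).unit.naturality φ))
      (op ((EtCoh.bc f).obj V.unop))

theorem pushEps_unitSect (F : EtCoh.Ab X) (V : Y.Etale) (t : F.obj.obj (op ((EtCoh.bc f).obj V))) :
    ((pushEps f).app F).hom.app (op ((ProEtS.eps Y).obj V)) (unitSect ((EtCoh.push f).obj F) V t) =
      unitSect F ((EtCoh.bc f).obj V) t := by
  have h : (ProEtS.epsAdj Y).unit.app ((EtCoh.push f).obj F) ≫ (ProEtS.epsPush Y).map ((pushEps f).app F) =
      bcUnit f F :=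
    ((ProEtS.epsAdj Y).homEquiv_unit _ _ _).symm.trans (((ProEtS.epsAdj Y).homEquiv _ _).apply_symm_apply _)
  exact ConcreteCategory.congr_hom (congr_app (congrArg (fun m => m.hom) h) (op V)) t

theorem nonempty_isColimit_bcP [QuasiCompact f] [QuasiSeparated f] (F : EtCoh.Ab X) {W : Y.ProEt} (p : Pres W) :
    Nonempty ((∀ y : ((ProEtS.epsPull X).obj F).obj.obj (op ((ProEtS.bcP f).obj W)),
      ∃ (i : p.I) (t : F.obj.obj (op ((EtCoh.bc f).obj (p.D.obj i)))),
        ((ProEtS.epsPull X).obj F).obj.map ((ProEtS.bcP f).map (p.π i)).op (unitSect F _ t) = y) ×'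
    (∀ (i : p.I) (t : F.obj.obj (op ((EtCoh.bc f).obj (p.D.obj i)))),
      ((ProEtS.epsPull X).obj F).obj.map ((ProEtS.bcP f).map (p.π i)).op (unitSect F _ t) = 0 →
      ∃ (j : p.I) (a : j ⟶ i), F.obj.map ((EtCoh.bc f).map (p.D.map a)).op t = 0)) :=
  ⟨⟨(presBcP f p).exists_sect F, fun _ t h => (presBcP f p).exists_zero F t h⟩⟩

theorem pushEps_bijective [QuasiCompact f] [QuasiSeparated f] (F : EtCoh.Ab X) {W : Y.ProEt} (p : Pres W) :
    Function.Bijective (((pushEps f).app F).hom.app (op W)) := by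
  have hnat : ∀ (i : p.I) (t : F.obj.obj (op ((EtCoh.bc f).obj (p.D.obj i)))),
      ((pushEps f).app F).hom.app (op W) (((ProEtS.epsPull Y).obj ((EtCoh.push f).obj F)).obj.map (p.π i).op
        (unitSect ((EtCoh.push f).obj F) (p.D.obj i) t)) =
      ((ProEtS.epsPull X).obj F).obj.map ((ProEtS.bcP f).map (p.π i)).op
        (unitSect F ((EtCoh.bc f).obj (p.D.obj i)) t) := fun i t => by
    refine (ConcreteCategory.congr_hom (((pushEps f).app F).hom.naturality (p.π i).op)
      (unitSect ((EtCoh.push f).obj F) (p.D.obj i) t)).trans ?_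
    exact congrArg (((ProEtS.epsPull X).obj F).obj.map ((ProEtS.bcP f).map (p.π i)).op)
      (pushEps_unitSect f F (p.D.obj i) t)
  obtain ⟨hc⟩ := nonempty_isColimit_bcP f F p
  refine ⟨(injective_iff_map_eq_zero _).2 fun x hx => ?_, fun y => ?_⟩
  · obtain ⟨i, t, rfl⟩ := p.exists_sect _ x
    obtain ⟨j, a, ha⟩ := hc.2 i t ((hnat i t).symm.trans hx)
    have e : p.π i = p.π j ≫ (ProEtS.eps Y).map (p.D.map a) := (p.w a).symm
    rw [e, op_comp, Functor.map_comp_apply, ← unitSect_map]
    exact (congrArg (fun z => ((ProEtS.epsPull Y).obj ((EtCoh.push f).obj F)).obj.map (p.π j).op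
      (unitSect ((EtCoh.push f).obj F) _ z)) ha).trans
      ((congrArg _ (map_zero (unitSect ((EtCoh.push f).obj F) (p.D.obj j)).hom)).trans (map_zero _))
  · obtain ⟨i, t, ht⟩ := hc.1 y
    exact ⟨_, (hnat i t).trans ht⟩

theorem isIso_pushEps [QuasiCompact f] [QuasiSeparated f] : IsIso (pushEps f) := by
  haveI : ∀ F, IsIso ((pushEps f).app F) := fun F => by
    refine (Sheaf.isLocallyBijective_iff_isIso _).1 ⟨⟨fun {U} x y h => ?_⟩, ⟨fun {U} s => ?_⟩⟩
    · refine (Scheme.ProEt.topology Y).superset_covering ?_ (presSieve_mem U.unop)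
      rintro W g ⟨V, a, b, ⟨pV⟩, rfl⟩
      refine Sieve.downward_closed _ ?_ a
      show _ = _
      refine (pushEps_bijective f F pV).1 ?_
      refine (ConcreteCategory.congr_hom (((pushEps f).app F).hom.naturality b.op) x).trans ?_
      refine Eq.trans ?_ (ConcreteCategory.congr_hom (((pushEps f).app F).hom.naturality b.op) y).symm
      exact congrArg (((ProEtS.epsPull X ⋙ ProEtS.pushP f).obj F).obj.map b.op) h
    · refine (Scheme.ProEt.topology Y).superset_covering ?_ (presSieve_mem U)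
      rintro W g ⟨V, a, b, ⟨pV⟩, rfl⟩
      exact Sieve.downward_closed _ ((pushEps_bijective f F pV).2 _) a
  exact NatIso.isIso_of_isIso_app _

end GrothLib.ProEtS
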