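import Groth.Agent.Lib.ProEtS.QuotMod
import Groth.Agent.Lib.ProEtS.EpsPull
import Groth.Agent.Lib.ProEtS.PushEpsIso
import Groth.Agent.Lib.ProEtS.Closed
import Groth.Agent.Lib.ModConstr.Zero

/-!
# Direct images of sheaves of modules along closed immersions of pro-étale sites
-/

set_option autoImplicit false
set_option linter.style.haveILetI false
set_option linter.unusedSectionVars false
set_option backward.isDefEq.respectTransparency.types false

universe u

open CategoryTheory CategoryTheory.Limits AlgebraicGeometry Opposite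

noncomputable section

namespace GrothLib.ProEtS

open _root_.ARSys

variable {X Z : Scheme.{u}} (i : Z ⟶ X) {Λ : Type (u + 1)} [CommRing Λ]

/-- `i_*` on sheaves of modules. -/
abbrev pushM (Λ : Type (u + 1)) [CommRing Λ] [ProEtS.PCont i] : EtModW.ModP Λ Z ⥤ EtModW.ModP Λ X :=
  (ProEtS.bcP i).sheafPushforwardContinuous (ModuleCat.{u + 1} Λ) (Scheme.ProEt.topology X) (Scheme.ProEt.topology Z)

theorem isQuot_pushM [IsClosedImmersion i] (hr : IsRetrocompact (Set.range i.base)ᶜ) [ProEtS.PCont i]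
    {I : Ideal Λ} {F Q : EtModW.ModP Λ Z} {p : F ⟶ Q} (h : IsQuot I p) : IsQuot I ((pushM i Λ).map p) := by
  refine isQuot_of_nice _ fun V hV => ?_
  obtain ⟨hVa, hVw, A, hA, a, ha⟩ := hV
  haveI := hVa
  let q : ((ProEtS.bcP i).obj V).left ⟶ V.left := pullback.fst V.hom i
  haveI : IsClosedImmersion q := MorphismProperty.pullback_fst V.hom i ‹_›
  haveI : IsAffine ((ProEtS.bcP i).obj V).left := isAffine_of_isAffineHom q
  exact isQuot_evalP_affine h (isWContractible_of_isWC (isWC_bcP_closed i hr V hVw A hA a ha))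

/-- `i_*` commutes with `ε⁻¹`. -/
theorem nonempty_pushM_eps_iso [QuasiCompact i] [QuasiSeparated i] [ProEtS.EpsCont Z] [ProEtS.EpsCont X]
    [ProEtS.PCont i] (E : EtModW.Mod Λ Z) :
    Nonempty ((EtModW.epsPullMod Λ X).obj ((EtModW.push Λ i).obj E) ≅ (pushM i Λ).obj ((EtModW.epsPullMod Λ Z).obj E)) := by
  haveI := isIso_pushEps i
  obtain ⟨e₁⟩ := nonempty_fgtP_iso E
  obtain ⟨e₂⟩ := exists_epsPullMod_iso_of_fgtP (M := (pushM i Λ).obj ((EtModW.epsPullMod Λ Z).obj E))
    ((ProEtS.pushP i).mapIso e₁ ≪≫ ((asIso (pushEps i)).app _).symm)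
  let c : pushM i Λ ⋙ epsPushMod Λ X ≅ epsPushMod Λ Z ⋙ EtModW.push Λ i :=
    haveI := Functor.isContinuous_comp (ProEtS.eps X) (ProEtS.bcP i) X.smallEtaleTopology
      (Scheme.ProEt.topology X) (Scheme.ProEt.topology Z)
    Functor.sheafPushforwardContinuousComp (ProEtS.eps X) (ProEtS.bcP i) (ModuleCat.{u + 1} Λ) X.smallEtaleTopology
      (Scheme.ProEt.topology X) (Scheme.ProEt.topology Z) ≪≫
    (Functor.sheafPushforwardContinuousComp' (bcEpsIso i) (ModuleCat.{u + 1} Λ) X.smallEtaleTopology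
      Z.smallEtaleTopology (Scheme.ProEt.topology Z)).symm
  haveI := isIso_epsAdjMod_unit E
  exact ⟨(EtModW.epsPullMod Λ X).mapIso ((EtModW.push Λ i).mapIso (asIso ((epsAdjMod Λ Z).unit.app E)) ≪≫
    (c.app _).symm) ≪≫ e₂⟩

end GrothLib.ProEtS
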