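import Groth.Agent.Lib.ProEtS.EpsDerived
import Groth.Agent.Lib.RDerLES.CompAcyclic

/-!
# Base change of presentations; `f_*` of the pro-étale site
-/

set_option autoImplicit false
set_option backward.isDefEq.respectTransparency.types false

universe u

open CategoryTheory CategoryTheory.Limits AlgebraicGeometry Opposite

noncomputable section

namespace GrothLib.ProEtS

variable {X Y : Scheme.{u}} (f : X ⟶ Y)

theorem compact_qs_pullback_fst [QuasiCompact f] [QuasiSeparated f] {V : Scheme.{u}} (g : V ⟶ Y)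
    [CompactSpace ↥V] [QuasiSeparatedSpace ↥V] :
    CompactSpace ↥(pullback g f) ∧ QuasiSeparatedSpace ↥(pullback g f) :=
  ⟨QuasiCompact.compactSpace_of_compactSpace (pullback.fst g f),
    quasiSeparatedSpace_of_quasiSeparated (pullback.fst g f)⟩

theorem isAffineHom_bc_map {U V : Y.Etale} (g : U ⟶ V) [IsAffineHom g.left] :
    IsAffineHom ((EtCoh.bc f).map g).left :=
  MorphismProperty.of_isPullback (P := @IsAffineHom) (EtCoh.isPullback_bc_map f g).flip ‹_›

theorem bcP_map_fst {U V : Y.ProEt} (g : U ⟶ V) :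
    ((ProEtS.bcP f).map g).left ≫ pullback.fst V.hom f = pullback.fst U.hom f ≫ g.left :=
  pullback.lift_fst _ _ _

theorem bcP_map_snd {U V : Y.ProEt} (g : U ⟶ V) :
    ((ProEtS.bcP f).map g).left ≫ pullback.snd V.hom f = pullback.snd U.hom f :=
  pullback.lift_snd _ _ _

theorem eps_map_bc {U V : Y.Etale} (g : U ⟶ V) :
    (ProEtS.eps X).map ((EtCoh.bc f).map g) = (ProEtS.bcP f).map ((ProEtS.eps Y).map g) := rfl

/-- Base change of a limit cone over a connected diagram is a limit cone. -/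
theorem nonempty_isLimit_pullback {I : Type u} [SmallCategory I] [IsCofiltered I] {D : I ⥤ Scheme.{u}}
    (c : Cone D) (hc : IsLimit c) (q : ∀ i, D.obj i ⟶ Y) (hq : ∀ {i j : I} (a : i ⟶ j), D.map a ≫ q j = q i)
    (w : c.pt ⟶ Y) (hw : ∀ i, c.π.app i ≫ q i = w) {E : I ⥤ Scheme.{u}} (e : Cone E)
    (fs : ∀ i, E.obj i ⟶ D.obj i) (sn : ∀ i, E.obj i ⟶ X) (hp : ∀ i, IsPullback (fs i) (sn i) (q i) f)
    (hfs : ∀ {i j : I} (a : i ⟶ j), E.map a ≫ fs j = fs i ≫ D.map a)
    (hsn : ∀ {i j : I} (a : i ⟶ j), E.map a ≫ sn j = sn i)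
    (p₁ : e.pt ⟶ c.pt) (p₂ : e.pt ⟶ X) (hP : IsPullback p₁ p₂ w f)
    (h₁ : ∀ i, e.π.app i ≫ fs i = p₁ ≫ c.π.app i) (h₂ : ∀ i, e.π.app i ≫ sn i = p₂) :
    Nonempty (IsLimit e) := by
  obtain ⟨i₀⟩ := IsCofiltered.nonempty (C := I)
  have hf : ∀ s : Cone E, ∀ {i j : I} (a : i ⟶ j),
      (s.π.app i ≫ fs i) ≫ D.map a = s.π.app j ≫ fs j := fun s i j a => by
    rw [Category.assoc, ← hfs a, ← Category.assoc, s.w a]
  let s₁ : Cone E → Cone D := fun s =>
    { pt := s.pt
      π := { app := fun i => s.π.app i ≫ fs i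
             naturality := fun i j a => (Category.id_comp _).trans (hf s a).symm } }
  have hs : ∀ (s : Cone E) (i : I), s.π.app i ≫ sn i = s.π.app i₀ ≫ sn i₀ := fun s i => by
    have h : ∀ {i j : I} (a : i ⟶ j), s.π.app j ≫ sn j = s.π.app i ≫ sn i := fun a => by
      rw [← s.w a, Category.assoc, hsn a]
    rw [h (IsCofiltered.minToLeft i i₀), ← h (IsCofiltered.minToRight i i₀)]
  have hcond : ∀ s : Cone E, hc.lift (s₁ s) ≫ w = (s.π.app i₀ ≫ sn i₀) ≫ f := fun s => by
    rw [← hw i₀, hc.fac_assoc]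
    show (s.π.app i₀ ≫ fs i₀) ≫ q i₀ = _
    rw [Category.assoc, (hp i₀).w, Category.assoc]
  exact ⟨
    { lift := fun s => hP.lift (hc.lift (s₁ s)) (s.π.app i₀ ≫ sn i₀) (hcond s)
      fac := fun s i => (hp i).hom_ext
        (by rw [Category.assoc, h₁, IsPullback.lift_fst_assoc, hc.fac])
        (by rw [Category.assoc, h₂, IsPullback.lift_snd, hs s i])
      uniq := fun s m hm => hP.hom_ext
        (by
          rw [IsPullback.lift_fst]
          refine hc.hom_ext fun i => ?_
          rw [hc.fac, Category.assoc, ← h₁, ← Category.assoc, hm i])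
        (by rw [IsPullback.lift_snd, ← hm i₀, Category.assoc, h₂]) }⟩

set_option maxHeartbeats 800000 in
/-- The base change of a presentation along a qcqs morphism is a presentation. -/
def presBcP [QuasiCompact f] [QuasiSeparated f] {W : Y.ProEt} (p : Pres W) :
    Pres ((ProEtS.bcP f).obj W) := by
  haveI : ∀ i, CompactSpace ↥((p.D ⋙ EtCoh.bc f).obj i).left := fun i =>
    have := p.compact i; have := p.qs i; (compact_qs_pullback_fst f (V := (p.D.obj i).left) (p.D.obj i).hom).1
  haveI : ∀ i, QuasiSeparatedSpace ↥((p.D ⋙ EtCoh.bc f).obj i).left := fun i =>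
    have := p.compact i; have := p.qs i; (compact_qs_pullback_fst f (V := (p.D.obj i).left) (p.D.obj i).hom).2
  haveI : ∀ {i j : p.I} (a : i ⟶ j), IsAffineHom ((p.D ⋙ EtCoh.bc f).map a).left := fun a =>
    isAffineHom_bc_map f (p.D.map a)
  let π : ∀ i, (ProEtS.bcP f).obj W ⟶ (ProEtS.eps X).obj ((p.D ⋙ EtCoh.bc f).obj i) :=
    fun i => (ProEtS.bcP f).map (p.π i)
  have hw : ∀ {i j : p.I} (a : i ⟶ j), π i ≫ (ProEtS.eps X).map ((p.D ⋙ EtCoh.bc f).map a) = π j :=
    fun {i j} a => (congrArg ((ProEtS.bcP f).map (p.π i) ≫ ·) (eps_map_bc f (p.D.map a))).trans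
      (((ProEtS.bcP f).map_comp (p.π i) ((ProEtS.eps Y).map (p.D.map a))).symm.trans
        (congrArg (ProEtS.bcP f).map (p.w a)))
  refine { I := p.I, D := p.D ⋙ EtCoh.bc f, π := π, w := hw, isLimit := ?_ }
  exact (nonempty_isLimit_pullback f p.cone p.isLimit (fun i => (p.D.obj i).hom)
    (fun a => MorphismProperty.Over.w (p.D.map a)) W.hom (fun i => p.w_left) _
    (fun i => pullback.fst (p.D.obj i).hom f) (fun i => pullback.snd (p.D.obj i).hom f)
    (fun i => IsPullback.of_hasPullback _ _)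
    (fun a => bcP_map_fst f ((ProEtS.eps Y).map (p.D.map a)))
    (fun a => bcP_map_snd f ((ProEtS.eps Y).map (p.D.map a)))
    (pullback.fst W.hom f) (pullback.snd W.hom f) (IsPullback.of_hasPullback _ _)
    (fun i => bcP_map_fst f (p.π i)) (fun i => bcP_map_snd f (p.π i))).some

theorem nonempty_pres_bcP [QuasiCompact f] [QuasiSeparated f] {W : Y.ProEt} (p : Pres W) :
    Nonempty (Pres ((ProEtS.bcP f).obj W)) := ⟨presBcP f p⟩

/-- The sieve generated by the objects with presentations. -/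
def presSieve (U : Y.ProEt) : Sieve U :=
  Sieve.generate fun W _ => Nonempty (Pres W)

theorem presSieve_mem (U : Y.ProEt) : presSieve U ∈ Scheme.ProEt.topology Y U := by
  haveI : WeaklyEtale U.hom := U.prop
  let 𝒰 := U.left.affineCover
  let O : 𝒰.I₀ → U.left.Opens := fun i => (𝒰.f i).opensRange
  let oP : ∀ i, Scheme.ProEt.mk ((O i).ι ≫ U.hom) ⟶ U := fun i =>
    MorphismProperty.Over.homMk (O i).ι rfl trivial
  have hS : Sieve.generate (Presieve.ofArrows _ oP) ∈ Scheme.ProEt.topology Y U :=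
    ofArrows_mem_of_isOpenMap _ oP (fun i => (O i).ι.isOpenEmbedding.isOpenMap) fun y => by
      obtain ⟨i, z, hz⟩ := 𝒰.exists_eq y
      exact ⟨i, ⟨y, ⟨z, hz⟩⟩, rfl⟩
  refine (Scheme.ProEt.topology Y).transitive hS _ ?_
  rintro W g ⟨Z, a, o, ho, rfl⟩
  cases ho with
  | mk i => ?_
  rw [Sieve.pullback_comp]
  refine (Scheme.ProEt.topology Y).pullback_stable a ?_
  haveI : IsAffine (Scheme.ProEt.mk ((O i).ι ≫ U.hom)).left := isAffineOpen_opensRange (𝒰.f i)
  let F₀ : ProEtS.AbP Y := (HasZeroObject.zero (C := ProEtS.AbP Y)).choose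
  have hs : Presheaf.imageSieve (𝟙 F₀ : F₀ ⟶ F₀).hom (0 : F₀.obj.obj (op (Scheme.ProEt.mk ((O i).ι ≫ U.hom)))) ∈
      Scheme.ProEt.topology Y (Scheme.ProEt.mk ((O i).ι ≫ U.hom)) :=
    (Scheme.ProEt.topology Y).superset_covering (fun W g _ => ⟨0, (map_zero _).trans (map_zero _).symm⟩)
      ((Scheme.ProEt.topology Y).top_mem _)
  obtain ⟨T, t, hT, hcov, -⟩ := exists_refine (𝟙 F₀) 0 hs
  refine (Scheme.ProEt.topology Y).superset_covering ?_ hcov
  rintro W' g ⟨V, b, _, ⟨⟩, rfl⟩
  exact ⟨T, b, t ≫ oP i, hT, (Category.assoc _ _ _).symm⟩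

variable [ProEtS.PCont f]

theorem epi_pushP_map_of_acyclic [QuasiCompact f] [QuasiSeparated f] {S : ShortComplex (ProEtS.AbP X)} (hS : S.ShortExact)
    (h₁ : (presClass X).Acyclic S.X₁) : Epi ((ProEtS.pushP f).map S.g) := by
  refine (Sheaf.isLocallySurjective_iff_epi' _ _).1 ⟨fun {U} s => ?_⟩
  refine (Scheme.ProEt.topology Y).superset_covering ?_ (presSieve_mem U)
  rintro W g ⟨V, a, b, ⟨pV⟩, rfl⟩
  refine Sieve.downward_closed _ ?_ a
  obtain ⟨r, hr⟩ := (presClass X).surjective hS h₁ (nonempty_pres_bcP f pV)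
    (S.X₃.obj.map ((ProEtS.bcP f).map b).op s)
  exact ⟨r, hr⟩

instance preservesFiniteLimits_pushP : PreservesFiniteLimits (ProEtS.pushP f) := by
  haveI := (ProEtS.pullPushAdjP f).rightAdjoint_preservesLimits.{0, 0}
  infer_instance

theorem isZero_RpushP_of_acyclic [QuasiCompact f] [QuasiSeparated f] (q : ℕ) : ∀ G : ProEtS.AbP X,
    (presClass X).Acyclic G → IsZero ((ProEtS.RpushP f (q + 1)).obj G) := by
  induction q with
  | zero =>
    intro G hG
    have hS := ShortComplex.ShortExact.mk' (S := ShortComplex.mk (Injective.ι G) (cokernel.π _) (cokernel.condition _))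
      (ShortComplex.exact_of_g_is_cokernel _ (cokernelIsCokernel _)) inferInstance inferInstance
    haveI : Injective (ShortComplex.mk (Injective.ι G) (cokernel.π _) (cokernel.condition _)).X₂ :=
      inferInstanceAs (Injective (Injective.under G))
    haveI := epi_pushP_map_of_acyclic f hS hG
    exact IsZero.of_iso (isZero_cokernel_of_epi _) (HomGamma.shiftIsoOne hS (ProEtS.pushP f))
  | succ q ih =>
    intro G hG
    have hS := ShortComplex.ShortExact.mk' (S := ShortComplex.mk (Injective.ι G) (cokernel.π _) (cokernel.condition _))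
      (ShortComplex.exact_of_g_is_cokernel _ (cokernelIsCokernel _)) inferInstance inferInstance
    haveI : Injective (ShortComplex.mk (Injective.ι G) (cokernel.π _) (cokernel.condition _)).X₂ :=
      inferInstanceAs (Injective (Injective.under G))
    exact IsZero.of_iso (ih _ ((presClass X).acyclic_X₃ hS hG ((presClass X).acyclic_of_injective _)))
      (HomGamma.shiftIso hS (ProEtS.pushP f) q)

end GrothLib.ProEtS
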