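import Groth.Agent.Lib.ProEtS.WCMod
import Groth.Agent.Lib.ProEtS.EpsModSerre
import Groth.Agent.Lib.ProEtS.Exact
import Mathlib.CategoryTheory.Sites.LocallyInjective

/-!
# Quotient maps modulo arbitrary ideals on affine weakly contractible objects
-/

set_option autoImplicit false
set_option linter.style.haveILetI false
set_option linter.unusedSectionVars false
set_option backward.isDefEq.respectTransparency.types false

universe u

open CategoryTheory CategoryTheory.Limits AlgebraicGeometry Opposite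

noncomputable section

namespace GrothLib.ProEtS

open _root_.ARSys
open TrivMod

variable {X : Scheme.{u}} {Λ : Type (u + 1)} [CommRing Λ]

/-- Affine w-contractible, lying over an affine open of the base. -/
def Nice (V : X.ProEt) : Prop :=
  IsAffine V.left ∧ EtPBC.IsWContractible ↥Γ(V.left, ⊤) ∧
    ∃ (A : X.Opens) (_ : IsAffineOpen A) (a : V.left ⟶ ↑A), a ≫ A.ι = V.hom

theorem Nice.isWC {V : X.ProEt} (h : Nice V) : ProEtS.IsWC V :=
  haveI := h.1
  isWC_of_isWContractible h.2.1

theorem eq_of_nice {F : EtModW.ModP Λ X} {V : X.ProEt} {s t : F.obj.obj (op V)}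
    (h : ∀ (W : X.ProEt) (g : W ⟶ V), Nice W → res _ F g s = res _ F g t) : s = t := by
  haveI := hasSheafCompose_moduleCat Λ X
  obtain ⟨ι, W, g, hcov, hW⟩ := exists_family_affine_image V
  refine res_ext _ hcov ?_
  rintro W' k ⟨_, a, _, ⟨i⟩, rfl⟩
  rw [res_comp, h _ (g i) (hW i), ← res_comp]

theorem hom_ext_nice {F G : EtModW.ModP Λ X} {φ ψ : F ⟶ G}
    (h : ∀ U : X.ProEt, Nice U → (evalP Λ U).map φ = (evalP Λ U).map ψ) : φ = ψ := by
  refine Sheaf.hom_ext (NatTrans.ext (funext fun V => ModuleCat.hom_ext (LinearMap.ext fun s => ?_)))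
  refine eq_of_nice fun W g hW => ?_
  refine (NatTrans.naturality_apply φ.hom g.op s).symm.trans ?_
  refine Eq.trans ?_ (NatTrans.naturality_apply ψ.hom g.op s)
  exact ConcreteCategory.congr_hom (h W hW) _

theorem epi_of_nice {F G : EtModW.ModP Λ X} (φ : F ⟶ G)
    (h : ∀ U : X.ProEt, Nice U → Function.Surjective ((evalP Λ U).map φ).hom) : Epi φ := by
  haveI := hasSheafCompose_moduleCat Λ X
  refine (Sheaf.isLocallySurjective_iff_epi' _ φ).1 ⟨fun {V} s => ?_⟩
  obtain ⟨ι, W, g, hcov, hW⟩ := exists_family_affine_image V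
  refine (Scheme.ProEt.topology X).superset_covering ?_ hcov
  rw [Sieve.generate_le_iff]
  rintro _ _ ⟨i⟩
  exact h _ (hW i) _

theorem isIso_of_nice {F G : EtModW.ModP Λ X} (φ : F ⟶ G)
    (h : ∀ U : X.ProEt, Nice U → Function.Bijective ((evalP Λ U).map φ).hom) : IsIso φ := by
  haveI := epi_of_nice φ fun U hU => (h U hU).2
  haveI : Mono φ := Preadditive.mono_of_cancel_zero φ fun {K} k hk => hom_ext_nice fun U hU => by
    refine ModuleCat.hom_ext (LinearMap.ext fun x => (h U hU).1 ?_)
    refine (ConcreteCategory.congr_hom (((evalP Λ U).map_comp k φ).symm.trans (congrArg (evalP Λ U).map hk)) x).trans ?_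
    rw [Functor.map_zero, Functor.map_zero]
    exact (map_zero _).symm
  exact isIso_of_mono_of_epi φ

/-- A map which is a quotient modulo `I` on nice objects is one. -/
theorem isQuot_of_nice {I : Ideal Λ} {F Q : EtModW.ModP Λ X} (p : F ⟶ Q)
    (h : ∀ U : X.ProEt, Nice U → IsQuot I ((evalP Λ U).map p)) : IsQuot I p := by
  haveI : Epi p := epi_of_nice p fun U hU => ((GrothLib.AdicModule.isQuot_iff _).1 (h U hU)).1
  refine ⟨fun a ha => hom_ext_nice fun U hU => ?_, fun Y φ hφ => ?_⟩
  · rw [Functor.map_smul, Functor.map_zero, CategoryTheory.Functor.map_id]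
    exact (h U hU).1 a ha
  · have h0 : kernel.ι p ≫ φ = 0 := hom_ext_nice fun U hU => by
      rw [Functor.map_zero]
      refine ModuleCat.hom_ext (LinearMap.ext fun x => ?_)
      have hx : ((evalP Λ U).map (kernel.ι p)) x ∈ LinearMap.ker ((evalP Λ U).map p).hom := by
        refine (ConcreteCategory.congr_hom (((evalP Λ U).map_comp _ p).symm.trans
          (congrArg (evalP Λ U).map (kernel.condition p))) x).trans ?_
        rw [Functor.map_zero]
        rfl
      rw [((GrothLib.AdicModule.isQuot_iff _).1 (h U hU)).2] at hx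
      refine (ConcreteCategory.congr_hom ((evalP Λ U).map_comp _ φ) x).trans ?_
      show ((evalP Λ U).map φ) (((evalP Λ U).map (kernel.ι p)) x) = 0
      refine Submodule.smul_induction_on hx (fun a ha y _ => ?_) fun y z hy hz => ?_
      · have := congrArg (fun t : F ⟶ Y => (evalP Λ U).map t y) (hφ a ha)
        simp only [Functor.map_smul, Functor.map_zero] at this
        rw [map_smul]
        exact this
      · rw [map_add, hy, hz, add_zero]
    obtain ⟨l, hl⟩ := CokernelCofork.IsColimit.desc' (Abelian.epiIsCokernelOfKernel _ (limit.isLimit (parallelPair p 0))) φ h0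
    exact ⟨l, hl, fun y hy => (cancel_epi p).1 (hy.trans hl.symm)⟩

/-- The presheaf quotient by `I`. -/
def quotPresheaf (I : Ideal Λ) (F : EtModW.ModP Λ X) : X.ProEtᵒᵖ ⥤ ModuleCat.{u + 1} Λ where
  obj V := ModuleCat.of Λ (F.obj.obj V ⧸ I • (⊤ : Submodule Λ (F.obj.obj V)))
  map {V W} f := ModuleCat.ofHom (Submodule.mapQ _ _ (F.obj.map f).hom (by
    rw [← Submodule.map_le_iff_le_comap, Submodule.map_smul'']
    exact Submodule.smul_mono le_rfl le_top))
  map_id V := by
    refine ModuleCat.hom_ext (Submodule.linearMap_qext _ (LinearMap.ext fun x => ?_))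
    show Submodule.Quotient.mk (F.obj.map (𝟙 V) x) = Submodule.Quotient.mk x
    rw [F.obj.map_id]
    rfl
  map_comp {U V W} f g := by
    refine ModuleCat.hom_ext (Submodule.linearMap_qext _ (LinearMap.ext fun x => ?_))
    show Submodule.Quotient.mk (F.obj.map (f ≫ g) x) = Submodule.Quotient.mk (F.obj.map g (F.obj.map f x))
    rw [F.obj.map_comp]
    rfl

/-- Quotient maps on affine w-contractible objects. -/
theorem isQuot_evalP_affine {I : Ideal Λ} {F Q : EtModW.ModP Λ X} {p : F ⟶ Q} (h : IsQuot I p)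
    {U : X.ProEt} [IsAffine U.left] (hw : EtPBC.IsWContractible ↥Γ(U.left, ⊤)) :
    IsQuot I ((evalP Λ U).map p) := by
  haveI := hasSheafCompose_moduleCat Λ X
  haveI := GrothLib.ARSys.IsQuot.epi h
  refine (GrothLib.AdicModule.isQuot_iff _).2 ⟨surjective_evalP_of_epi p (isWC_of_isWContractible hw),
    le_antisymm (fun s hs => ?_) ?_⟩
  · let J := Scheme.ProEt.topology X
    let q₀ : F.obj ⟶ quotPresheaf I F :=
      { app := fun V => ModuleCat.ofHom (Submodule.mkQ _)
        naturality := fun V W f => rfl }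
    let Qs : EtModW.ModP Λ X := (presheafToSheaf J (ModuleCat.{u + 1} Λ)).obj (quotPresheaf I F)
    let q : F ⟶ Qs := ⟨q₀ ≫ toSheafify J _⟩
    have hq : HomKilledBy I q := fun a ha => Sheaf.hom_ext (NatTrans.ext (funext fun V =>
      ModuleCat.hom_ext (LinearMap.ext fun x => by
        show a • ((toSheafify J (quotPresheaf I F)).app V) ((Submodule.Quotient.mk x : (quotPresheaf I F).obj V)) = 0
        refine (map_smul ((toSheafify J (quotPresheaf I F)).app V).hom a _).symm.trans ?_
        exact (congrArg ((toSheafify J (quotPresheaf I F)).app V)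
          ((Submodule.Quotient.mk_smul _ a x).symm.trans ((Submodule.Quotient.mk_eq_zero _).2 (Submodule.smul_mem_smul ha trivial)))).trans
          (map_zero _))))
    obtain ⟨ψ, hψ, -⟩ := h.2 Qs q hq
    have h0 : (toSheafify J (quotPresheaf I F)).app (op U) (Submodule.Quotient.mk s) =
        (toSheafify J (quotPresheaf I F)).app (op U) 0 := by
      rw [map_zero]
      refine (ConcreteCategory.congr_hom (congrArg (fun t : F ⟶ Qs => t.hom.app (op U)) hψ) s).symm.trans ?_
      show ψ.hom.app (op U) (p.hom.app (op U) s) = 0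
      rw [show p.hom.app (op U) s = 0 from hs, map_zero]
    obtain ⟨n, W, -, hd, hu, hW⟩ := clopenRefined_of_isWContractible hw _
      (Presheaf.equalizerSieve_mem J (toSheafify J (quotPresheaf I F)) _ _ h0)
    let V : ULift.{u} (Fin n) → X.ProEt := fun k => Scheme.ProEt.mk ((W k.down).ι ≫ U.hom)
    let f : ∀ k, V k ⟶ U := fun k => MorphismProperty.Over.homMk (W k.down).ι
    haveI : ∀ k, IsOpenImmersion (f k).left := fun k => inferInstanceAs (IsOpenImmersion (W k.down).ι)
    have hcov : Sieve.generate (Presieve.ofArrows V f) ∈ J U :=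
      ofArrows_mem_of_isOpenMap V f (fun k => (f k).left.isOpenEmbedding.isOpenMap) fun x => by
        obtain ⟨k, hk⟩ := Set.mem_iUnion.1 (hu.symm ▸ Set.mem_univ x)
        exact ⟨⟨k⟩, ⟨x, hk⟩, rfl⟩
    let Ft := (sheafCompose J (forget (ModuleCat.{u + 1} Λ))).obj F
    have hbot : ∀ (T : X.ProEt), IsEmpty T.left → ∀ x y : F.obj.obj (op T), x = y := fun T hT x y => by
      haveI := hT
      exact (((isSheaf_iff_isSheaf_of_type _ _).1 Ft.property _
        (Scheme.ProEt.bot_mem_topology T)).isSeparatedFor).ext fun _ _ h => h.elim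
    have hdisj : ∀ (k l : ULift.{u} (Fin n)), k ≠ l → ∀ (T : X.ProEt) (gk : T ⟶ V k) (gl : T ⟶ V l),
        gk ≫ f k = gl ≫ f l → IsEmpty T.left := fun k l hkl T gk gl e => ⟨fun z => by
      have e' := congrArg (fun t : T ⟶ U => t.left z) e
      exact Set.disjoint_left.1 (hd fun e => hkl (ULift.ext _ _ e)) (gk.left z).2
        (show ((gk.left z).1 : U.left) ∈ W l.down from (show (gk.left z).1 = (gl.left z).1 from e') ▸ (gl.left z).2)⟩
    have hext : ∀ (k : ULift.{u} (Fin n)) (b : F.obj.obj (op (V k))), ∃ b' : F.obj.obj (op U),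
        res _ F (f k) b' = b ∧ ∀ l, l ≠ k → res _ F (f l) b' = 0 := by
      classical
      intro k b
      let x : ∀ l, F.obj.obj (op (V l)) := fun l => if hl : l = k then hl ▸ b else 0
      have hS : (Presieve.ofArrows V f).IsSheafFor Ft.obj :=
        (Presieve.isSheafFor_iff_generate _).2 ((isSheaf_iff_isSheaf_of_type _ _).1 Ft.property _ hcov)
      obtain ⟨b', hb', -⟩ := (Presieve.isSheafFor_arrows_iff _ _).1 hS x (fun i j T gi gj hij => by
        by_cases hij' : i = j
        · subst hij'
          obtain rfl : gi = gj := MorphismProperty.Over.Hom.ext <| by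
            rw [← cancel_mono (f i).left]
            exact congrArg (fun t : T ⟶ U => t.left) hij
          rfl
        · exact hbot T (hdisj i j hij' T gi gj hij) _ _)
      refine ⟨b', (hb' k).trans (dif_pos rfl), fun l hl => (hb' l).trans (dif_neg hl)⟩
    have hmem : ∀ k, res _ F (f k) s ∈ I • (⊤ : Submodule Λ (F.obj.obj (op (V k)))) := fun k => by
      have e := hW k.down
      rw [← Submodule.Quotient.mk_eq_zero]
      exact (show (quotPresheaf I F).map (f k).op (Submodule.Quotient.mk s) = (quotPresheaf I F).map (f k).op 0 from e).trans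
        (map_zero _)
    have hlift : ∀ k, ∀ x ∈ I • (⊤ : Submodule Λ (F.obj.obj (op (V k)))), ∃ y ∈ I • (⊤ : Submodule Λ (F.obj.obj (op U))),
        res _ F (f k) y = x ∧ ∀ l, l ≠ k → res _ F (f l) y = 0 := by
      intro k x hx
      refine Submodule.smul_induction_on hx (fun a ha b _ => ?_) ?_
      · obtain ⟨b', hb', hb''⟩ := hext k b
        exact ⟨a • b', Submodule.smul_mem_smul ha trivial, by rw [map_smul, hb'],
          fun l hl => by rw [map_smul, hb'' l hl, smul_zero]⟩
      · rintro x₁ x₂ ⟨y₁, hy₁, e₁, o₁⟩ ⟨y₂, hy₂, e₂, o₂⟩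
        exact ⟨y₁ + y₂, add_mem hy₁ hy₂, by rw [map_add, e₁, e₂],
          fun l hl => by rw [map_add, o₁ l hl, o₂ l hl, add_zero]⟩
    choose y hy hyk hyl using fun k => hlift k _ (hmem k)
    have hsum : s = ∑ k, y k := by
      refine res_ext _ hcov ?_
      rintro _ m ⟨_, a, _, ⟨l⟩, rfl⟩
      rw [res_comp, res_comp, map_sum (res _ F (f l)), Finset.sum_eq_single l (fun k _ hk => hyl k l hk.symm)
        (fun h => (h (Finset.mem_univ l)).elim), hyk]
    rw [hsum]
    exact Submodule.sum_mem _ fun k _ => hy k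
  · rw [Submodule.smul_le]
    intro a ha x _
    rw [LinearMap.mem_ker, map_smul]
    have := congrArg (fun t : Q ⟶ Q => ((evalP Λ U).map t) ((evalP Λ U).map p x)) (h.1 a ha)
    simp only [Functor.map_smul, Functor.map_zero, CategoryTheory.Functor.map_id] at this
    exact this

variable [ProEtS.EpsCont X]

/-- The essential image of `ε⁻¹` is detected on underlying abelian sheaves. -/
theorem exists_epsPullMod_iso_of_fgtP {M : EtModW.ModP Λ X} {A : EtCoh.Ab X}
    (e : (fgtP Λ X).obj M ≅ (ProEtS.epsPull X).obj A) :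
    Nonempty ((EtModW.epsPullMod Λ X).obj ((epsPushMod Λ X).obj M) ≅ M) := by
  haveI := isIso_unit (Λ := Λ) (X := X)
  haveI : ∀ F, IsIso ((ProEtS.epsAdj X).unit.app F) := fun F => isIso_epsAdj_unit F
  haveI hunit : IsIso (ProEtS.epsAdj X).unit := NatIso.isIso_of_isIso_app _
  let c := (epsAdjMod Λ X).counit.app M
  haveI : IsIso ((epsPushMod Λ X).map c) :=
    IsIso.of_isIso_fac_left ((epsAdjMod Λ X).right_triangle_components M)
  haveI : IsIso ((ProEtS.epsPush X).map ((fgtP Λ X).map c)) :=
    inferInstanceAs (IsIso ((fgtE Λ X).map ((epsPushMod Λ X).map c)))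
  obtain ⟨e₁⟩ := nonempty_fgtP_iso ((epsPushMod Λ X).obj M)
  haveI := (ProEtS.epsAdj X).fullyFaithfulLOfIsIsoUnit.full
  haveI := (ProEtS.epsAdj X).fullyFaithfulLOfIsIsoUnit.faithful
  let L := ProEtS.epsPull X
  let φ := L.preimage (e₁.inv ≫ (fgtP Λ X).map c ≫ e.hom)
  have hφ : L.map φ = e₁.inv ≫ (fgtP Λ X).map c ≫ e.hom := L.map_preimage _
  haveI : IsIso ((ProEtS.epsPush X).map (L.map φ)) := by
    rw [hφ, Functor.map_comp, Functor.map_comp]
    infer_instance
  haveI : IsIso φ := by
    have := (ProEtS.epsAdj X).unit.naturality φ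
    dsimp at this
    exact IsIso.of_isIso_fac_right this
  haveI : IsIso ((fgtP Λ X).map c) := by
    have : (fgtP Λ X).map c = e₁.hom ≫ L.map φ ≫ e.inv := by rw [hφ]; simp
    rw [this]
    infer_instance
  haveI : IsIso c := isIso_of_reflects_iso _ (fgtP Λ X)
  exact ⟨asIso c⟩

end GrothLib.ProEtS
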