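import Groth.Agent.Lib.ProEtS.LanMod
import Groth.Agent.Lib.ProEtS.ExtZeroMod
import Groth.Agent.Lib.ProEtS.PushMod

/-!
# Open and closed pieces of the pro-étale site, for sheaves of modules
-/

set_option autoImplicit false
set_option linter.style.haveILetI false
set_option linter.unusedSectionVars false
set_option backward.isDefEq.respectTransparency.types false

universe u

open CategoryTheory CategoryTheory.Limits AlgebraicGeometry Opposite

noncomputable section

namespace GrothLib.ProEtS

variable {X Z U : Scheme.{u}} {Λ : Type (u + 1)} [CommRing Λ]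

/-- `i⁻¹` on sheaves of modules. -/
abbrev pullM (i : Z ⟶ X) (Λ : Type (u + 1)) [CommRing Λ] [ProEtS.PCont i] : EtModW.ModP Λ X ⥤ EtModW.ModP Λ Z :=
  (ProEtS.bcP i).sheafPullback (ModuleCat.{u + 1} Λ) (Scheme.ProEt.topology X) (Scheme.ProEt.topology Z)

/-- `i⁻¹ ⊣ i_*` on sheaves of modules. -/
abbrev pullPushAdjM (i : Z ⟶ X) (Λ : Type (u + 1)) [CommRing Λ] [ProEtS.PCont i] : pullM i Λ ⊣ pushM i Λ :=
  (ProEtS.bcP i).sheafAdjunctionContinuous (ModuleCat.{u + 1} Λ) (Scheme.ProEt.topology X) (Scheme.ProEt.topology Z)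

/-- Sections are separated. -/
theorem sections_extM (G : EtModW.ModP Λ X) {T : X.ProEt} {R : Sieve T}
    (hR : R ∈ Scheme.ProEt.topology X T) {x y : G.obj.obj (op T)}
    (h : ∀ ⦃W : X.ProEt⦄ (f : W ⟶ T), R f → G.obj.map f.op x = G.obj.map f.op y) : x = y :=
  haveI := hasSheafCompose_moduleCat Λ X
  TrivMod.res_ext G hR h

variable (i : Z ⟶ X) [IsClosedImmersion i]

section Unit

variable [ProEtS.PCont i] (F : EtModW.ModP Λ X)

/-- The unit, through the construction of the inverse image. -/
theorem exists_unit_eq_mod :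
    ∃ (e : (pullM i Λ).obj F ≅ (presheafToSheaf (Scheme.ProEt.topology Z) (ModuleCat.{u + 1} Λ)).obj
        ((ProEtS.bcP i).op.lan.obj F.obj)),
      ∀ (T : X.ProEt) (s : F.obj.obj (op T)),
        e.hom.hom.app (op ((ProEtS.bcP i).obj T)) (((pullPushAdjM i Λ).unit.app F).hom.app (op T) s) =
          (toSheafify (Scheme.ProEt.topology Z) ((ProEtS.bcP i).op.lan.obj F.obj)).app
            (op ((ProEtS.bcP i).obj T)) (LanMod.mk (ProEtS.bcP i) F.obj (𝟙 _) s) := by
  let adj := Functor.sheafPullbackConstruction.sheafAdjunctionContinuous (ProEtS.bcP i)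
    (ModuleCat.{u + 1} Λ) (Scheme.ProEt.topology X) (Scheme.ProEt.topology Z)
  refine ⟨((pullPushAdjM i Λ).leftAdjointUniq adj).app F, fun T s => ?_⟩
  have h0 := Adjunction.unit_leftAdjointUniq_hom_app (pullPushAdjM i Λ) adj F
  have e := Adjunction.map_restrictFullyFaithful_unit_app
      (((ProEtS.bcP i).op.lanAdjunction (ModuleCat.{u + 1} Λ)).comp
        (sheafificationAdjunction (Scheme.ProEt.topology Z) (ModuleCat.{u + 1} Λ)))
      (fullyFaithfulSheafToPresheaf (Scheme.ProEt.topology X) (ModuleCat.{u + 1} Λ)) (Functor.FullyFaithful.id _)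
      (L := Functor.sheafPullbackConstruction.sheafPullback (ProEtS.bcP i) (ModuleCat.{u + 1} Λ)
        (Scheme.ProEt.topology X) (Scheme.ProEt.topology Z))
      (R := (ProEtS.bcP i).sheafPushforwardContinuous (ModuleCat.{u + 1} Λ) (Scheme.ProEt.topology X)
        (Scheme.ProEt.topology Z))
      (Iso.refl _) (Iso.refl _) F
  have h1 : ((adj.unit.app F).hom.app (op T)) s = (toSheafify (Scheme.ProEt.topology Z)
      ((ProEtS.bcP i).op.lan.obj F.obj)).app (op ((ProEtS.bcP i).obj T)) (LanMod.mk (ProEtS.bcP i) F.obj (𝟙 _) s) := by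
    rw [LanMod.mk_id]
    refine (ConcreteCategory.congr_hom (NatTrans.congr_app e (op T)) s).trans ?_
    rw [Adjunction.comp_unit_app, Functor.lanAdjunction_unit]
    rfl
  exact (ConcreteCategory.congr_hom (congrArg (fun φ : F ⟶ _ => φ.hom.app (op T)) h0) s).trans h1

theorem bijective_unitM_zLoc {T : X.ProEt} (hT : ZLoc i T) :
    Function.Bijective (((pullPushAdjM i Λ).unit.app F).hom.app (op T)) := by
  haveI := flat_bcP i
  haveI : ∀ W : (Z.ProEt)ᵒᵖ, PreservesColimitsOfShape (CostructuredArrow (ProEtS.bcP i).op W)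
      (forget (ModuleCat.{u + 1} Λ)) := fun W => by
    haveI : IsFiltered (CostructuredArrow (ProEtS.bcP i).op W) :=
      ((representablyCoflat_op_iff (ProEtS.bcP i)).2 inferInstance).filtered W
    let e := (AsSmall.equiv : CostructuredArrow (ProEtS.bcP i).op W ≌
      AsSmall.{u + 1} (CostructuredArrow (ProEtS.bcP i).op W))
    haveI : IsFiltered (AsSmall.{u + 1} (CostructuredArrow (ProEtS.bcP i).op W)) := IsFiltered.of_equivalence e
    exact preservesColimitsOfShape_of_equiv e.symm _
  obtain ⟨e, he⟩ := exists_unit_eq_mod i F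
  let η := ((pullPushAdjM i Λ).unit.app F).hom
  let P := (ProEtS.bcP i).op.lan.obj F.obj
  let τ := toSheafify (Scheme.ProEt.topology Z) P
  constructor
  · refine (injective_iff_map_eq_zero (η.app (op T)).hom).2 fun s hs => ?_
    have h0 : τ.app _ (LanMod.mk (ProEtS.bcP i) F.obj (𝟙 _) s) =
        τ.app _ (LanMod.mk (ProEtS.bcP i) F.obj (𝟙 _) (0 : F.obj.obj (op T))) := by
      rw [← he T s, map_zero, map_zero]
      exact (congrArg _ hs).trans (map_zero _)
    let G : Sieve T :=
      { arrows := fun T' q => F.obj.map q.op s = 0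
        downward_closed := fun {_ _ q} hq b => by
          rw [op_comp, Functor.map_comp_apply, hq, map_zero] }
    refine sections_extM F (sieve_mem_of_fibre i hT G ?_) fun W f hf => hf.trans (map_zero _).symm
    refine GrothendieckTopology.superset_covering _ (fun W m hm => ?_)
      (Presheaf.equalizerSieve_mem (Scheme.ProEt.topology Z) τ _ _ h0)
    have hm' : P.map m.op (LanMod.mk (ProEtS.bcP i) F.obj (𝟙 _) s) =
        P.map m.op (LanMod.mk (ProEtS.bcP i) F.obj (𝟙 _) (0 : F.obj.obj (op T))) := hm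
    rw [LanMod.map_mk, LanMod.map_mk] at hm'
    obtain ⟨T', c₁, c₂, g, h₁, -, hst⟩ := LanMod.exists_of_mk_eq _ _ _ _ _ _ hm'
    exact ⟨T', c₁, g, hst.trans (map_zero _), ((Category.comp_id _).symm.trans h₁.symm)⟩
  · intro t
    haveI := hT.1
    let t' := e.hom.hom.app _ t
    let G : Sieve T := Presheaf.imageSieve η t
    have hG : G ∈ Scheme.ProEt.topology X T := by
      refine sieve_mem_of_fibre i hT G ?_
      refine GrothendieckTopology.transitive _ (Presheaf.imageSieve_mem (Scheme.ProEt.topology Z) τ t') _ ?_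
      rintro W m ⟨z, hz⟩
      obtain ⟨V, g, x, rfl⟩ := LanMod.mk_surjective (ProEtS.bcP i) F.obj z
      obtain ⟨A, p₁, p₂, -⟩ := IsCofilteredOrEmpty.cone_objs
        (StructuredArrow.mk (T := ProEtS.bcP i) m) (StructuredArrow.mk (T := ProEtS.bcP i) g)
      refine covering_lifts i A.right W A.hom fun T' q b hb => ?_
      refine ⟨T', q ≫ p₁.right, 𝟙 _, ⟨F.obj.map (q ≫ p₂.right).op x, ?_⟩, ?_⟩
      · apply (ConcreteCategory.bijective_of_isIso (e.hom.hom.app (op ((ProEtS.bcP i).obj T')))).1
        refine (he T' _).trans ?_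
        rw [← LanMod.mk_comp, Category.id_comp, Functor.map_comp]
        erw [NatTrans.naturality_apply e.hom.hom ((ProEtS.bcP i).map (q ≫ p₁.right)).op t]
        have e₁ : A.hom ≫ (ProEtS.bcP i).map p₁.right = m := StructuredArrow.w p₁
        have e₂ : A.hom ≫ (ProEtS.bcP i).map p₂.right = g := StructuredArrow.w p₂
        rw [Functor.map_comp, ← hb, Category.assoc, Category.assoc, e₁, e₂, op_comp, Functor.map_comp_apply]
        refine Eq.trans ?_ (congrArg _ hz)
        rw [← LanMod.map_mk]
        exact NatTrans.naturality_apply τ b.op _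
      · rw [Category.id_comp, Functor.map_comp, ← hb, Category.assoc]
        exact congrArg (b ≫ ·) (StructuredArrow.w p₁).symm
    obtain ⟨n, W, -, hd, hu, hR⟩ := (wContractible_tfae.2.1 (wContractible_tfae.1.2 hT.2.1)) _ hG
    let V : Fin n → X.ProEt := fun k => Scheme.ProEt.mk ((W k).ι ≫ T.hom)
    let f : ∀ k, V k ⟶ T := fun k => MorphismProperty.Over.homMk (W k).ι
    haveI : ∀ k, IsOpenImmersion (f k).left := fun k => inferInstanceAs (IsOpenImmersion (W k).ι)
    have hd' : ∀ a b, a ≠ b → Disjoint (Set.range (f a).left) (Set.range (f b).left) := fun a b hab => by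
      show Disjoint (Set.range (W a).ι) (Set.range (W b).ι)
      rw [Scheme.Opens.range_ι, Scheme.Opens.range_ι]
      exact hd hab
    have hs : ∀ x : T.left, ∃ k y, (f k).left y = x := fun x => by
      obtain ⟨k, hk⟩ := Set.mem_iUnion.1 (hu.symm ▸ Set.mem_univ x)
      exact ⟨k, ⟨x, hk⟩, rfl⟩
    choose r hr using hR
    obtain ⟨s, hs'⟩ := (bijective_pi_sheaf
      ((sheafCompose _ (forget (ModuleCat.{u + 1} Λ))).obj F) V f hd' hs).2 r
    refine ⟨s, ?_⟩
    refine (bijective_pi_sheaf ((sheafCompose _ (forget (ModuleCat.{u + 1} Λ))).obj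
      ((pushM i Λ).obj ((pullM i Λ).obj F))) V f hd' hs).1 (funext fun k => ?_)
    refine ((NatTrans.naturality_apply η (f k).op s).symm.trans ?_).trans (hr k)
    exact congrArg _ (congrFun hs' k)

end Unit

theorem pushM_overU [ProEtS.PCont i] (j : U ⟶ X) (hd : Disjoint (Set.range j.base) (Set.range i.base))
    (K : EtModW.ModP Λ Z) (T : X.ProEt) (hT : OverU j T) : Subsingleton (((pushM i Λ).obj K).obj.obj (op T)) :=
  subsingleton_pushP_overU i j hd ((fgtP Λ Z).obj K) T hT

theorem bijective_counitM_overU (j : U ⟶ X) [IsOpenImmersion j] [WeaklyEtale j] [ProEtS.JPCont j]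
    (F : EtModW.ModP Λ X) (T : X.ProEt) (hT : OverU j T) :
    Function.Bijective ((((fgtP Λ X).map ((extZeroMAdj j Λ).counit.app F))).hom.app (op T)) := by
  haveI := isIso_extZeroMAdj_unit (Λ := Λ) j
  haveI : IsIso ((restrM j Λ).map ((extZeroMAdj j Λ).counit.app F)) :=
    IsIso.of_isIso_fac_left ((extZeroMAdj j Λ).right_triangle_components F)
  haveI : IsIso ((ProEtS.restrP j).map ((fgtP Λ X).map ((extZeroMAdj j Λ).counit.app F))) :=
    inferInstanceAs (IsIso ((fgtP Λ U).map ((restrM j Λ).map ((extZeroMAdj j Λ).counit.app F))))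
  exact bijective_of_isIso_restr j _ T hT

/-- The open-closed short exact sequence. -/
theorem exists_shortExact_recollement [ProEtS.PCont i] (j : U ⟶ X) [IsOpenImmersion j] [QuasiCompact j] [WeaklyEtale j]
    [ProEtS.JPCont j] (hc : Set.range j.base = (Set.range i.base)ᶜ) (F : EtModW.ModP Λ X) :
    ∃ w : (extZeroMAdj j Λ).counit.app F ≫ (pullPushAdjM i Λ).unit.app F = 0,
      (ShortComplex.mk _ _ w).ShortExact := by
  haveI := hasSheafCompose_moduleCat Λ X
  have hd : Disjoint (Set.range j.base) (Set.range i.base) := by rw [hc]; exact disjoint_compl_left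
  have hext : ∀ {A B : EtModW.ModP Λ X} (φ : A ⟶ B),
      (∀ T, OverU j T ∨ ZLoc i T → ∀ x, φ.hom.app (op T) x = 0) → φ = 0 := fun {A B} φ h => by
    apply (fgtP Λ X).map_injective
    rw [Functor.map_zero]
    exact hom_ext_of_class i j hc _ _ fun T hT => AddCommGrpCat.ext fun x => h T hT x
  let f := (extZeroMAdj j Λ).counit.app F
  let g := (pullPushAdjM i Λ).unit.app F
  have hz : ∀ (T : X.ProEt), ZLoc i T → ∀ G : EtModW.ModP Λ U, Subsingleton (((extZeroM j Λ).obj G).obj.obj (op T)) :=
    fun T hT G => haveI := hT.1; subsingleton_extZeroM j i hd T hT.2.2 G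
  have w : f ≫ g = 0 := hext _ fun T hT x => by
    rcases hT with hT | hT
    · exact (pushM_overU i j hd _ T hT).elim _ _
    · have := hz T hT ((restrM j Λ).obj F)
      rw [show x = 0 from this.elim _ _]
      exact map_zero _
  refine ⟨w, ?_⟩
  haveI : Mono f := by
    haveI : Mono ((fgtP Λ X).map f) := mono_of_class i j hc _ fun T hT => by
      rcases hT with hT | hT
      · exact (bijective_counitM_overU j F T hT).1
      · exact fun x y _ => (hz T hT _).elim x y
    exact (fgtP Λ X).mono_of_mono_map this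
  haveI : Epi g := by
    haveI : Epi ((fgtP Λ X).map g) := epi_of_class i j hc _ fun T hT => by
      rcases hT with hT | hT
      · exact fun y => ⟨0, (pushM_overU i j hd _ T hT).elim _ _⟩
      · exact (bijective_unitM_zLoc i F hT).2
    exact (fgtP Λ X).epi_of_epi_map this
  refine @ShortComplex.ShortExact.mk' _ _ _ (ShortComplex.mk f g w) ?_ (by assumption) (by assumption)
  rw [ShortComplex.exact_iff_kernel_ι_comp_cokernel_π_zero]
  refine hext _ fun T hT x => ?_
  show (cokernel.π f).hom.app (op T) ((kernel.ι g).hom.app (op T) x) = 0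
  rcases hT with hT | hT
  · obtain ⟨y, hy⟩ := (bijective_counitM_overU j F T hT).2 ((kernel.ι g).hom.app (op T) x)
    have hy' : f.hom.app (op T) y = (kernel.ι g).hom.app (op T) x := hy
    rw [← hy']
    exact ConcreteCategory.congr_hom (congrArg (fun t : (extZeroM j Λ).obj ((restrM j Λ).obj F) ⟶ cokernel f => t.hom.app (op T))
      (cokernel.condition f)) y
  · have h0 : (kernel.ι g).hom.app (op T) x = 0 := (bijective_unitM_zLoc i F hT).1 (Eq.trans
      (ConcreteCategory.congr_hom (congrArg (fun t => t.hom.app (op T)) (kernel.condition g)) x) (map_zero _).symm)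
    rw [h0]
    exact map_zero _

end GrothLib.ProEtS
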