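import Groth.Agent.Lib.EtSec.AbCompare
import Groth.Agent.Lib.ProEtS.EpsUnit
import Groth.Agent.Lib.ProEtS.GeomPoint

/-!
# Relative sections form a sheaf on the small pro-étale site

For a sheaf of sets `F` on the small étale site of `X`, the relative sections `Secs` of `F` over
the objects of the small pro-étale site form a sheaf.
-/

set_option autoImplicit false
set_option backward.isDefEq.respectTransparency.types false

universe u

open CategoryTheory CategoryTheory.Limits AlgebraicGeometry Opposite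
open GrothLib.EtSec

noncomputable section

namespace GrothLib.ProEtS

variable {X : Scheme.{u}} (F : EtDesc.Sh X)

/-- Relative sections as a presheaf on the pro-étale site. -/
def secP : X.ProEtᵒᵖ ⥤ Type (u + 1) where
  obj Y := Secs Y.unop.hom F
  map k := ↾fun σ => σ.res k.unop.left (MorphismProperty.Over.w k.unop)
  map_id Y := by
    ext σ
    exact Secs.res_id σ
  map_comp k l := by
    ext σ
    exact Secs.ext' fun Ω _ _ q _ _ => σ.val_congr (Category.assoc q l.unop.left k.unop.left).symm _ _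

theorem secP_map {Y Y' : X.ProEt} (k : Y' ⟶ Y) (σ : Secs Y.hom F) :
    (secP F).map k.op σ = σ.res k.left (MorphismProperty.Over.w k) := rfl

theorem secP_map_val {Y Y' : X.ProEt} (k : Y' ⟶ Y) (σ : Secs Y.hom F) (Ω : Type u) [Field Ω] [IsSepClosed Ω]
    (p : Spec (CommRingCat.of Ω) ⟶ Y'.left) (η : Spec (CommRingCat.of Ω) ⟶ X) (h : p ≫ Y'.hom = η) :
    ((secP F).map k.op σ : Secs Y'.hom F).val Ω p η h = σ.val Ω (p ≫ k.left) η
      ((Category.assoc _ _ _).trans ((congrArg (p ≫ ·) (MorphismProperty.Over.w k)).trans h)) := rfl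

/-- The predicate that pointwise data glue a family. -/
theorem exists_secP_glue {U : X.ProEt} {R : Sieve U} (hR : R ∈ Scheme.ProEt.topology X U)
    (x : Presieve.FamilyOfElements (secP F) R.arrows) (hx : x.Compatible) :
    ∃ σ : Secs U.hom F, ∀ (V : X.ProEt) (g : V ⟶ U) (hg : R g),
      σ.res g.left (MorphismProperty.Over.w g) = x g hg := by
  have key : ∀ (Ω : Type u) [Field Ω] [IsSepClosed Ω] (p : Spec (CommRingCat.of Ω) ⟶ U.left),
      ∃ (V : X.ProEt) (g : V ⟶ U) (q : Spec (CommRingCat.of Ω) ⟶ V.left), R g ∧ q ≫ g.left = p :=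
    fun Ω _ _ p => exists_geomPoint_lift U R hR p
  choose V g q hg hq using key
  let val : PtFun U.hom F := fun Ω _ _ p η h => (x (g Ω p) (hg Ω p) : Secs (V Ω p).hom F).val Ω (q Ω p) η
    ((congrArg (q Ω p ≫ ·) (MorphismProperty.Over.w (g Ω p))).symm.trans
      ((Category.assoc _ _ _).symm.trans ((congrArg (· ≫ U.hom) (hq Ω p)).trans h)))
  have hval : ∀ (Ω : Type u) [Field Ω] [IsSepClosed Ω] (V' : X.ProEt) (g' : V' ⟶ U) (hg' : R g')
      (q' : Spec (CommRingCat.of Ω) ⟶ V'.left) (p : Spec (CommRingCat.of Ω) ⟶ U.left)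
      (η : Spec (CommRingCat.of Ω) ⟶ X) (h : p ≫ U.hom = η) (h' : q' ≫ V'.hom = η), q' ≫ g'.left = p →
      val Ω p η h = (x g' hg' : Secs V'.hom F).val Ω q' η h' := by
    intro Ω _ _ V' g' hg' q' p η h h' e
    obtain ⟨P, p1, p2, hP⟩ : ∃ (P : X.ProEt) (p1 : P ⟶ V Ω p) (p2 : P ⟶ V'), IsPullback p1 p2 (g Ω p) g' :=
      ⟨pullback (g Ω p) g', pullback.fst _ _, pullback.snd _ _, IsPullback.of_hasPullback _ _⟩
    have hP' : IsPullback p1.left p2.left (g Ω p).left g'.left :=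
      hP.map (Scheme.ProEt.forget X ⋙ CategoryTheory.Over.forget X)
    let r := hP'.lift (q Ω p) q' ((hq Ω p).trans e.symm)
    have hr1 : r ≫ p1.left = q Ω p := hP'.lift_fst _ _ _
    have hr2 : r ≫ p2.left = q' := hP'.lift_snd _ _ _
    have hrη : r ≫ P.hom = η := by
      rw [← MorphismProperty.Over.w p2]
      exact (Category.assoc _ _ _).symm.trans ((congrArg (· ≫ V'.hom) hr2).trans h')
    have c := congrArg (fun s : Secs P.hom F => s.val Ω r η hrη) (hx p1 p2 (hg Ω p) hg' hP.w)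
    have d1 : (r ≫ p1.left) ≫ (V Ω p).hom = η :=
      (Category.assoc _ _ _).trans ((congrArg (r ≫ ·) (MorphismProperty.Over.w p1)).trans hrη)
    have d2 : (r ≫ p2.left) ≫ V'.hom = η :=
      (Category.assoc _ _ _).trans ((congrArg (r ≫ ·) (MorphismProperty.Over.w p2)).trans hrη)
    exact (Secs.val_congr (x (g Ω p) (hg Ω p) : Secs (V Ω p).hom F) hr1.symm _ d1).trans
      (c.trans (Secs.val_congr (x g' hg' : Secs V'.hom F) hr2 d2 h'))
  refine ⟨⟨val, fun z => ?_⟩, fun V' g' hg' => Secs.ext' fun Ω _ _ p η hp =>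
    hval Ω V' g' hg' p (p ≫ g'.left) η
      ((Category.assoc _ _ _).trans ((congrArg (p ≫ ·) (MorphismProperty.Over.w g')).trans hp)) hp rfl⟩
  obtain ⟨Ω₀, _, _, p₀, rfl⟩ := Secs.exists_point z
  obtain ⟨V₁, v₁, hv₁, p₁, W, m, hm, t, hp₁, ht⟩ :=
    Secs.exists_rep (x (g Ω₀ p₀) (hg Ω₀ p₀) : Secs (V Ω₀ p₀).hom F) (q Ω₀ p₀)
  let wh : W.left ⟶ X := W.hom
  haveI : Etale wh := W.prop
  have hm' : m ≫ wh = v₁ ≫ (V Ω₀ p₀).hom := hm
  have hw : (v₁ ≫ (g Ω₀ p₀).left) ≫ U.hom = m ≫ wh := by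
    rw [Category.assoc, MorphismProperty.Over.w, hm']
  haveI : Etale (pullback.fst U.hom wh) := MorphismProperty.pullback_fst _ _ ‹Etale wh›
  let n : V₁ ⟶ pullback U.hom wh := pullback.lift (v₁ ≫ (g Ω₀ p₀).left) m hw
  obtain ⟨_, ⟨O₀, hO₀, rfl⟩, hxO, -⟩ := (pullback U.hom wh).isBasis_affineOpens.exists_subset_of_mem_open
    (Set.mem_univ ((p₁ ≫ n).base default)) isOpen_univ
  let O : (pullback U.hom wh).Opens := O₀
  let A : Scheme.{u} := O.toScheme
  let ι : A ⟶ pullback U.hom wh := O.ι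
  haveI : IsOpenImmersion ι := inferInstanceAs (IsOpenImmersion O.ι)
  have hO : IsAffineOpen O := hO₀
  haveI : IsAffine A := hO
  let a₁ : A ⟶ U.left := ι ≫ pullback.fst U.hom wh
  let a₂ : A ⟶ W.left := ι ≫ pullback.snd U.hom wh
  haveI : Etale a₁ := inferInstanceAs (Etale (ι ≫ pullback.fst U.hom wh))
  have ha : a₂ ≫ W.hom = a₁ ≫ U.hom :=
    (Category.assoc _ _ _).trans ((congrArg (ι ≫ ·) pullback.condition.symm).trans (Category.assoc _ _ _).symm)
  haveI : WeaklyEtale U.hom := U.prop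
  let AP : X.ProEt := Scheme.ProEt.mk (a₁ ≫ U.hom)
  let aP : AP ⟶ U := MorphismProperty.Over.homMk a₁ rfl trivial
  haveI : CompactSpace ↥AP.left := inferInstanceAs (CompactSpace ↥A)
  haveI : IsAffine AP.left := inferInstanceAs (IsAffine A)
  obtain ⟨N, T, f, hT, hfR, hfs⟩ := exists_affine_refinement
    ((Scheme.ProEt.topology X).pullback_stable aP hR)
  haveI := hT
  let τ : Secs AP.hom F := Secs.ofSect a₂ ha t
  let EQ : ∀ k, Set (T k).left := fun k =>
    Secs.eqLocus (x (f k ≫ aP) (hfR k) : Secs (T k).hom F) (τ.res (f k).left (MorphismProperty.Over.w (f k)))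
  let E : Set A := {b | ∃ k y, y ∈ EQ k ∧ (f k).left y = b}
  have hcomp : ∀ k, (f k ≫ aP).left = (f k).left ≫ a₁ := fun k => rfl
  have hiff : ∀ k (Ω : Type u) [Field Ω] [IsSepClosed Ω] (r : Spec (CommRingCat.of Ω) ⟶ (T k).left)
      (η : Spec (CommRingCat.of Ω) ⟶ X) (hr : r ≫ (T k).hom = η) (b : Spec (CommRingCat.of Ω) ⟶ A)
      (hb : b ≫ a₁ ≫ U.hom = η), r ≫ (f k).left = b →
      (r.base default ∈ EQ k ↔ val Ω (b ≫ a₁) η ((Category.assoc _ _ _).trans hb) = τ.val Ω b η hb) := by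
    intro k Ω _ _ r η hr b hb e
    refine (Secs.mem_eqLocus_iff _ _ r η hr).trans (Iff.of_eq (congrArg₂ (· = ·) ?_ ?_))
    · exact (hval Ω (T k) (f k ≫ aP) (hfR k) r (b ≫ a₁) η ((Category.assoc _ _ _).trans hb) hr (by
        rw [hcomp, ← e]; exact (Category.assoc _ _ _).symm)).symm
    · exact Secs.val_congr τ e
        ((Category.assoc _ _ _).trans ((congrArg (r ≫ ·) (MorphismProperty.Over.w (f k))).trans hr)) hb
  have hsat : ∀ k, (f k).left ⁻¹' E = EQ k := fun k => by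
    refine Set.ext fun y => ?_
    refine Iff.intro (fun hyE => ?_) (fun hy => ⟨k, y, hy, rfl⟩)
    obtain ⟨l, y', hy', e⟩ := hyE
    obtain ⟨w, hw1, hw2⟩ := Scheme.Pullback.exists_preimage_pullback (f := (f l).left) (g := (f k).left) y' y e
    obtain ⟨Ω, _, _, r, hr⟩ := Secs.exists_point w
    have hh : (r ≫ pullback.fst (f l).left (f k).left) ≫ (f l).left = (r ≫ pullback.snd _ _) ≫ (f k).left := by
      rw [Category.assoc, Category.assoc, pullback.condition]
    have hb : ((r ≫ pullback.snd (f l).left (f k).left) ≫ (f k).left) ≫ a₁ ≫ U.hom =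
        (r ≫ pullback.snd (f l).left (f k).left) ≫ (T k).hom := by
      exact (Category.assoc _ _ _).trans (congrArg (_ ≫ ·) (MorphismProperty.Over.w (f k)))
    have hl : (r ≫ pullback.fst (f l).left (f k).left) ≫ (T l).hom =
        (r ≫ pullback.snd (f l).left (f k).left) ≫ (T k).hom := by
      exact (congrArg (_ ≫ ·) (MorphismProperty.Over.w (f l))).symm.trans
        ((Category.assoc _ _ _).symm.trans ((congrArg (· ≫ a₁ ≫ U.hom) hh).trans hb))
    rw [← hw1, ← hr] at hy'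
    rw [← hw2, ← hr]
    exact (hiff k Ω _ _ rfl _ hb rfl).2 ((hiff l Ω _ _ hl _ hb hh).1 hy')
  haveI : ∀ k, WeaklyEtale (f k).left := fun k => weaklyEtale_left (f k)
  let EO : A.Opens := ⟨E, isQuotientMap_sigmaDesc (fun k => (T k).left) (fun k => (f k).left) hfs E
    fun k => (hsat k).symm ▸ Secs.isOpen_eqLocus _ _⟩
  have hcov : Sieve.generate (Presieve.ofArrows T f) ∈ Scheme.ProEt.topology X AP := ofArrows_mem_of_affine T f hfs
  have hE : ∀ (Ω : Type u) [Field Ω] [IsSepClosed Ω] (b : Spec (CommRingCat.of Ω) ⟶ A)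
      (η : Spec (CommRingCat.of Ω) ⟶ X) (hb : b ≫ a₁ ≫ U.hom = η),
      b.base default ∈ E ↔ val Ω (b ≫ a₁) η ((Category.assoc _ _ _).trans hb) = τ.val Ω b η hb := by
    intro Ω _ _ b η hb
    obtain ⟨T', gT, b', ⟨_, c, _, ⟨k⟩, rfl⟩, hb'⟩ := exists_geomPoint_lift AP _ hcov b
    have e : (b' ≫ c.left) ≫ (f k).left = b := (Category.assoc _ _ _).trans hb'
    have he : (b' ≫ c.left) ≫ (T k).hom = η :=
      (congrArg ((b' ≫ c.left) ≫ ·) (MorphismProperty.Over.w (f k))).symm.trans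
        ((Category.assoc _ _ _).symm.trans ((congrArg (· ≫ a₁ ≫ U.hom) e).trans hb))
    refine Iff.trans ?_ (hiff k Ω _ η he b hb e)
    rw [← hsat k, Set.mem_preimage]
    exact Iff.of_eq (congrArg (fun k : Spec (CommRingCat.of Ω) ⟶ A => k.base default ∈ E) e.symm)
  obtain ⟨b₀, hb₀, -⟩ := exists_lift ι (p₁ ≫ n) ⟨(p₁ ≫ n).base default, hxO⟩ rfl
  have hb₁ : b₀ ≫ a₁ = p₀ := by
    show b₀ ≫ ι ≫ pullback.fst U.hom wh = p₀
    rw [← Category.assoc, hb₀, Category.assoc, pullback.lift_fst, ← Category.assoc, hp₁, hq]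
  have hb₂ : b₀ ≫ a₂ = p₁ ≫ m := by
    show b₀ ≫ ι ≫ pullback.snd U.hom wh = p₁ ≫ m
    rw [← Category.assoc, hb₀, Category.assoc, pullback.lift_snd]
  have hmem : b₀.base default ∈ E := by
    refine (hE Ω₀ b₀ (p₀ ≫ U.hom) (by rw [← Category.assoc, hb₁])).2 ?_
    have h0 : (q Ω₀ p₀) ≫ (V Ω₀ p₀).hom = p₀ ≫ U.hom := by
      rw [← MorphismProperty.Over.w (g Ω₀ p₀), ← Category.assoc, hq]
    refine (hval Ω₀ (V Ω₀ p₀) (g Ω₀ p₀) (hg Ω₀ p₀) (q Ω₀ p₀) (b₀ ≫ a₁) (p₀ ≫ U.hom) (congrArg (· ≫ U.hom) hb₁) h0 ((hq Ω₀ p₀).trans hb₁.symm)).trans ?_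
    refine (Secs.val_congr _ hp₁.symm _ (by rw [hp₁, h0])).trans ((ht Ω₀ p₁ _ _).trans ?_)
    exact gSh_congr hb₂.symm _ _ t
  refine ⟨EO.toScheme, EO.ι ≫ a₁, inferInstance, ⟨_, hmem⟩, W, EO.ι ≫ a₂,
    (Category.assoc _ _ _).trans ((congrArg (EO.ι ≫ ·) ha).trans (Category.assoc _ _ _).symm), t, ?_,
    fun Ω _ _ r η h => ?_⟩
  · show a₁.base (b₀.base default) = p₀.base default
    exact congrArg (fun k : Spec (CommRingCat.of Ω₀) ⟶ U.left => k.base default) hb₁
  have hb : (r ≫ EO.ι) ≫ a₁ ≫ U.hom = η := by rw [← h]; simp only [Category.assoc]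
  have hin : (r ≫ EO.ι).base default ∈ E := (r.base default).2
  refine Eq.trans ?_ (((hE Ω _ η hb).1 hin).trans (gSh_congr (Category.assoc _ _ _) _ _ t))
  congr 1

theorem isSheaf_secP : Presieve.IsSheaf (Scheme.ProEt.topology X) (secP F) := fun U R hR x hx => by
  obtain ⟨σ, hσ⟩ := exists_secP_glue F hR x hx
  refine ⟨σ, fun V g hg => hσ V g hg, fun τ hτ => Secs.ext' fun Ω _ _ p η hp => ?_⟩
  obtain ⟨V, g, p', hg, rfl⟩ := exists_geomPoint_lift U R hR p
  have h' : p' ≫ V.hom = η := by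
    rw [← MorphismProperty.Over.w g, ← Category.assoc, hp]
  have := congrArg (fun s : Secs V.hom F => s.val Ω p' η h') ((hτ g hg).trans (hσ V g hg).symm)
  exact this

/-- Relative sections as a sheaf on the pro-étale site. -/
abbrev secSh : Sheaf (Scheme.ProEt.topology X) (Type (u + 1)) :=
  ⟨secP F, (isSheaf_iff_isSheaf_of_type _ _).2 (isSheaf_secP F)⟩

end GrothLib.ProEtS
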