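import Groth.Agent.Lib.ProEtS.TrivSpread
import Groth.Agent.Lib.IndEt.WeaklyEtaleCover
import Mathlib.Algebra.Module.FinitePresentation

/-!
# Finitely presented locally constant pro-étale sheaves are trivial étale-locally
-/

set_option autoImplicit false
set_option linter.style.haveILetI false
set_option backward.isDefEq.respectTransparency.types false
set_option synthInstance.maxHeartbeats 200000
set_option maxHeartbeats 1000000

universe u

open CategoryTheory CategoryTheory.Limits AlgebraicGeometry Opposite TensorProduct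

noncomputable section

namespace GrothLib.ProEtS

open TrivMod

theorem isWContractible_of_isAlgClosed (Ω : Type u) [Field Ω] [IsAlgClosed Ω] : EtPBC.IsWContractible Ω := by
  intro B _ _ hff hwe
  haveI := hff
  haveI := hwe
  haveI : Nontrivial B := by
    obtain ⟨q, -⟩ := PrimeSpectrum.comap_surjective_of_faithfullyFlat (A := Ω) (B := B) default
    exact ⟨⟨0, 1, fun h => q.isPrime.ne_top ((Ideal.eq_top_iff_one _).2 (h ▸ q.asIdeal.zero_mem))⟩⟩
  obtain ⟨q, hq⟩ := Ideal.exists_maximal B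
  have halg := IndEt.algebraicResidueExtensions_of_weaklyEtale Ω B q
  letI := Ideal.Quotient.field q
  haveI : Algebra.IsAlgebraic Ω (B ⧸ q) := ⟨fun x => by
    obtain ⟨P, hP, hP0⟩ := halg.isAlgebraic x
    obtain ⟨P', rfl⟩ := Polynomial.map_surjective _ Ideal.Quotient.mk_surjective P
    refine ⟨P', fun h => hP (by rw [h, Polynomial.map_zero]), ?_⟩
    rwa [show (Ideal.Quotient.mk (q.comap (algebraMap Ω B))) = algebraMap Ω _ from rfl,
      Polynomial.aeval_map_algebraMap] at hP0⟩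
  exact ⟨(AlgEquiv.ofBijective (Algebra.ofId Ω (B ⧸ q))
    (IsAlgClosed.algebraMap_bijective_of_isIntegral (k := Ω) (K := B ⧸ q))).symm.toAlgHom.comp
      (Ideal.Quotient.mkₐ Ω q)⟩

variable {X : Scheme.{u}} {U : X.Opens} (hU : IsAffineOpen U) {Λ : Type (u + 1)} [CommRing Λ]
  {G : EtModW.ModP Λ X}

/-- A finite affine cover by pieces with trivialisations, from a covering with trivialisations. -/
theorem exists_triv_charts {ι : Type u} (T : ι → X.ProEt) (hT : EtModW.CoversP T)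
    (hTM : ∀ i, ∃ (M : Type (u + 1)) (_ : AddCommGroup M) (_ : Module Λ M) (_ : Module.FinitePresentation Λ M)
      (m : M →ₗ[Λ] G.obj.obj (op (T i))), IsTriv (Scheme.ProEt.topology X) G (T i) m) :
    ∃ (n : ℕ) (R : Fin n → Type u) (_ : ∀ k, CommRing (R k)) (_ : ∀ k, Algebra Γ(X, U) (R k))
      (_ : ∀ k, Algebra.WeaklyEtale Γ(X, U) (R k)),
      (∀ p : PrimeSpectrum Γ(X, U), ∃ k q, PrimeSpectrum.comap (algebraMap Γ(X, U) (R k)) q = p) ∧
      ∀ k, ∃ (M : Type (u + 1)) (_ : AddCommGroup M) (_ : Module Λ M) (_ : Module.FinitePresentation Λ M)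
        (m : M →ₗ[Λ] G.obj.obj (op (objA hU (R k)))),
        IsTriv (Scheme.ProEt.topology X) G (objA hU (R k)) m := by
  let O := objA hU Γ(X, U)
  let t : O ⟶ ProEtS.topP X := MorphismProperty.Over.homMk O.hom (Category.comp_id _) trivial
  obtain ⟨n, S, g, hS, hg, hcov⟩ := exists_affine_refinement
    ((Scheme.ProEt.topology X).pullback_stable t hT)
  haveI := hS
  let φ : ∀ k, Γ(X, U) ⟶ Γ((S k).left, ⊤) := fun k => Spec.preimage ((S k).left.isoSpec.inv ≫ (g k).left)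
  have hφ : ∀ k, Spec.map (φ k) = (S k).left.isoSpec.inv ≫ (g k).left := fun k => Spec.map_preimage _
  letI : ∀ k, Algebra Γ(X, U) Γ((S k).left, ⊤) := fun k => (φ k).hom.toAlgebra
  haveI : ∀ k, Algebra.WeaklyEtale Γ(X, U) Γ((S k).left, ⊤) := fun k => by
    haveI := weaklyEtale_left (g k)
    exact (WeakEtale.weaklyEtale_specMap_iff (φ k)).1 (by
      rw [hφ]
      exact MorphismProperty.comp_mem _ _ _ (inferInstanceAs (WeaklyEtale (S k).left.isoSpec.inv)) ‹_›)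
  refine ⟨n, fun k => Γ((S k).left, ⊤), inferInstance, inferInstance, inferInstance, fun p => ?_, fun k => ?_⟩
  · obtain ⟨k, y, hy⟩ := hcov p
    refine ⟨k, (S k).left.isoSpec.hom y, ?_⟩
    show (Spec.map (φ k)) ((S k).left.isoSpec.hom y) = p
    rw [hφ, ← Scheme.Hom.comp_apply]
    exact (congr($((S k).left.isoSpec.hom_inv_id_assoc (g k).left).base y)).trans hy
  · obtain ⟨_, a, _, ⟨i⟩, -⟩ := hg k
    obtain ⟨M, _, _, hM, m, hm⟩ := hTM i
    let e : objA hU Γ((S k).left, ⊤) ⟶ S k := MorphismProperty.Over.homMk (S k).left.isoSpec.inv (by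
      show (S k).left.isoSpec.inv ≫ (S k).hom = Spec.map (φ k) ≫ hU.fromSpec
      have hO : O.hom = hU.fromSpec := by
        show Spec.map (CommRingCat.ofHom (algebraMap Γ(X, U) Γ(X, U))) ≫ hU.fromSpec = hU.fromSpec
        exact (congrArg (· ≫ hU.fromSpec) (Spec.map_id Γ(X, U))).trans (Category.id_comp _)
      rw [hφ]
      exact (congrArg ((S k).left.isoSpec.inv ≫ ·) ((MorphismProperty.Over.w (g k)).symm.trans
        (congrArg ((g k).left ≫ ·) hO))).trans (Category.assoc _ _ _).symm) trivial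
    exact ⟨M, inferInstance, inferInstance, hM, _, hm.restrict (e ≫ a)⟩

variable {n : ℕ} {R : Fin n → Type u} [∀ k, CommRing (R k)] [∀ k, Algebra Γ(X, U) (R k)]
  [∀ k, Algebra.WeaklyEtale Γ(X, U) (R k)] {Ω : Type u} [CommRing Ω] [Algebra Γ(X, U) Ω]
  (hsurj : ∀ p : PrimeSpectrum Γ(X, U), ∃ k q, PrimeSpectrum.comap (algebraMap Γ(X, U) (R k)) q = p)
  (hM : ∀ k, ∃ (M : Type (u + 1)) (_ : AddCommGroup M) (_ : Module Λ M)
        (m : M →ₗ[Λ] G.obj.obj (op (objA hU (R k)))),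
        IsTriv (Scheme.ProEt.topology X) G (objA hU (R k)) m)

variable (R) in
/-- The projection to the first factor. -/
abbrev fstMor (S : Type u) [CommRing S] [Algebra Γ(X, U) S] [Algebra.WeaklyEtale Γ(X, U) S] (k : Fin n) :
    objA hU (S ⊗[Γ(X, U)] R k) ⟶ objA hU S :=
  morA hU (R := S) (R' := S ⊗[Γ(X, U)] R k) Algebra.TensorProduct.includeLeft

include hsurj in
theorem fstMor_cover (S : Type u) [CommRing S] [Algebra Γ(X, U) S] [Algebra.WeaklyEtale Γ(X, U) S]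
    (p : (objA hU S).left) : ∃ k y, (fstMor hU R S k).left y = p := by
  obtain ⟨k, q, hq⟩ := hsurj (PrimeSpectrum.comap (algebraMap Γ(X, U) S) p)
  have hpb := isPullback_SpecMap_of_isPushout _ _ _ _ (CommRingCat.isPushout_tensorProduct Γ(X, U) S (R k))
  obtain ⟨y, hy, -⟩ := Scheme.Pullback.exists_preimage_pullback
    (f := Spec.map (CommRingCat.ofHom (algebraMap Γ(X, U) S)))
    (g := Spec.map (CommRingCat.ofHom (algebraMap Γ(X, U) (R k)))) p q hq.symm
  refine ⟨k, hpb.isoPullback.inv y, ?_⟩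
  show Spec.map (CommRingCat.ofHom Algebra.TensorProduct.includeLeftRingHom) (hpb.isoPullback.inv y) = p
  rw [← Scheme.Hom.comp_apply, hpb.isoPullback_inv_fst]
  exact hy

theorem fstMor_stageMor (k : Fin n) {N L : Hensel.Nbhd Γ(X, U) Ω} (f : N ⟶ L) :
    stageMor hU (R k) f ≫ fstMor hU R N.Ring k =
      fstMor hU R L.Ring k ≫ morA hU (R := N.Ring) (R' := L.Ring) f.map := by
  simp only [fstMor, stageMor, morA_comp]
  exact congrArg (morA hU) (AlgHom.ext fun x => by simp)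

theorem fstMor_limMor (k : Fin n) (N : Hensel.Nbhd Γ(X, U) Ω) :
    limMor hU (R k) N ≫ fstMor hU R N.Ring k = fstMor hU R (Hensel.Hull Γ(X, U) Ω) k ≫
      morA hU (R := N.Ring) (R' := Hensel.Hull Γ(X, U) Ω) (Hensel.Hull.ι N) := by
  simp only [fstMor, limMor, morA_comp]
  exact congrArg (morA hU) (AlgHom.ext fun x => by simp)

theorem morA_map_comp {N M L : Hensel.Nbhd Γ(X, U) Ω} (f : N ⟶ M) (g : M ⟶ L) :
    morA hU (R := M.Ring) (R' := L.Ring) g.map ≫ morA hU (R := N.Ring) (R' := M.Ring) f.map =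
      morA hU (R := N.Ring) (R' := L.Ring) (f ≫ g).map :=
  morA_comp hU _ _

theorem morA_ι_map {N M : Hensel.Nbhd Γ(X, U) Ω} (f : N ⟶ M) :
    morA hU (R := M.Ring) (R' := Hensel.Hull Γ(X, U) Ω) (Hensel.Hull.ι M) ≫
      morA hU (R := N.Ring) (R' := M.Ring) f.map =
        morA hU (R := N.Ring) (R' := Hensel.Hull Γ(X, U) Ω) (Hensel.Hull.ι N) :=
  (morA_comp hU _ _).trans (congrArg (morA hU) (AlgHom.ext fun x => Hensel.Hull.ι_map f x))

include hsurj hM in
/-- Sections vanishing on the limit vanish at a stage. -/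
theorem exists_refine_eq_zero {N : Hensel.Nbhd Γ(X, U) Ω} (d : G.obj.obj (op (objA hU N.Ring)))
    (hd : res _ G (morA hU (R := N.Ring) (R' := Hensel.Hull Γ(X, U) Ω) (Hensel.Hull.ι N)) d = 0) :
    ∃ (L : Hensel.Nbhd Γ(X, U) Ω) (f : N ⟶ L),
      res _ G (morA hU (R := N.Ring) (R' := L.Ring) f.map) d = 0 := by
  classical
  haveI := hasSheafCompose_moduleCat Λ X
  suffices ∀ s : Finset (Fin n), ∃ (L : Hensel.Nbhd Γ(X, U) Ω) (f : N ⟶ L), ∀ k ∈ s,
      res _ G (fstMor hU R L.Ring k ≫ morA hU (R := N.Ring) (R' := L.Ring) f.map) d = 0 by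
    obtain ⟨L, f, hf⟩ := this Finset.univ
    refine ⟨L, f, res_ext G (ofArrows_mem_of_affine_finite (fun k => objA hU (L.Ring ⊗[Γ(X, U)] R k))
      (fun k => inferInstance) (fun k => fstMor hU R L.Ring k) fun p => fstMor_cover hU hsurj _ p) ?_⟩
    rintro Y h ⟨_, a, _, ⟨k⟩, rfl⟩
    rw [res_comp G a, res_comp G a, ← res_comp G (fstMor hU R L.Ring k), hf k (Finset.mem_univ k), map_zero,
      map_zero, map_zero]
  intro s
  induction s using Finset.induction with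
  | empty => exact ⟨N, 𝟙 N, by simp⟩
  | @insert k s _ ih =>
    obtain ⟨L, f, hf⟩ := ih
    obtain ⟨M, _, _, m, hm⟩ := hM k
    obtain ⟨L', g, hg⟩ := exists_stage_res_eq_zero hU hm
      (res _ G (fstMor hU R L.Ring k ≫ morA hU (R := N.Ring) (R' := L.Ring) f.map) d) (by
        rw [← res_comp, ← Category.assoc, fstMor_limMor, Category.assoc, morA_ι_map, res_comp, hd, map_zero])
    refine ⟨L', f ≫ g, fun j hj => ?_⟩
    rw [← morA_map_comp, ← Category.assoc, ← fstMor_stageMor, Category.assoc, res_comp]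
    rcases Finset.mem_insert.1 hj with rfl | hj
    · exact hg
    · rw [hf j hj, map_zero]

/-- Agreement on the triple tensor product gives agreement on the overlap. -/
theorem res_eq_of_triple {D S T : Type u} [CommRing D] [Algebra Γ(X, U) D] [Algebra.WeaklyEtale Γ(X, U) D]
    [CommRing S] [Algebra Γ(X, U) S] [Algebra.WeaklyEtale Γ(X, U) S]
    [CommRing T] [Algebra Γ(X, U) T] [Algebra.WeaklyEtale Γ(X, U) T]
    (sk : G.obj.obj (op (objA hU (D ⊗[Γ(X, U)] S)))) (sl : G.obj.obj (op (objA hU (D ⊗[Γ(X, U)] T))))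
    (h : res _ G (morA hU (R := D ⊗[Γ(X, U)] S) (R' := D ⊗[Γ(X, U)] (S ⊗[Γ(X, U)] T))
        (Algebra.TensorProduct.map (AlgHom.id _ D) Algebra.TensorProduct.includeLeft)) sk =
      res _ G (morA hU (R := D ⊗[Γ(X, U)] T) (R' := D ⊗[Γ(X, U)] (S ⊗[Γ(X, U)] T))
        (Algebra.TensorProduct.map (AlgHom.id _ D) Algebra.TensorProduct.includeRight)) sl)
    {Z : X.ProEt} (gk : Z ⟶ objA hU (D ⊗[Γ(X, U)] S)) (gl : Z ⟶ objA hU (D ⊗[Γ(X, U)] T))
    (hkl : gk ≫ morA hU (R := D) (R' := D ⊗[Γ(X, U)] S) Algebra.TensorProduct.includeLeft =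
      gl ≫ morA hU (R := D) (R' := D ⊗[Γ(X, U)] T) Algebra.TensorProduct.includeLeft) :
    res _ G gk sk = res _ G gl sl := by
  haveI : Algebra.WeaklyEtale Γ(X, U) ((D ⊗[Γ(X, U)] S) ⊗[D] (D ⊗[Γ(X, U)] T)) :=
    Algebra.WeaklyEtale.trans Γ(X, U) (D ⊗[Γ(X, U)] S) ((D ⊗[Γ(X, U)] S) ⊗[D] (D ⊗[Γ(X, U)] T))
  let i₁ : D ⊗[Γ(X, U)] S →ₐ[Γ(X, U)] ((D ⊗[Γ(X, U)] S) ⊗[D] (D ⊗[Γ(X, U)] T)) := Algebra.TensorProduct.includeLeft
  let i₂ : D ⊗[Γ(X, U)] T →ₐ[Γ(X, U)] ((D ⊗[Γ(X, U)] S) ⊗[D] (D ⊗[Γ(X, U)] T)) :=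
    (Algebra.TensorProduct.includeRight : _ →ₐ[D] ((D ⊗[Γ(X, U)] S) ⊗[D] (D ⊗[Γ(X, U)] T))).restrictScalars Γ(X, U)
  have hpb := isPullback_SpecMap_of_isPushout _ _ _ _
    (CommRingCat.isPushout_tensorProduct D (D ⊗[Γ(X, U)] S) (D ⊗[Γ(X, U)] T))
  let j : Z.left ⟶ (objA hU ((D ⊗[Γ(X, U)] S) ⊗[D] (D ⊗[Γ(X, U)] T))).left := hpb.lift gk.left gl.left (congrArg (fun φ : Z ⟶ objA hU D => φ.left) hkl)
  have hj₁ : j ≫ (morA hU i₁).left = gk.left := hpb.lift_fst _ _ _
  have hj₂ : j ≫ (morA hU i₂).left = gl.left := hpb.lift_snd _ _ _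
  let J : Z ⟶ objA hU ((D ⊗[Γ(X, U)] S) ⊗[D] (D ⊗[Γ(X, U)] T)) := MorphismProperty.Over.homMk j (by
    rw [← MorphismProperty.Over.w (morA hU i₁), ← Category.assoc, hj₁, MorphismProperty.Over.w]) trivial
  have hJ₁ : J ≫ morA hU i₁ = gk := MorphismProperty.Over.Hom.ext hj₁
  have hJ₂ : J ≫ morA hU i₂ = gl := MorphismProperty.Over.Hom.ext hj₂
  -- the comparison with the triple tensor
  let σ : D ⊗[Γ(X, U)] (S ⊗[Γ(X, U)] T) →ₐ[Γ(X, U)] ((D ⊗[Γ(X, U)] S) ⊗[D] (D ⊗[Γ(X, U)] T)) :=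
    Algebra.TensorProduct.lift (i₁.comp Algebra.TensorProduct.includeLeft)
      (Algebra.TensorProduct.productMap (i₁.comp Algebra.TensorProduct.includeRight)
        (i₂.comp Algebra.TensorProduct.includeRight)) fun _ _ => Commute.all _ _
  have hone : ∀ d : D, i₂ (d ⊗ₜ[Γ(X, U)] 1) = i₁ (d ⊗ₜ[Γ(X, U)] 1) := fun d => by
    show (1 : D ⊗[Γ(X, U)] S) ⊗ₜ[D] (d ⊗ₜ[Γ(X, U)] (1 : T)) =
      (d ⊗ₜ[Γ(X, U)] (1 : S)) ⊗ₜ[D] (1 : D ⊗[Γ(X, U)] T)
    have e₁ : d ⊗ₜ[Γ(X, U)] (1 : T) = d • (1 : D ⊗[Γ(X, U)] T) := by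
      rw [Algebra.TensorProduct.one_def, smul_tmul', smul_eq_mul, mul_one]
    have e₂ : d ⊗ₜ[Γ(X, U)] (1 : S) = d • (1 : D ⊗[Γ(X, U)] S) := by
      rw [Algebra.TensorProduct.one_def, smul_tmul', smul_eq_mul, mul_one]
    rw [e₁, e₂, tmul_smul, smul_tmul']
  have hσ₁ : morA hU σ ≫ morA hU (R := D ⊗[Γ(X, U)] S) (R' := D ⊗[Γ(X, U)] (S ⊗[Γ(X, U)] T)) (Algebra.TensorProduct.map (AlgHom.id _ D) Algebra.TensorProduct.includeLeft) = morA hU i₁ := by
    simp only [morA_comp]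
    refine congrArg (morA hU) (Algebra.TensorProduct.ext' fun a b => ?_)
    simp only [σ, AlgHom.comp_apply, Algebra.TensorProduct.map_tmul, Algebra.TensorProduct.lift_tmul,
      AlgHom.id_apply, Algebra.TensorProduct.includeLeft_apply, Algebra.TensorProduct.productMap_apply_tmul,
      Algebra.TensorProduct.includeRight_apply, ← Algebra.TensorProduct.one_def, map_one, mul_one]
    rw [← map_mul, Algebra.TensorProduct.tmul_mul_tmul, mul_one, one_mul]
  have hσ₂ : morA hU σ ≫ morA hU (R := D ⊗[Γ(X, U)] T) (R' := D ⊗[Γ(X, U)] (S ⊗[Γ(X, U)] T)) (Algebra.TensorProduct.map (AlgHom.id _ D) Algebra.TensorProduct.includeRight) = morA hU i₂ := by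
    simp only [morA_comp]
    refine congrArg (morA hU) (Algebra.TensorProduct.ext' fun a b => ?_)
    simp only [σ, AlgHom.comp_apply, Algebra.TensorProduct.map_tmul, Algebra.TensorProduct.lift_tmul,
      AlgHom.id_apply, Algebra.TensorProduct.includeLeft_apply, Algebra.TensorProduct.productMap_apply_tmul,
      Algebra.TensorProduct.includeRight_apply, ← Algebra.TensorProduct.one_def, map_one, one_mul]
    rw [← hone, ← map_mul, Algebra.TensorProduct.tmul_mul_tmul, mul_one, one_mul]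
  rw [← hJ₁, ← hJ₂, ← hσ₁, ← hσ₂]
  simp only [res_comp]
  exact congrArg (fun y => res _ G J (res _ G (morA hU σ) y)) h

include hsurj hM in
/-- Sections on the limit come from a stage. -/
theorem exists_refine_eq (g : G.obj.obj (op (objA hU (Hensel.Hull Γ(X, U) Ω)))) :
    ∃ (N : Hensel.Nbhd Γ(X, U) Ω) (s : G.obj.obj (op (objA hU N.Ring))),
      res _ G (morA hU (R := N.Ring) (R' := Hensel.Hull Γ(X, U) Ω) (Hensel.Hull.ι N)) s = g := by
  classical
  haveI := hasSheafCompose_moduleCat Λ X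
  choose M _ _ m hm using hM
  choose N₁ s₁ hs₁ using fun k => exists_stage_res_eq hU (hm k)
    (res _ G (fstMor hU R (Hensel.Hull Γ(X, U) Ω) k) g)
  obtain ⟨K₀, hK₀⟩ : ∃ K₀ : Hensel.Nbhd Γ(X, U) Ω, ∀ k, Nonempty (N₁ k ⟶ K₀) := by
    obtain ⟨K, hK⟩ := IsFiltered.sup_objs_exists (Finset.univ.image N₁)
    exact ⟨K, fun k => hK (by simp)⟩
  let s₀ : ∀ k, G.obj.obj (op (objA hU (K₀.Ring ⊗[Γ(X, U)] R k))) := fun k =>
    res _ G (stageMor hU (R k) (hK₀ k).some) (s₁ k)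
  have hlim : ∀ {N L : Hensel.Nbhd Γ(X, U) Ω} (f : N ⟶ L) (k : Fin n),
      limMor hU (R k) L ≫ stageMor hU (R k) f = limMor hU (R k) N := fun f k =>
    (morA_comp hU _ _).trans (congrArg (morA hU) (stageHom_limHom (R k) f))
  have hs₀ : ∀ k, res _ G (limMor hU (R k) K₀) (s₀ k) = res _ G (fstMor hU R (Hensel.Hull Γ(X, U) Ω) k) g :=
    fun k => by rw [← res_comp, hlim, hs₁]
  clear_value s₀
  -- the overlaps
  let pl : ∀ (S : Type u) [CommRing S] [Algebra Γ(X, U) S] [Algebra.WeaklyEtale Γ(X, U) S] (k l : Fin n),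
      objA hU (S ⊗[Γ(X, U)] (R k ⊗[Γ(X, U)] R l)) ⟶ objA hU (S ⊗[Γ(X, U)] R k) := fun S _ _ _ k l =>
    morA hU (R := S ⊗[Γ(X, U)] R k) (R' := S ⊗[Γ(X, U)] (R k ⊗[Γ(X, U)] R l))
      (Algebra.TensorProduct.map (AlgHom.id _ S) Algebra.TensorProduct.includeLeft)
  let pr : ∀ (S : Type u) [CommRing S] [Algebra Γ(X, U) S] [Algebra.WeaklyEtale Γ(X, U) S] (k l : Fin n),
      objA hU (S ⊗[Γ(X, U)] (R k ⊗[Γ(X, U)] R l)) ⟶ objA hU (S ⊗[Γ(X, U)] R l) := fun S _ _ _ k l =>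
    morA hU (R := S ⊗[Γ(X, U)] R l) (R' := S ⊗[Γ(X, U)] (R k ⊗[Γ(X, U)] R l))
      (Algebra.TensorProduct.map (AlgHom.id _ S) Algebra.TensorProduct.includeRight)
  have hpl : ∀ {N L : Hensel.Nbhd Γ(X, U) Ω} (f : N ⟶ L) (k l : Fin n),
      stageMor hU (R k ⊗[Γ(X, U)] R l) f ≫ pl N.Ring k l = pl L.Ring k l ≫ stageMor hU (R k) f := fun f k l => by
    simp only [pl, stageMor, morA_comp]
    exact congrArg (morA hU) (Algebra.TensorProduct.ext' fun a b => by simp)
  have hpr : ∀ {N L : Hensel.Nbhd Γ(X, U) Ω} (f : N ⟶ L) (k l : Fin n),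
      stageMor hU (R k ⊗[Γ(X, U)] R l) f ≫ pr N.Ring k l = pr L.Ring k l ≫ stageMor hU (R l) f := fun f k l => by
    simp only [pr, stageMor, morA_comp]
    exact congrArg (morA hU) (Algebra.TensorProduct.ext' fun a b => by simp)
  have hpl' : ∀ (N : Hensel.Nbhd Γ(X, U) Ω) (k l : Fin n),
      limMor hU (R k ⊗[Γ(X, U)] R l) N ≫ pl N.Ring k l = pl _ k l ≫ limMor hU (R k) N := fun N k l => by
    simp only [pl, limMor, morA_comp]
    exact congrArg (morA hU) (Algebra.TensorProduct.ext' fun a b => by simp)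
  have hpr' : ∀ (N : Hensel.Nbhd Γ(X, U) Ω) (k l : Fin n),
      limMor hU (R k ⊗[Γ(X, U)] R l) N ≫ pr N.Ring k l = pr _ k l ≫ limMor hU (R l) N := fun N k l => by
    simp only [pr, limMor, morA_comp]
    exact congrArg (morA hU) (Algebra.TensorProduct.ext' fun a b => by simp)
  have hplr : ∀ (k l : Fin n), pl (Hensel.Hull Γ(X, U) Ω) k l ≫ fstMor hU R _ k = pr _ k l ≫ fstMor hU R _ l := by
    intro k l
    simp only [pl, pr, fstMor, morA_comp]
    exact congrArg (morA hU) (AlgHom.ext fun a => by simp)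
  have hd : ∀ c : Finset (Fin n × Fin n), ∃ (K : Hensel.Nbhd Γ(X, U) Ω) (f : K₀ ⟶ K), ∀ p ∈ c,
      res _ G (pl K.Ring p.1 p.2 ≫ stageMor hU (R p.1) f) (s₀ p.1) =
        res _ G (pr K.Ring p.1 p.2 ≫ stageMor hU (R p.2) f) (s₀ p.2) := by
    intro c
    induction c using Finset.induction with
    | empty => exact ⟨K₀, 𝟙 _, by simp⟩
    | @insert p c _ ih =>
      obtain ⟨K, f, hf⟩ := ih
      obtain ⟨L, g', hg'⟩ := exists_stage_res_eq_zero hU
        ((hm p.1).restrict (morA hU (R := R p.1) (R' := R p.1 ⊗[Γ(X, U)] R p.2) Algebra.TensorProduct.includeLeft))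
        (res _ G (pl K.Ring p.1 p.2 ≫ stageMor hU (R p.1) f) (s₀ p.1) -
          res _ G (pr K.Ring p.1 p.2 ≫ stageMor hU (R p.2) f) (s₀ p.2)) (by
        rw [map_sub, ← res_comp, ← res_comp, ← Category.assoc, hpl', Category.assoc, hlim,
          ← Category.assoc, hpr', Category.assoc, hlim, res_comp, hs₀, res_comp, hs₀, ← res_comp, hplr,
          res_comp, sub_self])
      refine ⟨L, f ≫ g', fun q hq => ?_⟩
      have hcomp : ∀ k : Fin n, stageMor hU (R k) g' ≫ stageMor hU (R k) f = stageMor hU (R k) (f ≫ g') :=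
        fun k => (morA_comp hU _ _).trans (congrArg (morA hU) (stageHom_comp (R k) f g'))
      rw [← hcomp, ← hcomp, ← Category.assoc, ← hpl, ← Category.assoc, ← hpr, Category.assoc, Category.assoc,
        res_comp, res_comp G (stageMor hU _ g') (pr K.Ring q.1 q.2 ≫ _)]
      rcases Finset.mem_insert.1 hq with rfl | hq
      · rw [map_sub, sub_eq_zero] at hg'
        exact hg'
      · rw [hf q hq]
  obtain ⟨K, f, hf⟩ := hd Finset.univ
  let s : ∀ k, G.obj.obj (op (objA hU (K.Ring ⊗[Γ(X, U)] R k))) := fun k => res _ G (stageMor hU (R k) f) (s₀ k)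
  have hcov := ofArrows_mem_of_affine_finite (fun k => objA hU (K.Ring ⊗[Γ(X, U)] R k))
      (fun k => inferInstance) (fun k => fstMor hU R K.Ring k) fun p => fstMor_cover hU hsurj _ p
  have hG : (Presieve.ofArrows _ fun k => fstMor hU R K.Ring k).IsSheafFor
      ((sheafCompose _ (forget (ModuleCat.{u + 1} Λ))).obj G).obj :=
    (Presieve.isSheafFor_iff_generate _).2 ((isSheaf_iff_isSheaf_of_type _ _).1
      ((sheafCompose _ (forget (ModuleCat.{u + 1} Λ))).obj G).property _ hcov)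
  obtain ⟨t, ht, -⟩ := (Presieve.isSheafFor_arrows_iff _ _).1 hG s fun k l Z gk gl hkl => by
    show res _ G gk (s k) = res _ G gl (s l)
    have := hf (k, l) (Finset.mem_univ _)
    rw [res_comp, res_comp G (pr K.Ring k l)] at this
    exact res_eq_of_triple hU (s k) (s l) this gk gl hkl
  refine ⟨K, t, ?_⟩
  refine res_ext G (ofArrows_mem_of_affine_finite (fun k => objA hU (Hensel.Hull Γ(X, U) Ω ⊗[Γ(X, U)] R k))
    (fun k => inferInstance) (fun k => fstMor hU R _ k) fun p => fstMor_cover hU hsurj _ p) ?_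
  rintro Y h ⟨_, a, _, ⟨k⟩, rfl⟩
  rw [res_comp G a, res_comp G a, ← hs₀ k, ← res_comp G (fstMor hU R _ k), ← fstMor_limMor, res_comp,
    show res _ G (fstMor hU R K.Ring k) t = s k from ht k]
  simp only [s]
  rw [← res_comp G (limMor hU (R k) K) (stageMor hU (R k) f), hlim]

/-- A finitely presented locally constant sheaf on the pro-étale site is trivial on an étale
neighbourhood of every point. -/
theorem exists_etale_triv (hG : EtModW.IsFPLocConstP Λ G) (x : X) :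
    ∃ (V : X.Etale) (v : V.left), V.hom v = x ∧
      ∃ (M : Type (u + 1)) (_ : AddCommGroup M) (_ : Module Λ M) (_ : Module.FinitePresentation Λ M)
        (m : M →ₗ[Λ] G.obj.obj (op ((ProEtS.eps X).obj V))),
        IsTriv (Scheme.ProEt.topology X) G ((ProEtS.eps X).obj V) m := by
  classical
  haveI := hasSheafCompose_moduleCat Λ X
  obtain ⟨ι, T, hT, hTi⟩ := hG
  have hTM : ∀ i, ∃ (M : Type (u + 1)) (_ : AddCommGroup M) (_ : Module Λ M) (_ : Module.FinitePresentation Λ M)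
      (m : M →ₗ[Λ] G.obj.obj (op (T i))), IsTriv (Scheme.ProEt.topology X) G (T i) m := fun i => by
    obtain ⟨M, _, _, hM, ⟨e⟩⟩ := hTi i
    obtain ⟨m, hm⟩ := exists_isTriv_of_iso (T i) e
    exact ⟨M, inferInstance, inferInstance, hM, m, hm⟩
  obtain ⟨_, ⟨U, hU, rfl⟩, hxU, -⟩ :=
    X.isBasis_affineOpens.exists_subset_of_mem_open (Set.mem_univ x) isOpen_univ
  change IsAffineOpen U at hU
  obtain ⟨n, R, _, _, _, hsurj, hM₀⟩ := exists_triv_charts hU T hT hTM
  have hM : ∀ k, ∃ (M : Type (u + 1)) (_ : AddCommGroup M) (_ : Module Λ M)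
      (m : M →ₗ[Λ] G.obj.obj (op (objA hU (R k)))),
      IsTriv (Scheme.ProEt.topology X) G (objA hU (R k)) m := fun k => by
    obtain ⟨M, hM1, hM2, -, m, hm⟩ := hM₀ k
    exact ⟨M, hM1, hM2, m, hm⟩
  obtain ⟨p, hp⟩ : ∃ p : PrimeSpectrum Γ(X, U), hU.fromSpec p = x := by
    have : x ∈ Set.range hU.fromSpec := by rw [hU.range_fromSpec]; exact hxU
    exact this
  obtain ⟨k₀, q, hq⟩ := hsurj p
  let Ω := AlgebraicClosure q.asIdeal.ResidueField
  let ω : R k₀ →+* Ω := (algebraMap q.asIdeal.ResidueField Ω).comp (algebraMap (R k₀) q.asIdeal.ResidueField)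
  letI : Algebra Γ(X, U) Ω := (ω.comp (algebraMap Γ(X, U) (R k₀))).toAlgebra
  let ω' : R k₀ →ₐ[Γ(X, U)] Ω := { ω with commutes' := fun _ => rfl }
  obtain ⟨l, hl⟩ := HullTensor.exists_lift (isWContractible_of_isAlgClosed Ω) ω'
  obtain ⟨M, _, _, hMfp, m₀, hm₀⟩ := hM₀ k₀
  let H := Hensel.Hull Γ(X, U) Ω
  have hmP : IsTriv (Scheme.ProEt.topology X) G (objA hU H)
      ((res _ G (morA hU (R := R k₀) (R' := H) l)).comp m₀) := hm₀.restrict _
  let mP : M →ₗ[Λ] G.obj.obj (op (objA hU H)) := (res _ G (morA hU (R := R k₀) (R' := H) l)).comp m₀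
  -- descend the trivialisation
  obtain ⟨a, π, hπ, hker⟩ := Module.Finite.exists_fin' Λ M |> fun ⟨a, π, hπ⟩ =>
    (⟨a, π, hπ, Module.FinitePresentation.fg_ker π hπ⟩ :
      ∃ (a : ℕ) (π : (Fin a → Λ) →ₗ[Λ] M), Function.Surjective π ∧ (LinearMap.ker π).FG)
  choose N₁ s₁ hs₁ using fun i : Fin a => exists_refine_eq hU hsurj hM (mP (π (Pi.single i 1)))
  obtain ⟨K₀, hK₀⟩ : ∃ K₀ : Hensel.Nbhd Γ(X, U) Ω, ∀ i, Nonempty (N₁ i ⟶ K₀) := by
    obtain ⟨K, hK⟩ := IsFiltered.sup_objs_exists (Finset.univ.image N₁)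
    exact ⟨K, fun i => hK (by simp)⟩
  let Φ : ∀ K : Hensel.Nbhd Γ(X, U) Ω, (K₀ ⟶ K) → ((Fin a → Λ) →ₗ[Λ] G.obj.obj (op (objA hU K.Ring))) :=
    fun K f => Fintype.linearCombination Λ fun i => res _ G (morA hU (R := (N₁ i).Ring) (R' := K.Ring)
      ((hK₀ i).some ≫ f).map) (s₁ i)
  have hΦ : ∀ (K : Hensel.Nbhd Γ(X, U) Ω) (f : K₀ ⟶ K) (v : Fin a → Λ),
      res _ G (morA hU (R := K.Ring) (R' := H) (Hensel.Hull.ι K)) (Φ K f v) = mP (π v) := fun K f v => by
    conv_rhs => rw [← Finset.univ_sum_single v]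
    simp only [Φ, Fintype.linearCombination_apply, map_sum, map_smul]
    refine Finset.sum_congr rfl fun i _ => ?_
    rw [← res_comp, morA_ι_map, hs₁, ← map_smul, ← map_smul, ← Pi.single_smul', smul_eq_mul, mul_one]
  have hΦnat : ∀ (K L : Hensel.Nbhd Γ(X, U) Ω) (f : K₀ ⟶ K) (g : K ⟶ L) (v : Fin a → Λ),
      res _ G (morA hU (R := K.Ring) (R' := L.Ring) g.map) (Φ K f v) = Φ L (f ≫ g) v := fun K L f g v => by
    simp only [Φ, Fintype.linearCombination_apply, map_sum, map_smul]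
    refine Finset.sum_congr rfl fun i _ => ?_
    rw [← res_comp, morA_map_comp, Category.assoc]
  obtain ⟨t, ht⟩ := hker
  obtain ⟨K, f, hf⟩ : ∃ (K : Hensel.Nbhd Γ(X, U) Ω) (f : K₀ ⟶ K), ∀ r ∈ t, Φ K f r = 0 := by
    have key : ∀ s : Finset (Fin a → Λ), s ⊆ t →
        ∃ (K : Hensel.Nbhd Γ(X, U) Ω) (f : K₀ ⟶ K), ∀ r ∈ s, Φ K f r = 0 := by
      intro s
      induction s using Finset.induction with
      | empty => exact fun _ => ⟨K₀, 𝟙 _, by simp⟩
      | @insert r s _ ih =>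
        intro hsub
        obtain ⟨K, f, hf⟩ := ih ((Finset.subset_insert r s).trans hsub)
        obtain ⟨L, g, hg⟩ := exists_refine_eq_zero hU hsurj hM (Φ K f r) (by
          rw [hΦ, show π r = 0 from LinearMap.mem_ker.1 (ht ▸ Submodule.subset_span
            (hsub (Finset.mem_insert_self r s))), map_zero])
        refine ⟨L, f ≫ g, fun j hj => ?_⟩
        rw [← hΦnat]
        rcases Finset.mem_insert.1 hj with rfl | hj
        · exact hg
        · rw [hf j hj, map_zero]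
    exact key t subset_rfl
  have hle : LinearMap.ker π ≤ LinearMap.ker (Φ K f) := by
    rw [← ht]
    exact Submodule.span_le.2 fun r hr => hf r hr
  let mN : M →ₗ[Λ] G.obj.obj (op (objA hU K.Ring)) :=
    ((LinearMap.ker π).liftQ (Φ K f) hle).comp (π.quotKerEquivOfSurjective hπ).symm.toLinearMap
  have hmN : (res _ G (morA hU (R := K.Ring) (R' := H) (Hensel.Hull.ι K))).comp mN = mP := by
    ext z
    obtain ⟨v, rfl⟩ := hπ z
    have : (π.quotKerEquivOfSurjective hπ).symm (π v) = Submodule.Quotient.mk v :=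
      (LinearEquiv.symm_apply_eq _).2 rfl
    show res _ G _ ((LinearMap.ker π).liftQ (Φ K f) hle ((π.quotKerEquivOfSurjective hπ).symm (π v))) = _
    rw [this]
    exact hΦ K f v
  -- the good open
  let prj : H →+* Ω := (Hensel.Hull.proj (A := Γ(X, U)) (C := Ω)).toRingHom
  let ω₀ : (objA hU H).left := PrimeSpectrum.comap (R := H) (S := Ω)
    prj (⟨⊥, Ideal.isPrime_bot⟩ : PrimeSpectrum Ω)
  let S : Fin n → X.ProEt := fun k => objA hU (K.Ring ⊗[Γ(X, U)] R k)
  obtain ⟨O, -, hvO, hO⟩ := exists_triv_open S (fun k => fstMor hU R K.Ring k)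
    (fun y => fstMor_cover hU hsurj _ y) (fun k => by
      obtain ⟨N, _, _, mk, hmk⟩ := hM k
      exact ⟨N, inferInstance, inferInstance, _, hmk.restrict (inMor hU (R k) K.Ring)⟩) mN
    (v := (morA hU (R := K.Ring) (R' := H) (Hensel.Hull.ι K)).left ω₀)
    ⟨objA hU H, _, ω₀, rfl, by rw [hmN]; exact hmP⟩
  haveI : Etale (Spec.map (CommRingCat.ofHom (algebraMap Γ(X, U) K.Ring))) :=
    (HasRingHomProperty.Spec_iff (P := @Etale)).2 (RingHom.etale_algebraMap.2 K.etale)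
  haveI : Etale (objA hU K.Ring).hom :=
    inferInstanceAs (Etale (Spec.map (CommRingCat.ofHom (algebraMap Γ(X, U) K.Ring)) ≫ hU.fromSpec))
  let V : X.Etale := Scheme.Etale.mk (O.ι ≫ (objA hU K.Ring).hom)
  let e : (ProEtS.eps X).obj V ⟶ sub (objA hU K.Ring) O :=
    MorphismProperty.Over.homMk (𝟙 _) (Category.id_comp _) trivial
  refine ⟨V, ⟨_, hvO⟩, ?_, M, inferInstance, inferInstance, hMfp, _, hO.restrict e⟩
  show (objA hU K.Ring).hom ((morA hU (R := K.Ring) (R' := H) (Hensel.Hull.ι K)).left ω₀) = x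
  rw [← Scheme.Hom.comp_apply, MorphismProperty.Over.w, ← hp, ← hq]
  show hU.fromSpec (PrimeSpectrum.comap (algebraMap Γ(X, U) H) ω₀) = _
  congr 1
  have e₁ : prj.comp (algebraMap Γ(X, U) H) =
      ω.comp (algebraMap Γ(X, U) (R k₀)) := (Hensel.Hull.proj (A := Γ(X, U)) (C := Ω)).comp_algebraMap
  apply PrimeSpectrum.ext
  show Ideal.comap (algebraMap Γ(X, U) H) (Ideal.comap prj (⊥ : Ideal Ω)) = Ideal.comap (algebraMap _ (R k₀)) q.asIdeal
  rw [Ideal.comap_comap, e₁, ← Ideal.comap_comap]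
  congr 1
  rw [← Ideal.comap_comap, Ideal.comap_bot_of_injective (algebraMap q.asIdeal.ResidueField Ω) (RingHom.injective _), ← RingHom.ker_eq_comap_bot,
    Ideal.ker_algebraMap_residueField]

end GrothLib.ProEtS
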