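import Groth.Agent.Lib.TrivMod.Basic
import Groth.Agent.Lib.ProEtS.Recollement
import Groth.Prelude.Def_EtModW

/-!
# Trivialised sheaves of modules on the pro-étale site: sections are locally constant
-/

set_option autoImplicit false
set_option linter.style.haveILetI false
set_option backward.isDefEq.respectTransparency.types false

universe u

open CategoryTheory CategoryTheory.Limits AlgebraicGeometry Opposite

noncomputable section

namespace GrothLib.ProEtS

open TrivMod

variable {X : Scheme.{u}}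

theorem hasSheafCompose_moduleCat (Λ : Type (u + 1)) [CommRing Λ] (X : Scheme.{u}) :
    (Scheme.ProEt.topology X).HasSheafCompose (forget (ModuleCat.{u + 1} Λ)) := inferInstance

/-- The empty sieve covers only the empty object. -/
theorem bot_mem_iff {U : X.ProEt} :
    (⊥ : Sieve U) ∈ Scheme.ProEt.topology X U ↔ IsEmpty U.left := by
  constructor
  · intro h
    obtain ⟨ι, V, f, hf, hmem⟩ := exists_family h
    refine ⟨fun x => ?_⟩
    obtain ⟨i, -⟩ := (Scheme.presieve₀_mem_precoverage_iff (E := ⟨ι, fun i => (V i).left, fun i => (f i).left⟩)).1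
      hmem.2 |>.1 x
    exact (hf i : False)
  · intro h
    exact GrothendieckTopology.superset_covering _ (by rw [Sieve.generate_le_iff]; rintro _ _ ⟨i⟩; exact i.down.elim0)
      (ofArrows_mem_of_isOpenMap (U := U) (ι := ULift.{u} (Fin 0)) (fun i => i.down.elim0) (fun i => i.down.elim0)
        (fun i => i.down.elim0) fun x => h.elim x)

/-- The object of an open subscheme. -/
abbrev sub (W : X.ProEt) (O : W.left.Opens) : X.ProEt := Scheme.ProEt.mk (O.ι ≫ W.hom)

/-- Its inclusion. -/
abbrev subι (W : X.ProEt) (O : W.left.Opens) : sub W O ⟶ W :=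
  MorphismProperty.Over.homMk (Q := ⊤) O.ι rfl trivial

/-- A point over two points with the same image. -/
theorem exists_over_pair {S S' V : X.ProEt} (f : S ⟶ V) (g : S' ⟶ V) {s : S.left} {s' : S'.left}
    (h : f.left s = g.left s') :
    ∃ (P : X.ProEt) (a : P ⟶ S) (b : P ⟶ S'), a ≫ f = b ≫ g ∧ ∃ p : P.left, a.left p = s ∧ b.left p = s' := by
  haveI := weaklyEtale_left g
  haveI : WeaklyEtale S.hom := S.prop
  haveI : WeaklyEtale (pullback.fst f.left g.left) :=
    MorphismProperty.pullback_fst (P := @WeaklyEtale) _ _ (weaklyEtale_left g)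
  obtain ⟨p, hp₁, hp₂⟩ := Scheme.Pullback.exists_preimage_pullback (f := f.left) (g := g.left) s s' h
  let P : X.ProEt := Scheme.ProEt.mk (pullback.fst f.left g.left ≫ S.hom)
  let a : P ⟶ S := MorphismProperty.Over.homMk (pullback.fst f.left g.left)
  let b : P ⟶ S' := MorphismProperty.Over.homMk (pullback.snd f.left g.left) (by
    show pullback.snd f.left g.left ≫ S'.hom = pullback.fst f.left g.left ≫ S.hom
    rw [← MorphismProperty.Over.w g, ← MorphismProperty.Over.w f]
    exact (pullback.condition_assoc _).symm) trivial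
  exact ⟨P, a, b, MorphismProperty.Over.Hom.ext pullback.condition, p, hp₁, hp₂⟩

variable {Λ : Type (u + 1)} [CommRing Λ] {G : EtModW.ModP Λ X}
variable {M : Type (u + 1)} [AddCommGroup M] [Module Λ M]

theorem not_bot_of_point {P : X.ProEt} (p : P.left) : (⊥ : Sieve P) ∉ Scheme.ProEt.topology X P :=
  fun h => (bot_mem_iff.1 h).elim p

/-- On affines, sections of a trivialised sheaf are locally constant for the Zariski topology. -/
theorem exists_open_const {U W : X.ProEt} [IsAffine W.left] {m : M →ₗ[Λ] G.obj.obj (op U)}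
    (hm : IsTriv (Scheme.ProEt.topology X) G U m) (f : W ⟶ U) (d : G.obj.obj (op W)) (y : W.left) :
    ∃ (O : W.left.Opens) (c : M), IsAffineOpen O ∧ y ∈ O ∧
      res _ G (subι W O) d = res _ G (subι W O ≫ f) (m c) := by
  haveI := hasSheafCompose_moduleCat Λ X
  obtain ⟨S, hS, hS'⟩ := hm.surj f d
  obtain ⟨n, V, g, hV, hg, hcov⟩ := exists_affine_refinement hS
  choose c hc using fun k => hS' (g k) (hg k)
  haveI := hV
  have hwd : ∀ k l w w', (g k).left w = (g l).left w' → c k = c l := fun k l w w' h => by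
    obtain ⟨P, a, b, hab, p, -, -⟩ := exists_over_pair (g k) (g l) h
    refine sub_eq_zero.1 ((hm.inj (a ≫ g k ≫ f) (c k - c l) ?_).resolve_right (not_bot_of_point p))
    rw [map_sub, map_sub, sub_eq_zero, res_comp G a, ← hc k, ← res_comp, hab, res_comp, hc l, ← res_comp,
      ← Category.assoc, ← hab, Category.assoc]
  obtain ⟨k, w, hk⟩ := hcov y
  let E : Set W.left := {z | ∃ l w, c l = c k ∧ (g l).left w = z}
  haveI : ∀ l, WeaklyEtale (g l).left := fun l => weaklyEtale_left (g l)
  have hE : IsOpen E := isQuotientMap_sigmaDesc (fun l => (V l).left) (fun l => (g l).left) hcov E fun l => by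
    by_cases h : c l = c k
    · convert isOpen_univ
      exact Set.eq_univ_of_forall fun w => ⟨l, w, h, rfl⟩
    · convert isOpen_empty
      refine Set.eq_empty_of_forall_notMem fun w ⟨l', w', h', e⟩ => h ?_
      rw [← h']
      exact (hwd l' l w' w e).symm
  obtain ⟨r, hrE, hyr⟩ := (isAffineOpen_top W.left).exists_basicOpen_le (V := ⟨E, hE⟩) ⟨y, k, w, rfl, hk⟩ trivial
  let O := W.left.basicOpen r
  have hO : IsAffineOpen O := (isAffineOpen_top W.left).basicOpen r
  refine ⟨O, c k, hO, hyr, ?_⟩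
  haveI : IsAffine (sub W O).left := hO
  let κ := {l : Fin n // c l = c k}
  let O' : ∀ l : κ, (V l.1).left.Opens := fun l => (g l.1).left ⁻¹ᵁ O
  have hlift : ∀ l : κ, ∃ q : sub (V l.1) (O' l) ⟶ sub W O, q ≫ subι W O = subι (V l.1) (O' l) ≫ g l.1 := by
    intro l
    refine ⟨MorphismProperty.Over.homMk ((g l.1).left ∣_ O) ?_ trivial, MorphismProperty.Over.Hom.ext ?_⟩
    · show ((g l.1).left ∣_ O) ≫ O.ι ≫ W.hom = (O' l).ι ≫ (V l.1).hom
      rw [morphismRestrict_ι_assoc, MorphismProperty.Over.w]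
    · exact morphismRestrict_ι (g l.1).left O
  choose q hq using hlift
  refine res_ext G (ofArrows_mem_of_affine_finite (fun l : κ => sub (V l.1) (O' l)) (fun l => ?_) q fun x => ?_) ?_
  · have := (isAffineOpen_top (V l.1).left).basicOpen ((g l.1).left.appTop r)
    rw [← Scheme.preimage_basicOpen_top] at this
    exact this
  · obtain ⟨l, w', hcl, hx⟩ := hrE x.2
    refine ⟨⟨l, hcl⟩, ⟨w', show (g l).left w' ∈ O from hx ▸ x.2⟩, Subtype.ext ?_⟩
    have := congrArg (fun φ => φ.left) (hq ⟨l, hcl⟩)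
    exact (congr($(this).base ⟨w', show (g l).left w' ∈ O from hx ▸ x.2⟩)).trans hx
  · rintro Y h ⟨_, a, _, ⟨l⟩, rfl⟩
    rw [res_comp G a, res_comp G a]
    refine congrArg _ ?_
    rw [← res_comp, hq, res_comp, hc l.1, ← res_comp, ← res_comp, ← Category.assoc (q l), hq, Category.assoc, l.2]

/-- The locus where a map is a trivialisation is open, given local trivialisations. -/
theorem exists_triv_open [Module.Finite Λ M] {V : X.ProEt} [IsAffine V.left] {n : ℕ} (S : Fin n → X.ProEt)
    [∀ k, IsAffine (S k).left] (g : ∀ k, S k ⟶ V) (hcov : ∀ x : V.left, ∃ k y, (g k).left y = x)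
    (hS : ∀ k, ∃ (N : Type (u + 1)) (_ : AddCommGroup N) (_ : Module Λ N) (mk : N →ₗ[Λ] G.obj.obj (op (S k))),
      IsTriv (Scheme.ProEt.topology X) G (S k) mk)
    (m : M →ₗ[Λ] G.obj.obj (op V)) {v : V.left}
    (hv : ∃ (W : X.ProEt) (f : W ⟶ V) (w : W.left), f.left w = v ∧
      IsTriv (Scheme.ProEt.topology X) G W ((res _ G f).comp m)) :
    ∃ O : V.left.Opens, IsAffineOpen O ∧ v ∈ O ∧
      IsTriv (Scheme.ProEt.topology X) G (sub V O) ((res _ G (subι V O)).comp m) := by
  haveI := hasSheafCompose_moduleCat Λ X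
  choose N _ _ mk hmk using hS
  let E : Set V.left := {v | ∃ (W : X.ProEt) (f : W ⟶ V) (w : W.left), f.left w = v ∧
      IsTriv (Scheme.ProEt.topology X) G W ((res _ G f).comp m)}
  -- near each point of a chart above `E`, the map is a trivialisation
  have key : ∀ k (y : (S k).left), (g k).left y ∈ E → ∀ O' : (S k).left.Opens, y ∈ O' →
      ∃ O : (S k).left.Opens, IsAffineOpen O ∧ y ∈ O ∧ O ≤ O' ∧
        IsTriv (Scheme.ProEt.topology X) G (sub (S k) O) ((res _ G (subι (S k) O ≫ g k)).comp m) := by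
    intro k y hy O' hyO'
    obtain ⟨s, e, he⟩ := Module.Finite.exists_fin (R := Λ) (M := M)
    choose O c hO hyO hc using fun l => exists_open_const (hmk k) (𝟙 (S k)) (res _ G (g k) (m (e l))) y
    obtain ⟨r, hr, hyr⟩ := (isAffineOpen_top (S k).left).exists_basicOpen_le
      (V := O' ⊓ Finset.univ.inf O) ⟨y, hyO', by
        rw [SetLike.mem_coe, ← SetLike.mem_coe, TopologicalSpace.Opens.coe_finset_inf]; simpa using hyO⟩ trivial
    let O₁ := (S k).left.basicOpen r
    have hle : ∀ l, O₁ ≤ O l := fun l => (hr.trans inf_le_right).trans (Finset.inf_le (Finset.mem_univ l))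
    have hex : ∀ x : M, ∃ z : N k, res _ G (subι (S k) O₁ ≫ g k) (m x) = res _ G (subι (S k) O₁) (mk k z) := by
      intro x
      have hx : x ∈ Submodule.span Λ (Set.range e) := he ▸ Submodule.mem_top
      induction hx using Submodule.span_induction with
      | mem x hx =>
        obtain ⟨l, rfl⟩ := hx
        refine ⟨c l, ?_⟩
        let j : sub (S k) O₁ ⟶ sub (S k) (O l) :=
          MorphismProperty.Over.homMk ((S k).left.homOfLE (hle l)) (by
            show (S k).left.homOfLE (hle l) ≫ (O l).ι ≫ (S k).hom = O₁.ι ≫ (S k).hom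
            rw [Scheme.homOfLE_ι_assoc]) trivial
        have hj : j ≫ subι (S k) (O l) = subι (S k) O₁ :=
          MorphismProperty.Over.Hom.ext (Scheme.homOfLE_ι _ (hle l))
        rw [← hj, Category.assoc, res_comp G j, res_comp G (subι (S k) (O l)), hc l, res_comp G j,
          Category.comp_id]
      | zero => exact ⟨0, by simp⟩
      | add a b _ _ ha hb =>
        obtain ⟨za, ha⟩ := ha
        obtain ⟨zb, hb⟩ := hb
        exact ⟨za + zb, by simp only [map_add, ha, hb]⟩
      | smul a b _ hb =>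
        obtain ⟨z, hb⟩ := hb
        exact ⟨a • z, by simp only [map_smul, hb]⟩
    choose φ hφ using hex
    have huniq : ∀ z z' : N k, res _ G (subι (S k) O₁) (mk k z) = res _ G (subι (S k) O₁) (mk k z') → z = z' :=
      fun z z' h => sub_eq_zero.1 (((hmk k).inj (subι (S k) O₁) (z - z') (by
        rw [map_sub, map_sub, h, sub_self])).resolve_right (not_bot_of_point (⟨y, hyr⟩ : O₁.toScheme)))
    let φ' : M →ₗ[Λ] N k :=
      { toFun := φ
        map_add' := fun a b => huniq _ _ (by simp only [map_add, ← hφ])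
        map_smul' := fun a b => huniq _ _ (by simp only [map_smul, RingHom.id_apply, ← hφ]) }
    have hfac : ((res _ G (subι (S k) O₁)).comp (mk k)).comp φ' = (res _ G (subι (S k) O₁ ≫ g k)).comp m :=
      LinearMap.ext fun x => (hφ x).symm
    obtain ⟨W, f, w, hw, hW⟩ := hy
    obtain ⟨P, a, b, hab, p, -, -⟩ := exists_over_pair (subι (S k) O₁ ≫ g k) f
      (s := (⟨y, hyr⟩ : O₁.toScheme)) (s' := w) hw.symm
    have hbij : Function.Bijective φ' := bijective_of_isTriv (hW.restrict b)
      (((hmk k).restrict (subι (S k) O₁)).restrict a) (not_bot_of_point p) φ' (by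
        rw [LinearMap.comp_assoc, hfac]
        ext x
        show res _ G a (res _ G (subι (S k) O₁ ≫ g k) (m x)) = res _ G b (res _ G f (m x))
        rw [← res_comp, ← res_comp, hab])
    refine ⟨O₁, (isAffineOpen_top _).basicOpen r, hyr, hr.trans inf_le_left, ?_⟩
    rw [← hfac]
    exact ((hmk k).restrict _).comp_equiv φ' hbij
  haveI : ∀ k, WeaklyEtale (g k).left := fun k => weaklyEtale_left (g k)
  have hE : IsOpen E := isQuotientMap_sigmaDesc (fun k => (S k).left) (fun k => (g k).left) hcov E fun k => by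
    rw [isOpen_iff_forall_mem_open]
    intro y hy
    obtain ⟨O, -, hyO, -, hO⟩ := key k y hy ⊤ trivial
    exact ⟨O, fun z hz => ⟨sub (S k) O, subι (S k) O ≫ g k, ⟨z, hz⟩, rfl, hO⟩, O.2, hyO⟩
  obtain ⟨r, hrE, hvr⟩ := (isAffineOpen_top V.left).exists_basicOpen_le (V := ⟨E, hE⟩) ⟨v, hv⟩ trivial
  let O := V.left.basicOpen r
  have hO : IsAffineOpen O := (isAffineOpen_top V.left).basicOpen r
  refine ⟨O, hO, hvr, ?_⟩
  haveI : IsAffine (sub V O).left := hO
  let O' : ∀ k, (S k).left.Opens := fun k => (g k).left ⁻¹ᵁ O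
  have hOa : ∀ k, IsAffineOpen (O' k) := fun k => by
    have := (isAffineOpen_top (S k).left).basicOpen ((g k).left.appTop r)
    rw [← Scheme.preimage_basicOpen_top] at this
    exact this
  choose P hPa hPy hPle hP using fun k (y : O' k) => key k y.1 (hrE y.2) (O' k) y.2
  have hfin : ∀ k, ∃ t : Finset (O' k), (O' k : Set (S k).left) ⊆ ⋃ y ∈ t, (P k y : Set (S k).left) := fun k => by
    exact (hOa k).isCompact.elim_finite_subcover (fun y => (P k y : Set (S k).left)) (fun y => (P k y).2)
      fun z hz => Set.mem_iUnion.2 ⟨⟨z, hz⟩, hPy k ⟨z, hz⟩⟩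
  choose t ht using hfin
  let κ := Σ k, {y : O' k // y ∈ t k}
  let q : ∀ c : κ, sub (S c.1) (P c.1 c.2.1) ⟶ sub V O := fun c =>
    MorphismProperty.Over.homMk ((S c.1).left.homOfLE (hPle c.1 c.2.1) ≫ ((g c.1).left ∣_ O)) (by
      show ((S c.1).left.homOfLE (hPle c.1 c.2.1) ≫ ((g c.1).left ∣_ O)) ≫ O.ι ≫ V.hom =
        (P c.1 c.2.1).ι ≫ (S c.1).hom
      rw [Category.assoc, morphismRestrict_ι_assoc, Scheme.homOfLE_ι_assoc, MorphismProperty.Over.w]) trivial
  have hq : ∀ c : κ, q c ≫ subι V O = subι (S c.1) (P c.1 c.2.1) ≫ g c.1 := fun c => by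
    refine MorphismProperty.Over.Hom.ext ?_
    show ((S c.1).left.homOfLE (hPle c.1 c.2.1) ≫ ((g c.1).left ∣_ O)) ≫ O.ι = (P c.1 c.2.1).ι ≫ (g c.1).left
    rw [Category.assoc, morphismRestrict_ι, Scheme.homOfLE_ι_assoc]
  haveI : ∀ k, Finite {y : O' k // y ∈ t k} := fun k => (t k).finite_toSet.to_subtype
  haveI : Finite κ := Finite.instSigma
  refine IsTriv.of_sieve (ofArrows_mem_of_affine_finite (fun c : κ => sub (S c.1) (P c.1 c.2.1))
    (fun c => hPa c.1 c.2.1) q fun x => ?_) ?_
  · obtain ⟨k, y, hy⟩ := hcov x.1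
    have hyO : y ∈ O' k := show (g k).left y ∈ O from hy ▸ x.2
    obtain ⟨z, hz, hyz⟩ := Set.mem_iUnion₂.1 (ht k hyO)
    refine ⟨⟨k, z, hz⟩, ⟨y, hyz⟩, Subtype.ext ?_⟩
    exact (congr($(congrArg (fun φ : _ ⟶ V => φ.left) (hq ⟨k, z, hz⟩)).base ⟨y, hyz⟩)).trans hy
  · rintro Y h ⟨_, a, _, ⟨c⟩, rfl⟩
    have : (res _ G (a ≫ q c)).comp ((res _ G (subι V O)).comp m) =
        (res _ G a).comp ((res _ G (subι (S c.1) (P c.1 c.2.1) ≫ g c.1)).comp m) := by
      ext x
      show res _ G (a ≫ q c) (res _ G (subι V O) (m x)) = res _ G a (res _ G _ (m x))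
      rw [res_comp, ← res_comp G (q c), hq]
    rw [this]
    exact (hP c.1 c.2.1).restrict a

end GrothLib.ProEtS
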