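import Groth.Agent.Lib.ProEtS.TrivP
import Groth.Agent.Lib.EtSite.IntegralAlg
import Groth.Agent.Lib.IndEt.HullTensor

/-!
# Spreading out trivialisations from strictly henselian points
-/

set_option autoImplicit false
set_option linter.style.haveILetI false
set_option backward.isDefEq.respectTransparency.types false
set_option synthInstance.maxHeartbeats 200000
set_option maxHeartbeats 1000000

universe u

open CategoryTheory CategoryTheory.Limits AlgebraicGeometry Opposite TensorProduct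

noncomputable section

namespace GrothLib.ProEtS

open TrivMod

section Stage

open GrothLib.Hensel (Hull)

variable {A Ω : Type u} [CommRing A] [CommRing Ω] [Algebra A Ω] (R : Type u) [CommRing R] [Algebra A R]

/-- The map between stages. -/
abbrev stageHom {N M : Hensel.Nbhd A Ω} (f : N ⟶ M) : N.Ring ⊗[A] R →ₐ[A] M.Ring ⊗[A] R :=
  Algebra.TensorProduct.map f.map (AlgHom.id A R)

/-- The map to the limit. -/
abbrev limHom (N : Hensel.Nbhd A Ω) : N.Ring ⊗[A] R →ₐ[A] Hull A Ω ⊗[A] R :=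
  Algebra.TensorProduct.map (Hull.ι N) (AlgHom.id A R)

theorem stageHom_limHom {N M : Hensel.Nbhd A Ω} (f : N ⟶ M) : (limHom R M).comp (stageHom R f) = limHom R N := by
  refine Algebra.TensorProduct.ext' fun a b => ?_
  show Hull.ι M (f.map a) ⊗ₜ[A] b = Hull.ι N a ⊗ₜ[A] b
  rw [Hensel.Hull.ι_map]

theorem stageHom_comp {N M L : Hensel.Nbhd A Ω} (f : N ⟶ M) (g : M ⟶ L) :
    (stageHom R g).comp (stageHom R f) = stageHom R (f ≫ g) :=
  Algebra.TensorProduct.ext' fun _ _ => rfl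

theorem exists_stage_family {σ : Type*} [Finite σ] (z : σ → Hull A Ω ⊗[A] R) :
    ∃ (N : Hensel.Nbhd A Ω) (y : σ → N.Ring ⊗[A] R), ∀ i, limHom R N (y i) = z i := by
  classical
  have h1 : ∀ i, ∃ (N : Hensel.Nbhd A Ω) (y : N.Ring ⊗[A] R), limHom R N y = z i := fun i => by
    obtain ⟨N, y, hy⟩ := EtSite.exists_stage_tensor (Algebra.TensorProduct.comm A _ _ (z i))
    refine ⟨N, Algebra.TensorProduct.comm A _ _ y, ?_⟩
    have : ∀ w : R ⊗[A] N.Ring, limHom R N (Algebra.TensorProduct.comm A _ _ w) =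
        Algebra.TensorProduct.comm A _ _ ((Hull.ι N).toLinearMap.lTensor R w) := fun w => by
      induction w with
      | zero => simp
      | tmul a b => simp
      | add a b ha hb => simp only [map_add, ha, hb]
    rw [this, hy]
    exact (Algebra.TensorProduct.comm A (Hull A Ω) R).symm_apply_apply (z i)
  choose N y hy using h1
  haveI := Fintype.ofFinite σ
  obtain ⟨K, hK⟩ := IsFiltered.sup_objs_exists (Finset.univ.image N)
  let f : ∀ i, N i ⟶ K := fun i => (hK (by simp)).some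
  exact ⟨K, fun i => stageHom R (f i) (y i), fun i =>
    (AlgHom.congr_fun (stageHom_limHom R (f i)) (y i)).trans (hy i)⟩

theorem exists_stage_zero {N : Hensel.Nbhd A Ω} {σ : Type*} [Finite σ] (z : σ → N.Ring ⊗[A] R)
    (hz : ∀ i, limHom R N (z i) = 0) : ∃ (M : Hensel.Nbhd A Ω) (f : N ⟶ M), ∀ i, stageHom R f (z i) = 0 := by
  classical
  have h1 : ∀ (L : Hensel.Nbhd A Ω) (w : L.Ring ⊗[A] R), limHom R L w = 0 →
      ∃ (M : Hensel.Nbhd A Ω) (f : L ⟶ M), stageHom R f w = 0 := fun L w hw => by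
    have hc : ∀ (S T : Type u) [CommRing S] [CommRing T] [Algebra A S] [Algebra A T] (φ : S →ₐ[A] T)
        (w : S ⊗[A] R), φ.toLinearMap.lTensor R (Algebra.TensorProduct.comm A _ _ w) =
          Algebra.TensorProduct.comm A _ _ (Algebra.TensorProduct.map φ (AlgHom.id A R) w) := by
      intro S T _ _ _ _ φ w
      induction w with
      | zero => simp
      | tmul a b => simp
      | add a b ha hb => simp only [map_add, ha, hb]
    obtain ⟨M, f, hf⟩ := EtSite.exists_stage_tensor_eq_zero (Algebra.TensorProduct.comm A _ _ w)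
      (by rw [hc, show Algebra.TensorProduct.map (Hull.ι L) (AlgHom.id A R) w = 0 from hw, map_zero])
    rw [hc, map_eq_zero_iff _ (AlgEquiv.injective _)] at hf
    exact ⟨M, f, hf⟩
  haveI := Fintype.ofFinite σ
  suffices ∀ s : Finset σ, ∃ (M : Hensel.Nbhd A Ω) (f : N ⟶ M), ∀ i ∈ s, stageHom R f (z i) = 0 by
    obtain ⟨M, f, h⟩ := this Finset.univ
    exact ⟨M, f, fun i => h i (Finset.mem_univ i)⟩
  intro s
  induction s using Finset.induction with
  | empty => exact ⟨N, 𝟙 N, by simp⟩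
  | @insert a s _ ih =>
    obtain ⟨M, f, hf⟩ := ih
    obtain ⟨L, g, hg⟩ := h1 M (stageHom R f (z a)) (by rw [← AlgHom.comp_apply, stageHom_limHom, hz])
    refine ⟨L, f ≫ g, fun i hi => ?_⟩
    rw [← stageHom_comp, AlgHom.comp_apply]
    rcases Finset.mem_insert.1 hi with rfl | hi
    · exact hg
    · rw [hf i hi, map_zero]

theorem limHom_one (N : Hensel.Nbhd A Ω) : limHom R N (1 : N.Ring ⊗[A] R) = 1 :=
  (limHom R N).toRingHom.map_one

theorem stageHom_one {N M : Hensel.Nbhd A Ω} (f : N ⟶ M) : stageHom R f (1 : N.Ring ⊗[A] R) = 1 :=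
  (stageHom R f).toRingHom.map_one

theorem exists_stage_one {N : Hensel.Nbhd A Ω} (x : N.Ring ⊗[A] R) (hx : limHom R N x = 1) :
    ∃ (M : Hensel.Nbhd A Ω) (f : N ⟶ M), stageHom R f x = 1 := by
  obtain ⟨M, f, hf⟩ := exists_stage_zero R (σ := Unit) (fun _ => x - 1) fun _ => by
    rw [map_sub, hx, limHom_one, sub_self]
  exact ⟨M, f, sub_eq_zero.1 (by rw [← stageHom_one R f, ← map_sub]; exact hf ())⟩

theorem exists_stage_idem {n : ℕ} (e : Fin n → Hull A Ω ⊗[A] R) (he : ∀ i, IsIdempotentElem (e i))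
    (horth : ∀ i j, i ≠ j → e i * e j = 0) (hsum : ∑ i, e i = 1) :
    ∃ (N : Hensel.Nbhd A Ω) (y : Fin n → N.Ring ⊗[A] R), (∀ i, limHom R N (y i) = e i) ∧
      (∀ i j, i ≠ j → y i * y j = 0) ∧ ∑ i, y i = 1 := by
  classical
  obtain ⟨N₀, y, hy⟩ := exists_stage_family R e
  obtain ⟨N, f, hf⟩ := exists_stage_zero R (N := N₀)
    (Sum.elim (fun p : Fin n × Fin n => if p.1 = p.2 then y p.1 * y p.1 - y p.1 else y p.1 * y p.2)
      (fun _ : Unit => (∑ i, y i) - 1)) (by
    rintro (⟨i, j⟩ | _)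
    · simp only [Sum.elim_inl]
      split
      · rw [map_sub, map_mul, hy, (he i).eq, sub_self]
      · rw [map_mul, hy, hy, horth i j ‹_›]
    · simp only [Sum.elim_inr, map_sub, map_sum, hy, hsum, limHom_one, sub_self])
  refine ⟨N, fun i => stageHom R f (y i),
    fun i => (AlgHom.congr_fun (stageHom_limHom R f) (y i)).trans (hy i), fun i j hij => ?_, ?_⟩
  · have := hf (.inl (i, j))
    simp only [Sum.elim_inl, if_neg hij, map_mul] at this
    exact this
  · have := hf (.inr ())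
    simp only [Sum.elim_inr, map_sub, map_sum, stageHom_one, sub_eq_zero] at this
    exact this

theorem lim_map_one {N : Hensel.Nbhd A Ω} {x : N.Ring ⊗[A] R} (hx : IsIdempotentElem x) (hu : IsUnit (limHom R N x)) :
    limHom R N x = 1 :=
  (IsIdempotentElem.iff_eq_one_of_isUnit hu).1 (hx.map (limHom R N))

end Stage

variable {X : Scheme.{u}} {U : X.Opens} (hU : IsAffineOpen U)

/-- The object of a weakly étale algebra over the sections of an affine open. -/
def objA (R : Type u) [CommRing R] [Algebra Γ(X, U) R] [Algebra.WeaklyEtale Γ(X, U) R] : X.ProEt :=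
  haveI : WeaklyEtale (Spec.map (CommRingCat.ofHom (algebraMap Γ(X, U) R))) :=
    WeakEtale.algebra_iff_specMap.2 ‹_›
  Scheme.ProEt.mk (Spec.map (CommRingCat.ofHom (algebraMap Γ(X, U) R)) ≫ hU.fromSpec)

variable {R R' R'' : Type u} [CommRing R] [Algebra Γ(X, U) R] [Algebra.WeaklyEtale Γ(X, U) R]
  [CommRing R'] [Algebra Γ(X, U) R'] [Algebra.WeaklyEtale Γ(X, U) R']
  [CommRing R''] [Algebra Γ(X, U) R''] [Algebra.WeaklyEtale Γ(X, U) R'']

instance : IsAffine (objA hU R).left := inferInstanceAs (IsAffine (Spec (CommRingCat.of R)))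

/-- The morphism of an algebra map. -/
def morA (l : R →ₐ[Γ(X, U)] R') : objA hU R' ⟶ objA hU R :=
  MorphismProperty.Over.homMk (Spec.map (CommRingCat.ofHom l.toRingHom)) (by
    show Spec.map (CommRingCat.ofHom l.toRingHom) ≫ Spec.map (CommRingCat.ofHom (algebraMap _ R)) ≫ hU.fromSpec =
      Spec.map (CommRingCat.ofHom (algebraMap _ R')) ≫ hU.fromSpec
    rw [← Spec.map_comp_assoc]
    congr 2
    ext x
    exact l.commutes x) trivial

theorem morA_comp (l : R →ₐ[Γ(X, U)] R') (l' : R' →ₐ[Γ(X, U)] R'') :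
    morA hU l' ≫ morA hU l = morA hU (l'.comp l) :=
  MorphismProperty.Over.Hom.ext ((Spec.map_comp _ _).symm.trans rfl)

variable {Λ : Type (u + 1)} [CommRing Λ] {G : EtModW.ModP Λ X}

variable {Ω : Type u} [CommRing Ω] [Algebra Γ(X, U) Ω]

instance (N : Hensel.Nbhd Γ(X, U) Ω) : Algebra.WeaklyEtale Γ(X, U) N.Ring :=
  haveI := N.etale; inferInstance

instance weaklyEtale_hull : Algebra.WeaklyEtale Γ(X, U) (Hensel.Hull Γ(X, U) Ω) :=
  IndEt.weaklyEtale (Hensel.Hull.isIndEtale _ _)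

instance weaklyEtale_tensor : Algebra.WeaklyEtale Γ(X, U) (R ⊗[Γ(X, U)] R') :=
  Algebra.WeaklyEtale.trans Γ(X, U) R _

variable (R) in
/-- The morphism of stages. -/
abbrev stageMor {N L : Hensel.Nbhd Γ(X, U) Ω} (f : N ⟶ L) :
    objA hU (L.Ring ⊗[Γ(X, U)] R) ⟶ objA hU (N.Ring ⊗[Γ(X, U)] R) :=
  morA hU (R := N.Ring ⊗[Γ(X, U)] R) (R' := L.Ring ⊗[Γ(X, U)] R) (stageHom R f)

variable (R) in
/-- The morphism from the limit. -/
abbrev limMor (N : Hensel.Nbhd Γ(X, U) Ω) :
    objA hU (Hensel.Hull Γ(X, U) Ω ⊗[Γ(X, U)] R) ⟶ objA hU (N.Ring ⊗[Γ(X, U)] R) :=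
  morA hU (R := N.Ring ⊗[Γ(X, U)] R) (R' := Hensel.Hull Γ(X, U) Ω ⊗[Γ(X, U)] R) (limHom R N)

variable (R) in
/-- The projection to the second factor. -/
abbrev inMor (S : Type u) [CommRing S] [Algebra Γ(X, U) S] [Algebra.WeaklyEtale Γ(X, U) S] :
    objA hU (S ⊗[Γ(X, U)] R) ⟶ objA hU R :=
  morA hU (R := R) (R' := S ⊗[Γ(X, U)] R) Algebra.TensorProduct.includeRight

variable {M : Type (u + 1)} [AddCommGroup M] [Module Λ M]

/-- The colimit property, injectivity. -/
theorem exists_stage_res_eq_zero {m : M →ₗ[Λ] G.obj.obj (op (objA hU R))}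
    (hm : IsTriv (Scheme.ProEt.topology X) G (objA hU R) m) {N : Hensel.Nbhd Γ(X, U) Ω}
    (d : G.obj.obj (op (objA hU (N.Ring ⊗[Γ(X, U)] R))))
    (hd : res _ G (limMor hU R N) d = 0) :
    ∃ (L : Hensel.Nbhd Γ(X, U) Ω) (f : N ⟶ L), res _ G (stageMor hU R f) d = 0 := by
  haveI := hasSheafCompose_moduleCat Λ X
  let W := objA hU (N.Ring ⊗[Γ(X, U)] R)
  let b : W ⟶ objA hU R := inMor hU R _
  choose O c hO hyO hc using exists_open_const hm b d
  have hwd : ∀ y y' z, z ∈ O y → z ∈ O y' → c y = c y' := fun y y' z hz hz' => by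
    let P := sub W (O y ⊓ O y')
    let j : P ⟶ sub W (O y) := MorphismProperty.Over.homMk (W.left.homOfLE (inf_le_left : O y ⊓ O y' ≤ O y))
      (Scheme.homOfLE_ι_assoc _ _ _) trivial
    let j' : P ⟶ sub W (O y') := MorphismProperty.Over.homMk (W.left.homOfLE (inf_le_right : O y ⊓ O y' ≤ O y'))
      (Scheme.homOfLE_ι_assoc _ _ _) trivial
    have hj : j ≫ subι W (O y) = subι W (O y ⊓ O y') :=
      MorphismProperty.Over.Hom.ext (Scheme.homOfLE_ι _ (inf_le_left : O y ⊓ O y' ≤ O y))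
    have hj' : j' ≫ subι W (O y') = subι W (O y ⊓ O y') :=
      MorphismProperty.Over.Hom.ext (Scheme.homOfLE_ι _ (inf_le_right : O y ⊓ O y' ≤ O y'))
    refine sub_eq_zero.1 ((hm.inj (subι W (O y ⊓ O y') ≫ b) (c y - c y') ?_).resolve_right
      (not_bot_of_point (⟨z, hz, hz'⟩ : (O y ⊓ O y').toScheme)))
    rw [map_sub, map_sub, sub_eq_zero]
    conv_lhs => rw [← hj, Category.assoc, res_comp G j, ← hc y, ← res_comp, hj, ← hj', res_comp, hc y', ← res_comp]
    rw [← Category.assoc, hj']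
  let Y : W.left.Opens := ⨆ y ∈ {y | c y = 0}, O y
  have hYc : ∀ z, z ∈ Y ↔ c z = 0 := fun z => by
    simp only [Y, TopologicalSpace.Opens.mem_iSup, exists_prop]
    exact ⟨fun ⟨y, hy, hz⟩ => (hwd z y z (hyO z) hz).trans hy, fun h => ⟨z, h, hyO z⟩⟩
  have hclop : IsClopen (Y : Set W.left) := by
    refine ⟨⟨?_⟩, Y.2⟩
    rw [isOpen_iff_forall_mem_open]
    intro z hz
    exact ⟨O z, fun z' hz' h => hz ((hYc z).2 ((hwd z z' z' hz' (hyO z')).trans ((hYc z').1 h))), (O z).2, hyO z⟩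
  obtain ⟨e, he, hYe⟩ := (PrimeSpectrum.isClopen_iff (R := N.Ring ⊗[Γ(X, U)] R)).1 hclop
  -- the limit lands in the zero locus
  have hlim : limHom R N e = 1 := by
    refine lim_map_one R he ?_
    by_contra hu
    obtain ⟨P, hP, heP⟩ := exists_max_ideal_of_mem_nonunits hu
    let q : (objA hU (Hensel.Hull Γ(X, U) Ω ⊗[Γ(X, U)] R)).left := ⟨P, hP.isPrime⟩
    let y : W.left := (limMor hU R N).left q
    have hyY : y ∉ Y := fun h => by
      have : y ∈ (PrimeSpectrum.basicOpen e : Set (PrimeSpectrum (N.Ring ⊗[Γ(X, U)] R))) := hYe.le h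
      exact this heP
    refine hyY ((hYc y).2 ?_)
    obtain ⟨P', a, a', haa, p, -, -⟩ := exists_over_pair (limMor hU R N) (subι W (O y))
      (s := q) (s' := (⟨y, hyO y⟩ : (O y).toScheme)) rfl
    refine (hm.inj (a' ≫ subι W (O y) ≫ b) (c y) ?_).resolve_right (not_bot_of_point p)
    rw [res_comp G a', ← hc, ← res_comp, ← haa, res_comp, hd, map_zero]
  obtain ⟨L, f, hfe⟩ := exists_stage_one R e hlim
  refine ⟨L, f, ?_⟩
  have hrange : ∀ z, (stageMor hU R f).left z ∈ Y := fun z => by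
    refine hYe.ge ?_
    show stageHom R f e ∉ z.asIdeal
    rw [hfe]
    exact fun h => z.isPrime.ne_top ((Ideal.eq_top_iff_one _).2 h)
  -- so the section dies
  let W' := objA hU (L.Ring ⊗[Γ(X, U)] R)
  let g : W' ⟶ W := stageMor hU R f
  have hzero : ∀ y, c y = 0 → res _ G (subι W (O y)) d = 0 := fun y h => by
    rw [hc y, h, map_zero, map_zero]
  have hQ0 : ∀ z : W'.left, ∃ Q : W'.left.Opens, IsAffineOpen Q ∧ z ∈ Q ∧ Q ≤ g.left ⁻¹ᵁ O (g.left z) := fun z => by
    obtain ⟨r, hr, hzr⟩ := (isAffineOpen_top W'.left).exists_basicOpen_le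
      (V := g.left ⁻¹ᵁ O (g.left z)) ⟨z, hyO _⟩ trivial
    exact ⟨W'.left.basicOpen r, (isAffineOpen_top _).basicOpen r, hzr, hr⟩
  choose Q hQ hzQ hQle using hQ0
  refine res_ext G (ofArrows_mem_of_isOpenMap (fun z : W'.left => sub W' (Q z)) (fun z => subι W' (Q z))
    (fun z => (Q z).ι.isOpenEmbedding.isOpenMap) fun z => ⟨z, ⟨z, hzQ z⟩, rfl⟩) ?_
  rintro Y' h ⟨_, a, _, ⟨z⟩, rfl⟩
  let q : sub W' (Q z) ⟶ sub W (O (g.left z)) := MorphismProperty.Over.homMk
    (W'.left.homOfLE (hQle z) ≫ (g.left ∣_ O (g.left z))) (by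
      show (W'.left.homOfLE (hQle z) ≫ (g.left ∣_ O (g.left z))) ≫ (O (g.left z)).ι ≫ W.hom = (Q z).ι ≫ W'.hom
      rw [Category.assoc, morphismRestrict_ι_assoc, Scheme.homOfLE_ι_assoc, MorphismProperty.Over.w]) trivial
  have hq : q ≫ subι W (O (g.left z)) = subι W' (Q z) ≫ g := MorphismProperty.Over.Hom.ext (by
    show (W'.left.homOfLE (hQle z) ≫ (g.left ∣_ O (g.left z))) ≫ (O (g.left z)).ι = (Q z).ι ≫ g.left
    rw [Category.assoc, morphismRestrict_ι, Scheme.homOfLE_ι_assoc])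
  rw [map_zero, res_comp, ← res_comp G (subι W' (Q z)), ← hq, res_comp G q,
    hzero _ ((hYc _).1 (hrange z)), map_zero, map_zero]

/-- The colimit property, surjectivity. -/
theorem exists_stage_res_eq {m : M →ₗ[Λ] G.obj.obj (op (objA hU R))}
    (hm : IsTriv (Scheme.ProEt.topology X) G (objA hU R) m)
    (d : G.obj.obj (op (objA hU (Hensel.Hull Γ(X, U) Ω ⊗[Γ(X, U)] R)))) :
    ∃ (N : Hensel.Nbhd Γ(X, U) Ω) (s : G.obj.obj (op (objA hU (N.Ring ⊗[Γ(X, U)] R)))),
      res _ G (limMor hU R N) s = d := by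
  classical
  haveI := hasSheafCompose_moduleCat Λ X
  let T := Hensel.Hull Γ(X, U) Ω ⊗[Γ(X, U)] R
  let W := objA hU T
  let b : W ⟶ objA hU R := inMor hU R _
  choose O c hO hyO hc using exists_open_const hm b d
  obtain ⟨t, ht⟩ := isCompact_univ.elim_finite_subcover (fun y => (O y : Set W.left)) (fun y => (O y).2)
    fun y _ => Set.mem_iUnion.2 ⟨y, hyO y⟩
  have hwd : ∀ y y' z, z ∈ O y → z ∈ O y' → c y = c y' := fun y y' z hz hz' => by
    let P := sub W (O y ⊓ O y')
    let j : P ⟶ sub W (O y) := MorphismProperty.Over.homMk (W.left.homOfLE (inf_le_left : O y ⊓ O y' ≤ O y))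
      (Scheme.homOfLE_ι_assoc _ _ _) trivial
    let j' : P ⟶ sub W (O y') := MorphismProperty.Over.homMk (W.left.homOfLE (inf_le_right : O y ⊓ O y' ≤ O y'))
      (Scheme.homOfLE_ι_assoc _ _ _) trivial
    have hj : j ≫ subι W (O y) = subι W (O y ⊓ O y') :=
      MorphismProperty.Over.Hom.ext (Scheme.homOfLE_ι _ (inf_le_left : O y ⊓ O y' ≤ O y))
    have hj' : j' ≫ subι W (O y') = subι W (O y ⊓ O y') :=
      MorphismProperty.Over.Hom.ext (Scheme.homOfLE_ι _ (inf_le_right : O y ⊓ O y' ≤ O y'))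
    refine sub_eq_zero.1 ((hm.inj (subι W (O y ⊓ O y') ≫ b) (c y - c y') ?_).resolve_right
      (not_bot_of_point (⟨z, hz, hz'⟩ : (O y ⊓ O y').toScheme)))
    rw [map_sub, map_sub, sub_eq_zero]
    conv_lhs => rw [← hj, Category.assoc, res_comp G j, ← hc y, ← res_comp, hj, ← hj', res_comp, hc y', ← res_comp]
    rw [← Category.assoc, hj']
  obtain ⟨n, v, hv⟩ : ∃ (n : ℕ) (v : Fin n → M), Function.Injective v ∧ ∀ z, ∃ i, v i = c z := by
    refine ⟨(t.image c).card, fun i => ((t.image c).equivFin.symm i).1,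
      Subtype.val_injective.comp (Equiv.injective _), fun z => ?_⟩
    obtain ⟨y, hy, hz⟩ := Set.mem_iUnion₂.1 (ht (Set.mem_univ z))
    exact ⟨(t.image c).equivFin ⟨c z, Finset.mem_image.2 ⟨y, hy, hwd y z z hz (hyO z)⟩⟩, by simp⟩
  let Y : Fin n → Set W.left := fun i => {z | c z = v i}
  have hYo : ∀ i, IsOpen (Y i) := fun i => isOpen_iff_forall_mem_open.2 fun z hz =>
    ⟨O z, fun z' hz' => (hwd z' z z' (hyO z') hz').trans hz, (O z).2, hyO z⟩
  have hYc : ∀ i, IsClopen (Y i) := fun i => by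
    refine ⟨⟨isOpen_iff_forall_mem_open.2 fun z hz => ?_⟩, hYo i⟩
    exact ⟨O z, fun z' hz' h => hz ((hwd z z' z' hz' (hyO z')).trans h), (O z).2, hyO z⟩
  choose e he hYe using fun i => (PrimeSpectrum.isClopen_iff (R := T)).1 (hYc i)
  have hmem : ∀ i z, c z = v i ↔ e i ∉ z.asIdeal := fun i z => Set.ext_iff.1 (hYe i) z
  have horth : ∀ i j, i ≠ j → e i * e j = 0 := fun i j hij => by
    refine ((he i).mul (he j)).eq_zero_of_isNilpotent ?_
    rw [nilpotent_iff_mem_prime]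
    intro P hP
    by_contra h
    have h1 := (hmem i ⟨P, hP⟩).2 fun h' => h (P.mul_mem_right _ h')
    have h2 := (hmem j ⟨P, hP⟩).2 fun h' => h (P.mul_mem_left _ h')
    exact hij (hv.1 (h1.symm.trans h2))
  have hsum : ∑ i, e i = 1 := by
    have hi : IsIdempotentElem (∑ i, e i) :=
      (OrthogonalIdempotents.mk he fun i j hij => horth i j hij).isIdempotentElem_sum
    refine (IsIdempotentElem.iff_eq_one_of_isUnit ?_).1 hi
    by_contra hu
    obtain ⟨P, hP, heP⟩ := exists_max_ideal_of_mem_nonunits hu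
    obtain ⟨i, hi'⟩ := hv.2 ⟨P, hP.isPrime⟩
    refine (hmem i ⟨P, hP.isPrime⟩).1 hi'.symm ?_
    have : e i * ∑ j, e j = e i := by
      rw [Finset.mul_sum, Finset.sum_eq_single i (fun j _ hji => horth i j hji.symm) (by simp)]
      exact he i
    rw [← this]
    exact P.mul_mem_left _ heP
  obtain ⟨N, y', hy', ho', hs'⟩ := exists_stage_idem R e he horth hsum
  let V := objA hU (N.Ring ⊗[Γ(X, U)] R)
  let Z : Fin n → V.left.Opens := fun i => PrimeSpectrum.basicOpen (y' i)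
  haveI : ∀ i, IsOpenImmersion (subι V (Z i)).left := fun i => inferInstanceAs (IsOpenImmersion (Z i).ι)
  have hd' : ∀ i j, i ≠ j → Disjoint (Set.range (subι V (Z i)).left) (Set.range (subι V (Z j)).left) := fun i j hij => by
    show Disjoint (Set.range (Z i).ι) (Set.range (Z j).ι)
    rw [Scheme.Opens.range_ι, Scheme.Opens.range_ι, Set.disjoint_left]
    intro p hp hp'
    exact (p.isPrime.mem_or_mem (show y' i * y' j ∈ p.asIdeal by rw [ho' i j hij]; exact zero_mem _)).elim hp hp'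
  have hcov : ∀ p : V.left, ∃ i x, (subι V (Z i)).left x = p := fun p => by
    by_contra h
    push Not at h
    refine p.isPrime.ne_top ((Ideal.eq_top_iff_one _).2 (hs' ▸ Ideal.sum_mem _ fun i _ => ?_))
    by_contra hi
    exact h i ⟨p, hi⟩ rfl
  let b' : V ⟶ objA hU R := inMor hU R _
  obtain ⟨s, hs⟩ := (bijective_pi_sheaf ((sheafCompose _ (forget (ModuleCat.{u + 1} Λ))).obj G)
    (fun i => sub V (Z i)) (fun i => subι V (Z i)) hd' hcov).2 fun i => res _ G (subι V (Z i) ≫ b') (m (v i))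
  have hs : ∀ i, res _ G (subι V (Z i)) s = res _ G (subι V (Z i) ≫ b') (m (v i)) := fun i => congrFun hs i
  refine ⟨N, s, ?_⟩
  let g : W ⟶ V := limMor hU R N
  have hgb : g ≫ b' = b := by
    simp only [g, b', b, limMor, inMor]
    rw [morA_comp]
    exact congrArg (morA hU) (AlgHom.ext fun r => by simp)
  refine res_ext G (ofArrows_mem_of_isOpenMap (fun z : W.left => sub W (O z)) (fun z => subι W (O z))
    (fun z => (O z).ι.isOpenEmbedding.isOpenMap) fun z => ⟨z, ⟨z, hyO z⟩, rfl⟩) ?_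
  rintro Y' h ⟨_, a, _, ⟨z⟩, rfl⟩
  obtain ⟨i, hi⟩ := hv.2 z
  have hmaps : O z ≤ g.left ⁻¹ᵁ Z i := fun z' hz' => by
    show limHom R N (y' i) ∉ z'.asIdeal
    rw [hy']
    exact (hmem i z').1 ((hwd z' z z' (hyO z') hz').trans hi.symm)
  let q : sub W (O z) ⟶ sub V (Z i) := MorphismProperty.Over.homMk
    (W.left.homOfLE hmaps ≫ (g.left ∣_ Z i)) (by
      show (W.left.homOfLE hmaps ≫ (g.left ∣_ Z i)) ≫ (Z i).ι ≫ V.hom = (O z).ι ≫ W.hom
      rw [Category.assoc, morphismRestrict_ι_assoc, Scheme.homOfLE_ι_assoc, MorphismProperty.Over.w]) trivial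
  have hq : q ≫ subι V (Z i) = subι W (O z) ≫ g := MorphismProperty.Over.Hom.ext (by
    show (W.left.homOfLE hmaps ≫ (g.left ∣_ Z i)) ≫ (Z i).ι = (O z).ι ≫ g.left
    rw [Category.assoc, morphismRestrict_ι, Scheme.homOfLE_ι_assoc])
  rw [res_comp G a, res_comp G a, ← res_comp G (subι W (O z)), ← hq, res_comp G q, hs i, ← res_comp G q,
    ← Category.assoc, hq, Category.assoc, hgb, hc z, hi]

end GrothLib.ProEtS
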