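import Groth.Agent.Lib.ProEtS.Recollement
import Groth.Agent.Lib.IndEt.HullTensor
import Groth.Agent.S0778
import Mathlib.CategoryTheory.Sites.DenseSubsite.SheafEquiv
import Mathlib.AlgebraicGeometry.Morphisms.UniversallyInjective
import Mathlib.AlgebraicGeometry.Morphisms.Integral

/-!
# The pro-étale site along a universal homeomorphism

For `i : Z ⟶ X` integral, universally injective and surjective, base change exhibits the small
pro-étale site of `X` as a dense subsite of that of `Z`.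
-/

set_option autoImplicit false
set_option linter.style.haveILetI false
set_option backward.isDefEq.respectTransparency.types false

universe u

open CategoryTheory CategoryTheory.Limits AlgebraicGeometry Opposite TensorProduct

noncomputable section

namespace GrothLib.ProEtS

variable {X Z : Scheme.{u}} (i : Z ⟶ X)

theorem bcP_map_fst {T V : X.ProEt} (l : T ⟶ V) :
    ((ProEtS.bcP i).map l).left ≫ pullback.fst V.hom i = pullback.fst T.hom i ≫ l.left :=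
  pullback.lift_fst _ _ _

/-- The square of an affine open and its preimage. -/
theorem isPullback_preimage [IsAffineHom i] {U : X.Opens} (hU : IsAffineOpen U) :
    IsPullback (Spec.map (i.app U)) (hU.preimage i).fromSpec hU.fromSpec i := by
  refine IsOpenImmersion.isPullback _ _ _ _ ?_ ?_
  · rw [Scheme.Hom.app_eq_appLE, IsAffineOpen.SpecMap_appLE_fromSpec i hU (hU.preimage i) le_rfl]
  · rw [IsAffineOpen.opensRange_fromSpec, IsAffineOpen.opensRange_fromSpec]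

variable [IsIntegralHom i] [UniversallyInjective i]

theorem ui_app {U : X.Opens} (hU : IsAffineOpen U) :
    letI := (i.app U).hom.toAlgebra
    Algebra.IsIntegral Γ(X, U) Γ(Z, i ⁻¹ᵁ U) ∧ HullTensor.UI Γ(X, U) Γ(Z, i ⁻¹ᵁ U) := by
  letI := (i.app U).hom.toAlgebra
  refine ⟨⟨IsIntegralHom.isIntegral_app i U hU⟩, fun H _ _ => ?_⟩
  have h1 : UniversallyInjective (Spec.map (i.app U)) :=
    MorphismProperty.of_isPullback (P := @UniversallyInjective) (isPullback_preimage i hU).flip ‹_›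
  have h2 := isPullback_SpecMap_of_isPushout _ _ _ _
    (CommRingCat.isPushout_tensorProduct Γ(X, U) Γ(Z, i ⁻¹ᵁ U) H)
  haveI : UniversallyInjective (Spec.map (CommRingCat.ofHom (S := Γ(Z, i ⁻¹ᵁ U) ⊗[Γ(X, U)] H)
      (Algebra.TensorProduct.includeRight : H →ₐ[Γ(X, U)] Γ(Z, i ⁻¹ᵁ U) ⊗[Γ(X, U)] H).toRingHom)) :=
    MorphismProperty.of_isPullback (P := @UniversallyInjective) h2 h1
  exact (Spec.map (CommRingCat.ofHom (S := Γ(Z, i ⁻¹ᵁ U) ⊗[Γ(X, U)] H)
      (Algebra.TensorProduct.includeRight : H →ₐ[Γ(X, U)] Γ(Z, i ⁻¹ᵁ U) ⊗[Γ(X, U)] H).toRingHom)).injective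

/-- W-contractible affines of the small site of `Z` are base changes, with a lifting property. -/
theorem exists_model (W : Z.ProEt) [IsAffine W.left] (hW : EtPBC.IsWContractible ↥Γ(W.left, ⊤))
    {U : X.Opens} (hU : IsAffineOpen U) (hWU : (⊤ : W.left.Opens) ≤ (W.hom ≫ i) ⁻¹ᵁ U) :
    ∃ (T : X.ProEt) (_ : IsAffine T.left) (e : W ≅ (ProEtS.bcP i).obj T),
      ∀ (V : X.ProEt) (a : W ⟶ (ProEtS.bcP i).obj V) (V₀ : V.left.Opens), IsAffineOpen V₀ →
        V₀ ≤ V.hom ⁻¹ᵁ U → (⊤ : W.left.Opens) ≤ (a.left ≫ pullback.fst V.hom i) ⁻¹ᵁ V₀ →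
        ∃ l : T ⟶ V, e.hom ≫ (ProEtS.bcP i).map l = a := by
  let hU' := hU.preimage i
  haveI : WeaklyEtale W.hom := W.prop
  haveI : IsAffine ((𝟭 Scheme.{u}).obj W.left) := ‹IsAffine W.left›
  let A := Γ(X, U)
  let B := Γ(Z, i ⁻¹ᵁ U)
  let C := Γ(W.left, ⊤)
  let bc : B ⟶ C := W.hom.appLE (i ⁻¹ᵁ U) ⊤ hWU
  let ac : A ⟶ C := (W.hom ≫ i).appLE U ⊤ hWU
  have habc : i.app U ≫ bc = ac := by
    simp only [bc, ac, Scheme.Hom.app_eq_appLE, Scheme.Hom.appLE_comp_appLE]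
  letI : Algebra A B := (i.app U).hom.toAlgebra
  letI : Algebra B C := bc.hom.toAlgebra
  letI : Algebra A C := ac.hom.toAlgebra
  haveI : IsScalarTower A B C := IsScalarTower.of_algebraMap_eq fun a => (congr($(habc).hom a)).symm
  haveI : Algebra.WeaklyEtale B C := (WeakEtale.weaklyEtale_specMap_iff bc).1
    ((WeakEtale.weaklyEtale_iff_appLE W.hom).1 ‹_› ⊤ (i ⁻¹ᵁ U) (isAffineOpen_top W.left) hU' hWU)
  obtain ⟨hint, hui⟩ := ui_app i hU
  haveI := hint
  obtain ⟨hwl, -, hsh⟩ := WLocal.conditions_of_hasIndEtaleRetractions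
    (WLocal.hasIndEtaleRetractions_of_isWContractible hW)
  have hψ := HullTensor.bijective_psi (A := A) B (C := C) hui hwl hsh
  let H := Hensel.Hull A C
  let φ : A ⟶ CommRingCat.of H := CommRingCat.ofHom (algebraMap A H)
  haveI : WeaklyEtale (Spec.map φ) :=
    WeakEtale.algebra_iff_specMap.2 (IndEt.weaklyEtale (Hensel.Hull.isIndEtale A C))
  let T : X.ProEt := Scheme.ProEt.mk (Spec.map φ ≫ hU.fromSpec)
  haveI hTa : IsAffine T.left := inferInstanceAs (IsAffine (Spec (CommRingCat.of H)))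
  let π : CommRingCat.of H ⟶ C := CommRingCat.ofHom (Hensel.Hull.proj (A := A) (C := C)).toRingHom
  let q : W.left ⟶ T.left := W.left.isoSpec.hom ≫ Spec.map π
  let eψ : CommRingCat.of (B ⊗[A] H) ≅ C :=
    (RingEquiv.ofBijective (HullTensor.psi (A := A) B C).toRingHom hψ).toCommRingCatIso
  have hpo : IsPushout (CommRingCat.ofHom (algebraMap A B)) φ bc π := by
    refine (CommRingCat.isPushout_tensorProduct A B H).of_iso (Iso.refl _) (Iso.refl _) (Iso.refl _) eψ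
      (by simp) (by simp [φ]) ?_ ?_
    · ext b
      show HullTensor.psi (A := A) B C (b ⊗ₜ[A] (1 : H)) = bc b
      rw [HullTensor.psi_tmul, map_one, mul_one]
      rfl
    · ext t
      show HullTensor.psi (A := A) B C ((1 : B) ⊗ₜ[A] t) = Hensel.Hull.proj t
      rw [HullTensor.psi_tmul, map_one, one_mul]
  have h1 : IsPullback (Spec.map π) (Spec.map bc) (Spec.map φ) (Spec.map (i.app U)) :=
    (isPullback_SpecMap_of_isPushout _ _ _ _ hpo).flip
  have hWhom : W.left.isoSpec.hom ≫ Spec.map bc ≫ hU'.fromSpec = W.hom := by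
    rw [IsAffineOpen.SpecMap_appLE_fromSpec W.hom hU' (isAffineOpen_top _) hWU,
      IsAffineOpen.fromSpec_top]
    exact W.left.isoSpec.hom_inv_id_assoc _
  have h3 : IsPullback q W.hom T.hom i :=
    (h1.paste_vert (isPullback_preimage i hU)).of_iso W.left.isoSpec.symm (Iso.refl _) (Iso.refl _)
      (Iso.refl _) (by simp [q]; rfl) (by
        show _ ≫ 𝟙 _ = W.left.isoSpec.inv ≫ W.hom
        rw [← hWhom, Iso.inv_hom_id_assoc, Category.comp_id]) (by simp [T]; rfl) (by simp)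
  let e : W ≅ (ProEtS.bcP i).obj T :=
    MorphismProperty.Over.isoMk h3.isoPullback h3.isoPullback_hom_snd
  refine ⟨T, hTa, e, fun V a V₀ hV₀ hle hW₀ => ?_⟩
  haveI : WeaklyEtale V.hom := V.prop
  let a₀ : W.left ⟶ V.left := a.left ≫ pullback.fst V.hom i
  have ha₀ : a₀ ≫ V.hom = W.hom ≫ i := by
    show (a.left ≫ pullback.fst V.hom i) ≫ V.hom = W.hom ≫ i
    rw [Category.assoc, ← MorphismProperty.Over.w a]
    exact (congrArg (a.left ≫ ·) pullback.condition).trans (Category.assoc _ _ _).symm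
  let E := Γ(V.left, V₀)
  let ae : A ⟶ E := V.hom.appLE U V₀ hle
  let ec : E ⟶ C := a₀.appLE V₀ ⊤ hW₀
  letI : Algebra A E := ae.hom.toAlgebra
  haveI : Algebra.WeaklyEtale A E := (WeakEtale.weaklyEtale_specMap_iff ae).1
    ((WeakEtale.weaklyEtale_iff_appLE V.hom).1 ‹_› V₀ U hV₀ hU hle)
  have haec : ae ≫ ec = ac := by
    simp only [ae, ec, ac, Scheme.Hom.appLE_comp_appLE, ha₀]
  let h : E →ₐ[A] C := { ec.hom with commutes' := fun x => congr($(haec).hom x) }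
  obtain ⟨l, hl⟩ := HullTensor.exists_lift hW h
  let lc : E ⟶ CommRingCat.of H := CommRingCat.ofHom l.toRingHom
  have hlπ : lc ≫ π = ec := by
    ext x
    exact AlgHom.congr_fun hl x
  have hw : (Spec.map lc ≫ hV₀.fromSpec) ≫ V.hom = T.hom := by
    rw [Category.assoc, ← IsAffineOpen.SpecMap_appLE_fromSpec V.hom hU hV₀ hle, ← Spec.map_comp_assoc]
    have hl' : ae ≫ lc = φ := by
      ext x
      exact l.commutes x
    rw [hl']
    rfl
  let L : T ⟶ V := MorphismProperty.Over.homMk (Spec.map lc ≫ hV₀.fromSpec) hw trivial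
  refine ⟨L, MorphismProperty.Over.Hom.ext (pullback.hom_ext ?_ ?_)⟩
  · show (h3.isoPullback.hom ≫ ((ProEtS.bcP i).map L).left) ≫ pullback.fst V.hom i = a₀
    refine (Category.assoc _ _ _).trans ((congrArg (h3.isoPullback.hom ≫ ·) (bcP_map_fst i L)).trans ?_)
    refine ((Category.assoc _ _ _).symm.trans (congrArg (· ≫ L.left) h3.isoPullback_hom_fst)).trans ?_
    show (W.left.isoSpec.hom ≫ Spec.map π) ≫ Spec.map lc ≫ hV₀.fromSpec = a₀
    rw [Category.assoc, ← Spec.map_comp_assoc, hlπ,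
      IsAffineOpen.SpecMap_appLE_fromSpec a₀ hV₀ (isAffineOpen_top _) hW₀, IsAffineOpen.fromSpec_top]
    exact W.left.isoSpec.hom_inv_id_assoc _
  · exact (MorphismProperty.Over.w (e.hom ≫ (ProEtS.bcP i).map L)).trans (MorphismProperty.Over.w a).symm

omit [IsIntegralHom i] [UniversallyInjective i] in
/-- Base change along a surjection is faithful. -/
theorem bcP_map_injective [Surjective i] [QuasiCompact i] {T V : X.ProEt} {l₁ l₂ : T ⟶ V}
    (h : (ProEtS.bcP i).map l₁ = (ProEtS.bcP i).map l₂) : l₁ = l₂ := by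
  let p := pullback.fst T.hom i
  have hp : p ≫ l₁.left = p ≫ l₂.left := by
    rw [← bcP_map_fst, ← bcP_map_fst, h]
  have hpt : ∀ x : T.left, l₁.left x = l₂.left x := fun x => by
    obtain ⟨y, rfl⟩ := p.surjective x
    exact congr($(hp).base y)
  refine MorphismProperty.Over.Hom.ext (Scheme.hom_ext_of_forall _ _ fun x => ?_)
  haveI : WeaklyEtale V.hom := V.prop
  obtain ⟨_, ⟨U, hU, rfl⟩, hxU, -⟩ :=
    X.isBasis_affineOpens.exists_subset_of_mem_open (Set.mem_univ (V.hom (l₁.left x))) isOpen_univ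
  obtain ⟨_, ⟨V₀, hV₀, rfl⟩, hxV, hle⟩ :=
    V.left.isBasis_affineOpens.exists_subset_of_mem_open hxU (V.hom ⁻¹ᵁ U).2
  obtain ⟨_, ⟨T₀, hT₀, rfl⟩, hxT, hle₁⟩ :=
    T.left.isBasis_affineOpens.exists_subset_of_mem_open hxV (l₁.left ⁻¹ᵁ V₀).2
  refine ⟨T₀, hxT, ?_⟩
  have hle₂ : T₀ ≤ l₂.left ⁻¹ᵁ V₀ := fun y hy => by
    show l₂.left y ∈ V₀
    rw [← hpt y]
    exact hle₁ hy
  let A := Γ(X, U)
  let E := Γ(V.left, V₀)
  let R := Γ(T.left, T₀)
  let ae : A ⟶ E := V.hom.appLE U V₀ hle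
  have hTU : T₀ ≤ T.hom ⁻¹ᵁ U := fun y hy => by
    show T.hom y ∈ U
    rw [← MorphismProperty.Over.w l₁]
    exact hle (hle₁ hy)
  letI : Algebra A E := ae.hom.toAlgebra
  letI : Algebra A R := (T.hom.appLE U T₀ hTU).hom.toAlgebra
  haveI : Algebra.WeaklyEtale A E := (WeakEtale.weaklyEtale_specMap_iff ae).1
    ((WeakEtale.weaklyEtale_iff_appLE V.hom).1 ‹_› V₀ U hV₀ hU hle)
  have hcomm : ∀ (l : T ⟶ V) (hl : T₀ ≤ l.left ⁻¹ᵁ V₀), ae ≫ l.left.appLE V₀ T₀ hl = T.hom.appLE U T₀ hTU := by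
    intro l hl
    simp only [ae, Scheme.Hom.appLE_comp_appLE, MorphismProperty.Over.w l]
  let r₁ : E →ₐ[A] R := { (l₁.left.appLE V₀ T₀ hle₁).hom with commutes' := fun x => congr($(hcomm l₁ hle₁).hom x) }
  let r₂ : E →ₐ[A] R := { (l₂.left.appLE V₀ T₀ hle₂).hom with commutes' := fun x => congr($(hcomm l₂ hle₂).hom x) }
  have hr : r₁ = r₂ := by
    refine HullTensor.eq_of_comp_eq (A := A) (R := R) (E := E) (S := Γ(_, p ⁻¹ᵁ T₀)) (p.app T₀).hom (fun t ht => ?_) ?_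
    · refine (Scheme.isNilpotent_iff_basicOpen_eq_bot_of_isCompact hT₀.isCompact t).2 ?_
      refine TopologicalSpace.Opens.ext (Set.eq_empty_of_forall_notMem fun y hy => ?_)
      obtain ⟨z, rfl⟩ := p.surjective y
      have hz : z ∈ p ⁻¹ᵁ T.left.basicOpen t := hy
      have hb : p ⁻¹ᵁ T.left.basicOpen t = ⊥ := (Scheme.preimage_basicOpen p t).trans
        ((congrArg (Scheme.basicOpen _) (show p.app T₀ t = 0 from ht)).trans (Scheme.basicOpen_zero _ _))
      rw [hb] at hz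
      exact hz
    · show (l₁.left.appLE V₀ T₀ hle₁ ≫ p.app T₀).hom = (l₂.left.appLE V₀ T₀ hle₂ ≫ p.app T₀).hom
      simp only [Scheme.Hom.app_eq_appLE, Scheme.Hom.appLE_comp_appLE, hp]
  have hk : l₁.left.appLE V₀ T₀ hle₁ = l₂.left.appLE V₀ T₀ hle₂ :=
    CommRingCat.hom_ext (congrArg AlgHom.toRingHom hr)
  have := IsAffineOpen.SpecMap_appLE_fromSpec l₁.left hV₀ hT₀ hle₁
  rw [hk, IsAffineOpen.SpecMap_appLE_fromSpec l₂.left hV₀ hT₀ hle₂] at this
  rw [← cancel_epi hT₀.isoSpec.inv, ← Category.assoc, ← Category.assoc, IsAffineOpen.isoSpec_inv_ι]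
  exact this.symm

/-- Morphisms into base changes lift on a covering. -/
theorem exists_lifts (W : Z.ProEt) (V₁ V₂ : X.ProEt) (a : W ⟶ (ProEtS.bcP i).obj V₁)
    (b : W ⟶ (ProEtS.bcP i).obj V₂) :
    ∃ R ∈ Scheme.ProEt.topology Z W, ∀ ⦃W' : Z.ProEt⦄ (f : W' ⟶ W), R f →
      ∃ (T : X.ProEt) (m : W' ⟶ (ProEtS.bcP i).obj T) (g : (ProEtS.bcP i).obj T ⟶ W)
        (l₁ : T ⟶ V₁) (l₂ : T ⟶ V₂), IsAffine T.left ∧ m ≫ g = f ∧
        g ≫ a = (ProEtS.bcP i).map l₁ ∧ g ≫ b = (ProEtS.bcP i).map l₂ := by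
  let R : Sieve W :=
    { arrows := fun W' f => ∃ (T : X.ProEt) (m : W' ⟶ (ProEtS.bcP i).obj T)
        (g : (ProEtS.bcP i).obj T ⟶ W) (l₁ : T ⟶ V₁) (l₂ : T ⟶ V₂), IsAffine T.left ∧ m ≫ g = f ∧
        g ≫ a = (ProEtS.bcP i).map l₁ ∧ g ≫ b = (ProEtS.bcP i).map l₂
      downward_closed := by
        rintro W' W₁ f ⟨T, m, g, l₁, l₂, h, rfl, h₁, h₂⟩ c
        exact ⟨T, c ≫ m, g, l₁, l₂, h, Category.assoc _ _ _, h₁, h₂⟩ }
  refine ⟨R, ?_, fun W' f h => h⟩
  let a₁ : W.left ⟶ V₁.left := a.left ≫ pullback.fst V₁.hom i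
  let a₂ : W.left ⟶ V₂.left := b.left ≫ pullback.fst V₂.hom i
  let P : W.left.Opens → Prop := fun O => IsAffineOpen O ∧ ∃ (U : X.Opens) (O₁ : V₁.left.Opens)
    (O₂ : V₂.left.Opens), IsAffineOpen U ∧ IsAffineOpen O₁ ∧ IsAffineOpen O₂ ∧
      O₁ ≤ V₁.hom ⁻¹ᵁ U ∧ O₂ ≤ V₂.hom ⁻¹ᵁ U ∧ O ≤ a₁ ⁻¹ᵁ O₁ ∧ O ≤ a₂ ⁻¹ᵁ O₂
  have hover : ∀ {W₀ : Z.ProEt} (V : X.ProEt) (c : W₀ ⟶ (ProEtS.bcP i).obj V),
      (c.left ≫ pullback.fst V.hom i) ≫ V.hom = W₀.hom ≫ i := fun {W₀} V c => by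
    rw [Category.assoc, ← MorphismProperty.Over.w c]
    exact (congrArg (c.left ≫ ·) pullback.condition).trans (Category.assoc _ _ _).symm
  have hP : ∀ x : W.left, ∃ O : {O // P O}, x ∈ O.1 := fun x => by
    obtain ⟨_, ⟨U, hU, rfl⟩, hxU, -⟩ :=
      X.isBasis_affineOpens.exists_subset_of_mem_open (Set.mem_univ ((W.hom ≫ i) x)) isOpen_univ
    have h₁ : a₁ x ∈ V₁.hom ⁻¹ᵁ U := by
      show (a₁ ≫ V₁.hom) x ∈ U
      rw [hover V₁ a]
      exact hxU
    have h₂ : a₂ x ∈ V₂.hom ⁻¹ᵁ U := by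
      show (a₂ ≫ V₂.hom) x ∈ U
      rw [hover V₂ b]
      exact hxU
    obtain ⟨_, ⟨O₁, hO₁, rfl⟩, hx₁, hle₁⟩ :=
      V₁.left.isBasis_affineOpens.exists_subset_of_mem_open h₁ (V₁.hom ⁻¹ᵁ U).2
    obtain ⟨_, ⟨O₂, hO₂, rfl⟩, hx₂, hle₂⟩ :=
      V₂.left.isBasis_affineOpens.exists_subset_of_mem_open h₂ (V₂.hom ⁻¹ᵁ U).2
    obtain ⟨_, ⟨O, hO, rfl⟩, hx, hle⟩ := W.left.isBasis_affineOpens.exists_subset_of_mem_open
      (show x ∈ a₁ ⁻¹ᵁ O₁ ⊓ a₂ ⁻¹ᵁ O₂ from ⟨hx₁, hx₂⟩) (a₁ ⁻¹ᵁ O₁ ⊓ a₂ ⁻¹ᵁ O₂).2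
    exact ⟨⟨O, hO, U, O₁, O₂, hU, hO₁, hO₂, hle₁, hle₂, fun y hy => (hle hy).1,
      fun y hy => (hle hy).2⟩, hx⟩
  obtain ⟨W', g, hcov, hW', hfac⟩ := exists_family_of_opens' W (fun O : {O // P O} => O.1) (fun O => O.2.1) hP
  refine GrothendieckTopology.superset_covering _ ?_ hcov
  rw [Sieve.generate_le_iff]
  rintro _ _ ⟨k⟩
  obtain ⟨-, U, O₁, O₂, hU, hO₁, hO₂, hle₁, hle₂, hk₁, hk₂⟩ := k.2
  haveI := (hW' k).1
  obtain ⟨l, hl⟩ := hfac k
  have hmem : ∀ y, (g k).left y ∈ k.1 := fun y => by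
    rw [← hl, Scheme.Hom.comp_apply]
    exact (l y).2
  have hU' : (⊤ : (W' k).left.Opens) ≤ ((W' k).hom ≫ i) ⁻¹ᵁ U := fun y _ => by
    show ((W' k).hom ≫ i) y ∈ U
    rw [← hover V₁ (g k ≫ a)]
    exact hle₁ (hk₁ (hmem y))
  obtain ⟨T, hT, e, he⟩ := exists_model i (W' k) (hW' k).2 hU hU'
  obtain ⟨l₁, h₁⟩ := he V₁ (g k ≫ a) O₁ hO₁ hle₁ fun y _ => hk₁ (hmem y)
  obtain ⟨l₂, h₂⟩ := he V₂ (g k ≫ b) O₂ hO₂ hle₂ fun y _ => hk₂ (hmem y)
  refine ⟨T, e.hom, e.inv ≫ g k, l₁, l₂, hT, e.hom_inv_id_assoc _, ?_, ?_⟩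
  · rw [Category.assoc, ← h₁, e.inv_hom_id_assoc]
  · rw [Category.assoc, ← h₂, e.inv_hom_id_assoc]

variable [Surjective i]

theorem functorPushforward_mem {T : X.ProEt} {S : Sieve T} [ProEtS.PCont i]
    (hS : S.functorPushforward (ProEtS.bcP i) ∈ Scheme.ProEt.topology Z ((ProEtS.bcP i).obj T)) :
    S ∈ Scheme.ProEt.topology X T := by
  obtain ⟨ι, O, hO, hO'⟩ : ∃ (ι : Type u) (O : ι → T.left.Opens), (∀ k, IsAffineOpen (O k)) ∧
      ∀ x, ∃ k, x ∈ O k := ⟨{O : T.left.Opens // IsAffineOpen O}, Subtype.val, fun k => k.2, fun x => by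
    obtain ⟨_, ⟨O, hO, rfl⟩, hx, -⟩ :=
      T.left.isBasis_affineOpens.exists_subset_of_mem_open (Set.mem_univ x) isOpen_univ
    exact ⟨⟨O, hO⟩, hx⟩⟩
  let T₀ : ι → X.ProEt := fun k => Scheme.ProEt.mk ((O k).ι ≫ T.hom)
  let o : ∀ k, T₀ k ⟶ T := fun k => MorphismProperty.Over.homMk (O k).ι
  refine GrothendieckTopology.transitive _ (ofArrows_mem_of_isOpenMap T₀ o
    (fun k => (O k).ι.isOpenEmbedding.isOpenMap) fun x => ?_) _ ?_
  · obtain ⟨k, hk⟩ := hO' x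
    exact ⟨k, ⟨x, hk⟩, rfl⟩
  rintro Y h ⟨_, c, _, ⟨k⟩, rfl⟩
  rw [Sieve.pullback_comp]
  refine GrothendieckTopology.pullback_stable _ c ?_
  haveI : IsAffine (T₀ k).left := hO k
  -- the pulled back sieve still pushes to a covering
  have hS' : (S.pullback (o k)).functorPushforward (ProEtS.bcP i) ∈
      Scheme.ProEt.topology Z ((ProEtS.bcP i).obj (T₀ k)) := by
    refine GrothendieckTopology.transitive _
      (GrothendieckTopology.pullback_stable _ ((ProEtS.bcP i).map (o k)) hS) _ ?_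
    rintro W' f ⟨T'', q, m', hq, heq⟩
    obtain ⟨R, hR, hR'⟩ := exists_lifts i W' T'' (T₀ k) m' f
    refine GrothendieckTopology.superset_covering _ (fun W'' r hr => ?_) hR
    obtain ⟨T₃, m, g, l, p, -, rfl, hl, hp⟩ := hR' r hr
    refine ⟨T₃, p, m, ?_, by rw [← hp, Category.assoc]⟩
    show S (p ≫ o k)
    have : p ≫ o k = l ≫ q := bcP_map_injective i (by
      rw [Functor.map_comp, Functor.map_comp, ← hp, ← hl, Category.assoc, Category.assoc, heq])
    rw [this]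
    exact S.downward_closed hq l
  have hh : IsAffineHom (pullback.fst (T₀ k).hom i) :=
    MorphismProperty.pullback_fst (P := @IsAffineHom) _ i inferInstance
  haveI : IsAffine ((𝟭 Scheme.{u}).obj (T₀ k).left) := hO k
  haveI : IsAffine ((ProEtS.bcP i).obj (T₀ k)).left :=
    @isAffine_of_isAffineHom _ _ (pullback.fst (T₀ k).hom i) hh _
  obtain ⟨n, W, g, hW, hg, hcov⟩ := exists_affine_refinement hS'
  choose T' p m hp hm using hg
  haveI := hW
  have hfin : ∀ j, ∃ s : Finset {O : (T' j).left.Opens // IsAffineOpen O},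
      ∀ w, ∃ O ∈ s, ((m j).left ≫ pullback.fst (T' j).hom i) w ∈ O.1 := fun j => by
    let F := (m j).left ≫ pullback.fst (T' j).hom i
    obtain ⟨t, ht⟩ := isCompact_univ.elim_finite_subcover
      (fun O : {O : (T' j).left.Opens // IsAffineOpen O} => F.base ⁻¹' (O.1 : Set (T' j).left))
      (fun O => O.1.2.preimage F.continuous) fun w _ => by
        obtain ⟨_, ⟨O, hO, rfl⟩, hx, -⟩ :=
          (T' j).left.isBasis_affineOpens.exists_subset_of_mem_open (Set.mem_univ (F w)) isOpen_univ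
        exact Set.mem_iUnion.2 ⟨⟨O, hO⟩, hx⟩
    exact ⟨t, fun w => by
      obtain ⟨O, hO1, hO2⟩ := Set.mem_iUnion₂.1 (ht (Set.mem_univ w))
      exact ⟨O, hO1, hO2⟩⟩
  choose s hs using hfin
  let κ := Σ j : Fin n, {O : {O : (T' j).left.Opens // IsAffineOpen O} // O ∈ s j}
  let V : κ → X.ProEt := fun c => Scheme.ProEt.mk (c.2.1.1.ι ≫ (T' c.1).hom)
  let v : ∀ c, V c ⟶ T₀ k := fun c =>
    (MorphismProperty.Over.homMk c.2.1.1.ι : V c ⟶ T' c.1) ≫ p c.1
  refine GrothendieckTopology.superset_covering _ ?_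
    (ofArrows_mem_of_affine_finite V (fun c => c.2.1.2) v fun x => ?_)
  · rw [Sieve.generate_le_iff]
    rintro _ _ ⟨c⟩
    exact (S.pullback (o k)).downward_closed (hp c.1) _
  · obtain ⟨y, rfl⟩ := (pullback.fst (T₀ k).hom i).surjective x
    obtain ⟨j, w, rfl⟩ := hcov y
    obtain ⟨O, hOs, hw⟩ := hs j w
    refine ⟨⟨j, O, hOs⟩, ⟨_, hw⟩, ?_⟩
    have e : (g j).left ≫ pullback.fst (T₀ k).hom i =
        ((m j).left ≫ pullback.fst (T' j).hom i) ≫ (p j).left := by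
      rw [hm j]
      exact (Category.assoc _ _ _).trans
        ((congrArg ((m j).left ≫ ·) (bcP_map_fst i (p j))).trans (Category.assoc _ _ _).symm)
    exact congr($(e.symm).base w)

theorem isDenseSubsite [ProEtS.PCont i] : (ProEtS.bcP i).IsDenseSubsite
    (Scheme.ProEt.topology X) (Scheme.ProEt.topology Z) where
  isCoverDense' := ⟨fun W => by
    obtain ⟨R, hR, hR'⟩ := exists_lifts i W (Scheme.ProEt.mk (𝟙 X)) (Scheme.ProEt.mk (𝟙 X))
      (MorphismProperty.Over.homMk (pullback.lift (W.hom ≫ i) W.hom (Category.comp_id _))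
        (pullback.lift_snd _ _ _) trivial)
      (MorphismProperty.Over.homMk (pullback.lift (W.hom ≫ i) W.hom (Category.comp_id _))
        (pullback.lift_snd _ _ _) trivial)
    refine GrothendieckTopology.superset_covering _ (fun W' f hf => ?_) hR
    obtain ⟨T, m, g, -, -, -, h, -, -⟩ := hR' f hf
    exact ⟨⟨T, m, g, h⟩⟩⟩
  isLocallyFull' := ⟨fun {T V} a => by
    obtain ⟨R, hR, hR'⟩ := exists_lifts i _ V T a (𝟙 _)
    refine GrothendieckTopology.superset_covering _ (fun W' f hf => ?_) hR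
    obtain ⟨T', m, g, l, p, -, rfl, hl, hp⟩ := hR' f hf
    rw [Category.comp_id] at hp
    exact ⟨T', p, m, ⟨l, by rw [← hl, hp]⟩, by rw [hp]⟩⟩
  isLocallyFaithful' := ⟨fun {T V} f₁ f₂ h => by
    obtain rfl := bcP_map_injective i h
    refine GrothendieckTopology.superset_covering _ ?_ ((Scheme.ProEt.topology Z).top_mem _)
    intro W' f _
    exact ⟨T, 𝟙 T, f, rfl, by simp⟩⟩
  functorPushforward_mem_iff := fun {T S} => ⟨functorPushforward_mem i,
    fun hS => by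
    haveI := flat_bcP i
    exact (Functor.isContinuous_iff_coverPreserving.1 ‹ProEtS.PCont i›).cover_preserve hS⟩

theorem isEquivalence_pushP [ProEtS.PCont i] : (ProEtS.pushP i).IsEquivalence := by
  haveI := isDenseSubsite i
  infer_instance

end GrothLib.ProEtS
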