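import Groth.Agent.Lib.ProEtS.Affine

/-!
# Weakly contractible objects of the small pro-étale site
-/

set_option autoImplicit false
set_option backward.isDefEq.respectTransparency.types false

universe u

open CategoryTheory CategoryTheory.Limits AlgebraicGeometry Opposite

namespace GrothLib.ProEtS

variable {X : Scheme.{u}}

/-- Local lifts along a disjoint open decomposition glue. -/
theorem exists_lift_of_disjoint {F G : Sheaf (Scheme.ProEt.topology X) (Type (u + 1))} (φ : F ⟶ G)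
    {U : X.ProEt} (s : G.obj.obj (op U)) {ι : Type u} (V : ι → X.ProEt) (f : ∀ i, V i ⟶ U)
    [∀ i, IsOpenImmersion (f i).left]
    (hd : ∀ i j, i ≠ j → Disjoint (Set.range (f i).left) (Set.range (f j).left))
    (hs : ∀ x : U.left, ∃ i y, (f i).left y = x)
    (hl : ∀ i, ∃ t, φ.hom.app (op (V i)) t = G.obj.map (f i).op s) :
    ∃ t, φ.hom.app (op U) t = s := by
  choose t ht using hl
  have hcov := ofArrows_mem_of_isOpenMap V f (fun i => (f i).left.isOpenEmbedding.isOpenMap) hs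
  have hF : (Presieve.ofArrows V f).IsSheafFor F.obj :=
    (Presieve.isSheafFor_iff_generate _).2 ((isSheaf_iff_isSheaf_of_type _ _).1 F.property _ hcov)
  have hG : (Presieve.ofArrows V f).IsSheafFor G.obj :=
    (Presieve.isSheafFor_iff_generate _).2 ((isSheaf_iff_isSheaf_of_type _ _).1 G.property _ hcov)
  obtain ⟨a, ha, -⟩ := (Presieve.isSheafFor_arrows_iff _ _).1 hF t (fun i j Z gi gj hij => by
    by_cases h : i = j
    · subst h
      obtain rfl : gi = gj := MorphismProperty.Over.Hom.ext <| by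
        rw [← cancel_mono (f i).left]
        exact congrArg CommaMorphism.left (congrArg MorphismProperty.Comma.Hom.toCommaMorphism hij)
      rfl
    · haveI : IsEmpty Z.left := ⟨fun z => Set.disjoint_left.1 (hd i j h) ⟨gi.left z, rfl⟩
        ⟨gj.left z, (congr($(hij).left.base z)).symm⟩⟩
      exact (((isSheaf_iff_isSheaf_of_type _ _).1 F.property _
        (Scheme.ProEt.bot_mem_topology Z)).isSeparatedFor).ext fun _ _ h => h.elim)
  refine ⟨a, hG.isSeparatedFor.ext ?_⟩
  rintro _ _ ⟨i⟩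
  rw [← ht i, ← ha i]
  exact (ConcreteCategory.congr_hom (φ.hom.naturality (f i).op) a).symm

theorem isLocallySurjective_of_epi {F G : Sheaf (Scheme.ProEt.topology X) (Type (u + 1))} (φ : F ⟶ G)
    (h : Epi φ) : Sheaf.IsLocallySurjective φ :=
  (Sheaf.isLocallySurjective_iff_epi φ).2 h

theorem isWC_of_disjoint {U : X.ProEt} {ι : Type u} (V : ι → X.ProEt) (f : ∀ i, V i ⟶ U)
    [∀ i, IsOpenImmersion (f i).left]
    (hd : ∀ i j, i ≠ j → Disjoint (Set.range (f i).left) (Set.range (f j).left))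
    (hs : ∀ x : U.left, ∃ i y, (f i).left y = x) (hV : ∀ i, ProEtS.IsWC (V i)) : ProEtS.IsWC U :=
  fun F G φ hφ s => exists_lift_of_disjoint φ s V f hd hs fun i => hV i F G φ hφ _

/-- Every covering is refined by a finite clopen decomposition. -/
def ClopenRefined (U : X.ProEt) : Prop :=
  ∀ R ∈ Scheme.ProEt.topology X U, ∃ (n : ℕ) (W : Fin n → U.left.Opens),
    (∀ k, IsClopen ((W k : Set ↥U.left))) ∧
    Pairwise (fun k l => Disjoint (W k : Set ↥U.left) (W l)) ∧ (⋃ k, (W k : Set ↥U.left)) = Set.univ ∧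
    ∀ k, R.arrows (MorphismProperty.Over.homMk (W k).ι : Scheme.ProEt.mk ((W k).ι ≫ U.hom) ⟶ U)

theorem isWC_of_clopenRefined {U : X.ProEt} (h : ClopenRefined U) : ProEtS.IsWC U := by
  intro F G φ hφ s
  haveI := isLocallySurjective_of_epi φ hφ
  obtain ⟨n, W, -, hd, hu, hR⟩ := h _ (Presheaf.imageSieve_mem _ φ.hom s)
  let V : ULift.{u} (Fin n) → X.ProEt := fun k => Scheme.ProEt.mk ((W k.down).ι ≫ U.hom)
  let f : ∀ k, V k ⟶ U := fun k => MorphismProperty.Over.homMk (W k.down).ι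
  haveI : ∀ k, IsOpenImmersion (f k).left := fun k => inferInstanceAs (IsOpenImmersion (W k.down).ι)
  refine exists_lift_of_disjoint φ s V f (fun i j hij => ?_) (fun x => ?_) (fun k => hR k.down)
  · show Disjoint (Set.range (W i.down).ι) (Set.range (W j.down).ι)
    rw [Scheme.Opens.range_ι, Scheme.Opens.range_ι]
    exact hd fun e => hij (ULift.ext _ _ e)
  · obtain ⟨k, hk⟩ := Set.mem_iUnion.1 (hu.symm ▸ Set.mem_univ x)
    exact ⟨⟨k⟩, ⟨x, hk⟩, rfl⟩

theorem isWContractible_of_isWC {U : X.ProEt} [IsAffine U.left] (h : ProEtS.IsWC U) :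
    EtPBC.IsWContractible ↥Γ(U.left, ⊤) := by
  refine isWContractible_of_exists_section fun W G _ _ _ => ?_
  let V : X.ProEt := Scheme.ProEt.mk (G ≫ U.hom)
  let g : V ⟶ U := MorphismProperty.Over.homMk G
  haveI : Surjective g.left := ‹_›
  haveI : QuasiCompact g.left := inferInstanceAs (QuasiCompact G)
  let ψ := (GrothendieckTopology.uliftYoneda.{u + 1} (Scheme.ProEt.topology X)).map g
  haveI : Sheaf.IsLocallySurjective ψ := ⟨fun {Z} a => by
    refine GrothendieckTopology.superset_covering _ ?_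
      ((Scheme.ProEt.topology X).pullback_stable a.down (generate_singleton_mem g))
    rintro Z' h ⟨W', k, _, ⟨⟩, e⟩
    exact ⟨⟨k⟩, congrArg ULift.up e⟩⟩
  obtain ⟨σ, hσ⟩ := h _ _ ψ inferInstance ⟨𝟙 U⟩
  exact ⟨σ.down.left, congrArg (fun m : U ⟶ U => m.left) (congrArg ULift.down hσ)⟩

theorem clopenRefined_aux {U : X.ProEt} {R : Sieve U} {n : ℕ} {V : Fin n → X.ProEt}
    (g : ∀ k, V k ⟶ U) (hg : ∀ k, R (g k)) {T : Scheme.{u}} (j : ∀ k, (V k).left ⟶ T)
    [∀ k, IsOpenImmersion (j k)] (G : T ⟶ U.left) (hG : ∀ k, j k ≫ G = (g k).left) (σ : U.left ⟶ T)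
    (hσ : σ ≫ G = 𝟙 _) (hdis : ∀ k l, k ≠ l → Disjoint (Set.range (j k)) (Set.range (j l)))
    (hcov : ∀ z : T, ∃ k y, j k y = z) :
    ∃ (n : ℕ) (W : Fin n → U.left.Opens),
      (∀ k, IsClopen ((W k : Set ↥U.left))) ∧
      Pairwise (fun k l => Disjoint (W k : Set ↥U.left) (W l)) ∧ (⋃ k, (W k : Set ↥U.left)) = Set.univ ∧
      ∀ k, R.arrows (MorphismProperty.Over.homMk (W k).ι : Scheme.ProEt.mk ((W k).ι ≫ U.hom) ⟶ U) := by
  let O : Fin n → U.left.Opens := fun k => σ ⁻¹ᵁ (j k).opensRange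
  have hd : Pairwise (fun k l => Disjoint (O k : Set ↥U.left) (O l)) := fun k l hkl =>
    (hdis k l hkl).preimage _
  have hu : (⋃ k, (O k : Set ↥U.left)) = Set.univ := by
    refine Set.eq_univ_of_forall fun x => ?_
    obtain ⟨k, y, hy⟩ := hcov (σ x)
    exact Set.mem_iUnion.2 ⟨k, y, hy⟩
  refine ⟨n, O, fun k => ⟨⟨?_⟩, (O k).2⟩, hd, hu, fun k => ?_⟩
  · have : ((O k : Set ↥U.left))ᶜ = ⋃ l ∈ {l | l ≠ k}, (O l : Set ↥U.left) := by
      ext x
      simp only [Set.mem_compl_iff, Set.mem_iUnion, Set.mem_setOf_eq]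
      constructor
      · intro hx
        obtain ⟨l, hl⟩ := Set.mem_iUnion.1 (hu.symm ▸ Set.mem_univ x)
        exact ⟨l, fun e => hx (e ▸ hl), hl⟩
      · rintro ⟨l, hl, hxl⟩ hx
        exact Set.disjoint_left.1 (hd hl) hxl hx
    rw [this]
    exact isOpen_biUnion fun l _ => (O l).2
  · have hr : Set.range ((O k).ι ≫ σ) ⊆ Set.range (j k) := by
      rintro _ ⟨y, rfl⟩
      exact y.2
    let l := IsOpenImmersion.lift (j k) _ hr
    have hl : l ≫ (g k).left = (O k).ι := by
      rw [← hG k, IsOpenImmersion.lift_fac_assoc, Category.assoc, hσ, Category.comp_id]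
    have hw : l ≫ (V k).hom = (O k).ι ≫ U.hom := by
      rw [← MorphismProperty.Over.w (g k), ← hl, Category.assoc]
    have e : (MorphismProperty.Over.homMk (O k).ι : Scheme.ProEt.mk ((O k).ι ≫ U.hom) ⟶ U)
        = (MorphismProperty.Over.homMk l hw trivial : Scheme.ProEt.mk ((O k).ι ≫ U.hom) ⟶ V k) ≫ g k :=
      MorphismProperty.Over.Hom.ext hl.symm
    rw [e]
    exact R.downward_closed (hg k) _

theorem clopenRefined_of_isWContractible {U : X.ProEt} [IsAffine U.left]
    (h : EtPBC.IsWContractible ↥Γ(U.left, ⊤)) : ClopenRefined U := by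
  intro R hR
  obtain ⟨n, V, g, hV, hg, hs⟩ := exists_affine_refinement hR
  haveI : WeaklyEtale (Sigma.desc fun k => (g k).left) :=
    IsZariskiLocalAtSource.sigmaDesc fun k => weaklyEtale_left (g k)
  haveI : Surjective (Sigma.desc fun k => (g k).left) := ⟨fun x => by
    obtain ⟨k, y, rfl⟩ := hs x
    exact ⟨Sigma.ι (fun k => (V k).left) k y, by rw [← Scheme.Hom.comp_apply, Sigma.ι_desc]⟩⟩
  obtain ⟨σ, hσ⟩ := exists_section (Sigma.desc fun k => (g k).left) h
  exact clopenRefined_aux g hg (Sigma.ι (fun k => (V k).left)) (Sigma.desc fun k => (g k).left)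
    (fun k => Sigma.ι_desc _ _) σ hσ
    (fun k l hkl => Set.disjoint_left.2 fun z hz hz' =>
      ((disjoint_opensRange_sigmaι (fun k => (V k).left) k l hkl).le_bot (show z ∈ _ ⊓ _ from ⟨hz, hz'⟩)))
    (fun z => (sigmaOpenCover (fun k => (V k).left)).exists_eq z)

theorem wContractible_tfae {U : X.ProEt} [IsAffine U.left] :
    (EtPBC.IsWContractible ↥Γ(U.left, ⊤) ↔ ProEtS.IsWC U) ∧
      (EtPBC.IsWContractible ↥Γ(U.left, ⊤) ↔ ClopenRefined U) :=
  ⟨⟨fun h => isWC_of_clopenRefined (clopenRefined_of_isWContractible h), isWContractible_of_isWC⟩,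
    ⟨clopenRefined_of_isWContractible, fun h => isWContractible_of_isWC (isWC_of_clopenRefined h)⟩⟩

end GrothLib.ProEtS
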