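import Groth.Agent.Lib.ProEtS.AdicModule
import Groth.Agent.Lib.ProEtS.EpsModExact
import Groth.Agent.Lib.ProEtS.Cover
import Groth.Agent.Lib.ModConstr.Adic

/-!
# Sheaves of modules on the pro-étale site and weakly contractible objects
-/

set_option autoImplicit false
set_option linter.style.haveILetI false
set_option linter.unusedSectionVars false
set_option backward.isDefEq.respectTransparency.types false

universe u

open CategoryTheory CategoryTheory.Limits AlgebraicGeometry Opposite

noncomputable section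

namespace GrothLib.ProEtS

open _root_.ARSys
open TrivMod

variable {X : Scheme.{u}} {Λ : Type (u + 1)} [CommRing Λ]

/-- Sections over an object of the pro-étale site. -/
abbrev evalP (Λ : Type (u + 1)) [CommRing Λ] (U : X.ProEt) : EtModW.ModP Λ X ⥤ ModuleCat.{u + 1} Λ :=
  sheafToPresheaf (Scheme.ProEt.topology X) (ModuleCat.{u + 1} Λ) ⋙ (evaluation _ _).obj (op U)

instance additive_evalP (U : X.ProEt) : (evalP Λ U).Additive where

instance linear_evalP (U : X.ProEt) : (evalP Λ U).Linear Λ where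

theorem surjective_evalP_of_epi {F G : EtModW.ModP Λ X} (φ : F ⟶ G) [Epi φ] {U : X.ProEt} (hU : ProEtS.IsWC U) :
    Function.Surjective ((evalP Λ U).map φ).hom := by
  haveI := hasSheafCompose_moduleCat Λ X
  haveI : Sheaf.IsLocallySurjective φ := (Sheaf.isLocallySurjective_iff_epi' _ φ).2 ‹_›
  let ψ := (sheafCompose (Scheme.ProEt.topology X) (forget (ModuleCat.{u + 1} Λ))).map φ
  haveI : Sheaf.IsLocallySurjective ψ := (Presheaf.isLocallySurjective_iff_whisker_forget _ φ.hom).1 ‹_›
  exact hU _ _ ψ inferInstance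

theorem preservesFiniteColimits_evalP {U : X.ProEt} (hU : ProEtS.IsWC U) :
    PreservesFiniteColimits (evalP Λ U) := by
  haveI : PreservesFiniteLimits (evalP Λ U) := inferInstance
  refine ((evalP Λ U).preservesFiniteColimits_iff_forall_exact_map_and_epi).2 fun S hS => ?_
  obtain ⟨he, -⟩ := ((evalP Λ U).preservesFiniteLimits_iff_forall_exact_map_and_mono).1 inferInstance S hS
  haveI := hS.epi_g
  exact ⟨he, (ModuleCat.epi_iff_surjective _).2 (surjective_evalP_of_epi S.g hU)⟩

theorem exists_wc_cover (V : X.ProEt) :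
    ∃ (W : X.ProEt) (g : W ⟶ V), Sieve.generate (Presieve.singleton g) ∈ Scheme.ProEt.topology X V ∧ ProEtS.IsWC W :=
  exists_cover_isWC V

theorem eq_of_wc {F : EtModW.ModP Λ X} {V : X.ProEt} {s t : F.obj.obj (op V)}
    (h : ∀ (W : X.ProEt) (g : W ⟶ V), ProEtS.IsWC W → res _ F g s = res _ F g t) : s = t := by
  haveI := hasSheafCompose_moduleCat Λ X
  obtain ⟨W, g, hcov, hW⟩ := exists_wc_cover V
  refine res_ext _ hcov ?_
  rintro W' k ⟨_, a, _, ⟨⟩, rfl⟩
  rw [res_comp, h W g hW, ← res_comp]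

theorem hom_ext_wc {F G : EtModW.ModP Λ X} {φ ψ : F ⟶ G}
    (h : ∀ U : X.ProEt, ProEtS.IsWC U → (evalP Λ U).map φ = (evalP Λ U).map ψ) : φ = ψ := by
  refine Sheaf.hom_ext (NatTrans.ext (funext fun V => ModuleCat.hom_ext (LinearMap.ext fun s => ?_)))
  refine eq_of_wc fun W g hW => ?_
  refine (NatTrans.naturality_apply φ.hom g.op s).symm.trans ?_
  refine Eq.trans ?_ (NatTrans.naturality_apply ψ.hom g.op s)
  exact ConcreteCategory.congr_hom (h W hW) _

theorem epi_of_wc {F G : EtModW.ModP Λ X} (φ : F ⟶ G)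
    (h : ∀ U : X.ProEt, ProEtS.IsWC U → Function.Surjective ((evalP Λ U).map φ).hom) : Epi φ := by
  haveI := hasSheafCompose_moduleCat Λ X
  refine (Sheaf.isLocallySurjective_iff_epi' _ φ).1 ⟨fun {V} s => ?_⟩
  obtain ⟨W, g, hcov, hW⟩ := exists_wc_cover V
  refine (Scheme.ProEt.topology X).superset_covering ?_ hcov
  rw [Sieve.generate_le_iff]
  rintro _ _ ⟨⟩
  exact h W hW _

theorem mono_of_wc {F G : EtModW.ModP Λ X} (φ : F ⟶ G)
    (h : ∀ U : X.ProEt, ProEtS.IsWC U → Function.Injective ((evalP Λ U).map φ).hom) : Mono φ := by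
  refine Preadditive.mono_of_cancel_zero φ fun {K} k hk => hom_ext_wc fun U hU => ?_
  refine ModuleCat.hom_ext (LinearMap.ext fun x => h U hU ?_)
  refine (ConcreteCategory.congr_hom (((evalP Λ U).map_comp k φ).symm.trans (congrArg (evalP Λ U).map hk)) x).trans ?_
  rw [Functor.map_zero, Functor.map_zero]
  exact (map_zero _).symm

theorem isIso_of_wc {F G : EtModW.ModP Λ X} (φ : F ⟶ G)
    (h : ∀ U : X.ProEt, ProEtS.IsWC U → Function.Bijective ((evalP Λ U).map φ).hom) : IsIso φ := by
  haveI := epi_of_wc φ fun U hU => (h U hU).2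
  haveI := mono_of_wc φ fun U hU => (h U hU).1
  exact isIso_of_mono_of_epi φ

theorem isQuot_evalP {I : Ideal Λ} (hI : I.FG) {F Q : EtModW.ModP Λ X} {p : F ⟶ Q} (h : IsQuot I p)
    {U : X.ProEt} (hU : ProEtS.IsWC U) : IsQuot I ((evalP Λ U).map p) := by
  haveI := preservesFiniteColimits_evalP (Λ := Λ) hU
  exact GrothLib.ModConstr.isQuot_map (evalP Λ U) hI h

theorem isQuot_of_wc {I : Ideal Λ} {F Q : EtModW.ModP Λ X} (p : F ⟶ Q)
    (h : ∀ U : X.ProEt, ProEtS.IsWC U → IsQuot I ((evalP Λ U).map p)) : IsQuot I p := by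
  haveI : Epi p := epi_of_wc p fun U hU => ((GrothLib.AdicModule.isQuot_iff _).1 (h U hU)).1
  refine ⟨fun a ha => hom_ext_wc fun U hU => ?_, fun Y φ hφ => ?_⟩
  · rw [Functor.map_smul, Functor.map_zero, CategoryTheory.Functor.map_id]
    exact (h U hU).1 a ha
  · have h0 : kernel.ι p ≫ φ = 0 := hom_ext_wc fun U hU => by
      rw [Functor.map_zero]
      refine ModuleCat.hom_ext (LinearMap.ext fun x => ?_)
      have hx : ((evalP Λ U).map (kernel.ι p)) x ∈ LinearMap.ker ((evalP Λ U).map p).hom := by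
        refine (ConcreteCategory.congr_hom (((evalP Λ U).map_comp _ p).symm.trans
          (congrArg (evalP Λ U).map (kernel.condition p))) x).trans ?_
        rw [Functor.map_zero]
        rfl
      rw [((GrothLib.AdicModule.isQuot_iff _).1 (h U hU)).2] at hx
      refine (ConcreteCategory.congr_hom ((evalP Λ U).map_comp _ φ) x).trans ?_
      show ((evalP Λ U).map φ) (((evalP Λ U).map (kernel.ι p)) x) = 0
      refine Submodule.smul_induction_on hx (fun a ha y _ => ?_) fun y z hy hz => ?_
      · have := congrArg (fun t : F ⟶ Y => (evalP Λ U).map t y) (hφ a ha)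
        simp only [Functor.map_smul, Functor.map_zero] at this
        rw [map_smul]
        exact this
      · rw [map_add, hy, hz, add_zero]
    obtain ⟨l, hl⟩ := CokernelCofork.IsColimit.desc' (Abelian.epiIsCokernelOfKernel _ (limit.isLimit (parallelPair p 0))) φ h0
    exact ⟨l, hl, fun y hy => (cancel_epi p).1 (hy.trans hl.symm)⟩

/-- The limit of an adic system of sheaves. -/
theorem isQuot_limit_π {I : Ideal Λ} (hI : I.FG) {P : PS (EtModW.ModP Λ X)} (hP : IsAdic I P) {c : Cone P}
    (hc : IsLimit c) (n : ℕ) : IsQuot (I ^ (n + 1)) (c.π.app (op n)) := by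
  refine isQuot_of_wc _ fun U hU => ?_
  haveI := preservesFiniteColimits_evalP (Λ := Λ) hU
  exact GrothLib.AdicModule.isQuot_π hI (GrothLib.ModConstr.isAdic_map (evalP Λ U) hI hP)
    (isLimitOfPreserves (evalP Λ U) hc) n

end GrothLib.ProEtS
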